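import Mathlib
import Cfsg.Agent.Lib.Frobenius.FixedPointFree

/-!
# Groups acting fixed-point-freely in characteristic prime to their order act so in characteristic 0
-/

namespace Cfsg.Agent.Lib.Spectrum.FPFRep

open Cfsg.Agent.Lib.Frobenius

variable {G : Type*} [Group G] [Finite G]

/-- Lifting a representation over `ZMod p` to `ZMod (p ^ k)` for a group of order prime to `p`. -/
theorem exists_lift {p : ℕ} [hp : Fact p.Prime] (k : ℕ) (hk : k ≠ 0) {n : ℕ}
    (hcop : (Nat.card G).Coprime p) (ρ₀ : G →* GL (Fin n) (ZMod p)) :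
    ∃ σ : G →* GL (Fin n) (ZMod (p ^ k)), ∀ g,
      (σ g : Matrix (Fin n) (Fin n) (ZMod (p ^ k))).map (ZMod.castHom (dvd_pow_self p hk) (ZMod p)) =
        ρ₀ g := by
  classical
  have : NeZero (p ^ k) := ⟨pow_ne_zero _ hp.out.ne_zero⟩
  set c := ZMod.castHom (dvd_pow_self p hk) (ZMod p)
  let f : GL (Fin n) (ZMod (p ^ k)) →* GL (Fin n) (ZMod p) := Units.map c.mapMatrix.toMonoidHom
  have hunit : ∀ z : ZMod (p ^ k), IsUnit (c z) → IsUnit z := by
    intro z hz
    rw [← ZMod.natCast_zmod_val z] at hz ⊢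
    rw [map_natCast, ZMod.isUnit_iff_coprime] at hz
    rw [ZMod.isUnit_iff_coprime]
    exact hz.pow_right k
  have hmat : ∀ A : Matrix (Fin n) (Fin n) (ZMod (p ^ k)), IsUnit (A.map c) → IsUnit A := by
    intro A hA
    rw [Matrix.isUnit_iff_isUnit_det] at hA ⊢
    refine hunit _ ?_
    rwa [RingHom.map_det, RingHom.mapMatrix_apply]
  have hsurj : Function.Surjective f := by
    intro B
    obtain ⟨A, hA⟩ : ∃ A : Matrix (Fin n) (Fin n) (ZMod (p ^ k)), A.map c = B := by
      refine ⟨(B : Matrix (Fin n) (Fin n) (ZMod p)).map fun z => ((z.val : ℕ) : ZMod (p ^ k)), ?_⟩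
      ext i j
      simp
    obtain ⟨u, hu⟩ := hmat A (hA ▸ B.isUnit)
    exact ⟨u, Units.ext (by rw [← hA, ← hu]; rfl)⟩
  -- the kernel is a `p`-group
  let fA : Matrix (Fin n) (Fin n) (ZMod (p ^ k)) →+ Matrix (Fin n) (Fin n) (ZMod p) :=
    c.mapMatrix.toAddMonoidHom
  let eK : f.ker ≃ fA.ker :=
    { toFun := fun u => ⟨(u.1 : Matrix (Fin n) (Fin n) (ZMod (p ^ k))) - 1, by
        have := congrArg Units.val u.2
        change c.mapMatrix (u.1 : Matrix (Fin n) (Fin n) (ZMod (p ^ k))) = 1 at this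
        change c.mapMatrix ((u.1 : Matrix (Fin n) (Fin n) (ZMod (p ^ k))) - 1) = 0
        rw [map_sub, map_one, this, sub_self]⟩
      invFun := fun X => ⟨(hmat (1 + X.1) (by
          change IsUnit (c.mapMatrix (1 + X.1))
          rw [map_add, map_one, show c.mapMatrix X.1 = 0 from X.2, add_zero]
          exact isUnit_one)).unit, Units.ext (by
          change c.mapMatrix (1 + X.1) = 1
          rw [map_add, map_one, show c.mapMatrix X.1 = 0 from X.2, add_zero])⟩
      left_inv := fun u => Subtype.ext (Units.ext (by simp))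
      right_inv := fun X => Subtype.ext (by simp) }
  have hker : IsPGroup p f.ker := by
    have h1 : Nat.card fA.ker ∣ Nat.card (Matrix (Fin n) (Fin n) (ZMod (p ^ k))) :=
      fA.ker.card_addSubgroup_dvd_card
    have h2 : Nat.card (Matrix (Fin n) (Fin n) (ZMod (p ^ k))) = p ^ (k * (n * n)) := by
      rw [Matrix, Nat.card_fun, Nat.card_fun, Nat.card_zmod, Nat.card_fin, ← pow_mul, ← pow_mul]
    rw [h2, ← Nat.card_congr eK] at h1
    obtain ⟨a, -, ha⟩ := (Nat.dvd_prime_pow hp.out).1 h1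
    exact IsPGroup.of_card ha
  set E := ρ₀.range.comap f with hE
  let π : E →* ρ₀.range := (f.comp E.subtype).codRestrict _ (fun x => x.2)
  have hπ : Function.Surjective π := by
    rintro ⟨b, hb⟩
    obtain ⟨a, rfl⟩ := hsurj b
    exact ⟨⟨a, hb⟩, rfl⟩
  have hπker : IsPGroup p π.ker := by
    refine hker.of_injective ((E.subtype.comp π.ker.subtype).codRestrict f.ker fun x => ?_) ?_
    · have := congrArg Subtype.val x.2
      exact this
    · intro x y h
      exact Subtype.ext (Subtype.ext (congrArg Subtype.val h :))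
  have hidx : π.ker.index = Nat.card ρ₀.range := by
    rw [Subgroup.index_ker, MonoidHom.range_eq_top.2 hπ, Subgroup.card_top]
  have hdvd : Nat.card ρ₀.range ∣ Nat.card G :=
    Subgroup.card_dvd_of_surjective ρ₀.rangeRestrict ρ₀.rangeRestrict_surjective
  obtain ⟨a, ha⟩ := hπker.exists_card_eq
  obtain ⟨C, hC⟩ := Subgroup.exists_right_complement'_of_coprime (N := π.ker) (by
    rw [hidx, ha]
    exact ((hcop.symm.pow_left a).coprime_dvd_right hdvd))
  have hbij : Function.Bijective (π.comp C.subtype) := by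
    refine Function.Injective.bijective_of_nat_card_le ?_ ?_
    · rw [← MonoidHom.ker_eq_bot_iff, Subgroup.eq_bot_iff_forall]
      intro x hx
      exact Subtype.ext (Subgroup.mem_bot.1 (hC.disjoint.eq_bot ▸ ⟨hx, x.2⟩ : (x : E) ∈ (⊥ : Subgroup E)))
    · rw [← hidx, hC.symm.index_eq_card]
  let e : C ≃* ρ₀.range := MulEquiv.ofBijective _ hbij
  refine ⟨E.subtype.comp (C.subtype.comp (e.symm.toMonoidHom.comp ρ₀.rangeRestrict)), fun g => ?_⟩
  have h1 : π ((e.symm (ρ₀.rangeRestrict g) : C) : E) = ρ₀.rangeRestrict g :=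
    e.apply_symm_apply (ρ₀.rangeRestrict g)
  exact congrArg (fun z : ρ₀.range => ((z : GL (Fin n) (ZMod p)) : Matrix (Fin n) (Fin n) (ZMod p))) h1

theorem exists_matrix_rep (k : Type*) [Field k] {A : Type*} [AddCommGroup A] [Module k A]
    [Module.Finite k A] [Nontrivial A] (r : G → A →+ A)
    (hlin : ∀ g (c : k) a, r g (c • a) = c • r g a) (h1 : ∀ a, r 1 a = a)
    (hm : ∀ g h a, r (g * h) a = r g (r h a)) :
    ∃ n : ℕ, 0 < n ∧ ∃ ρ₀ : G →* GL (Fin n) k, ∀ (s : Finset ℕ) (z : ℕ → G),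
      (∀ a, ∑ i ∈ s, r (z i) a = 0) → ∑ i ∈ s, (ρ₀ (z i) : Matrix (Fin n) (Fin n) k) = 0 := by
  obtain ⟨n, hn⟩ : ∃ n, Module.finrank k A = n := ⟨_, rfl⟩
  have hn0 : 0 < n := by rw [← hn]; exact Module.finrank_pos
  let b := Module.finBasisOfFinrankEq k A hn
  let L : G →* Module.End k A :=
    { toFun := fun g => { toFun := r g, map_add' := map_add (r g), map_smul' := hlin g }
      map_one' := LinearMap.ext h1
      map_mul' := fun g h => LinearMap.ext (hm g h) }
  refine ⟨n, hn0, ((LinearMap.toMatrixAlgEquiv b).toMulEquiv.toMonoidHom.comp L).toHomUnits,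
    fun s z hs => ?_⟩
  have hsum : ∑ i ∈ s, L (z i) = 0 := LinearMap.ext fun a => by
    rw [LinearMap.sum_apply, LinearMap.zero_apply]; exact hs a
  change ∑ i ∈ s, LinearMap.toMatrixAlgEquiv b (L (z i)) = 0
  rw [← map_sum, hsum, map_zero]

/-- For every `k` there is a function `G → ZMod (p ^ k)` with value `1` at `1` annihilated by all
norms of elements of prime order. -/
theorem exists_mod_solution {V : Type*} [CommGroup V] [Finite V] [Nontrivial V]
    (ρ : G →* MulAut V) (hρ : IsFPF ρ) :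
    ∃ p : ℕ, p.Prime ∧ ∀ k, k ≠ 0 → ∃ f : G → ZMod (p ^ k), f 1 = 1 ∧
      ∀ z : G, (orderOf z).Prime → ∀ x : G, ∑ i ∈ Finset.range (orderOf z), f (z ^ i * x) = 0 := by
  classical
  obtain ⟨p, hp, hpV⟩ := Nat.exists_prime_and_dvd (Finite.one_lt_card (α := V)).ne'
  have : Fact p.Prime := ⟨hp⟩
  obtain ⟨v₀, hv₀⟩ := exists_prime_orderOf_dvd_card' p hpV
  have hcop : (Nat.card G).Coprime p := hρ.coprime_card.coprime_dvd_right hpV
  let W : Subgroup V := (powMonoidHom p : V →* V).ker
  have hW : ∀ v : V, v ∈ W ↔ v ^ p = 1 := fun v => Iff.rfl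
  let r : G → Additive W →+ Additive W := fun g => MonoidHom.toAdditive
    { toFun := fun w => ⟨ρ g w.1, by rw [hW, ← map_pow, (hW _).1 w.2, map_one]⟩
      map_one' := Subtype.ext (map_one _)
      map_mul' := fun a b => Subtype.ext (map_mul _ _ _) }
  have hr : ∀ g (w : Additive W), ((Additive.toMul (r g w) : W) : V) = ρ g (Additive.toMul w : W) :=
    fun g w => rfl
  have hntriv : Nontrivial (Additive W) := by
    refine ⟨Additive.ofMul ⟨v₀, ?_⟩, 0, fun h => ?_⟩
    · rw [hW, ← hv₀, pow_orderOf_eq_one]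
    · have := congrArg (fun w => ((Additive.toMul w : W) : V)) h
      simp only [toMul_ofMul] at this
      rw [show v₀ = 1 from this, orderOf_one] at hv₀
      exact hp.ne_one hv₀.symm
  have hW0 : ∀ w : Additive W, p • w = 0 := fun v => by
    apply Additive.toMul.injective
    refine Subtype.ext ?_
    change ((Additive.toMul v) ^ p : W).1 = 1
    rw [SubmonoidClass.coe_pow]
    exact (hW _).1 (Additive.toMul v).2
  letI modW := AddCommGroup.zmodModule (n := p) hW0
  have finW : Module.Finite (ZMod p) (Additive W) := Module.Finite.of_finite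
  obtain ⟨n, hn0, ρ₀, hρ₀⟩ := exists_matrix_rep (ZMod p) r (fun g c a => ZMod.map_smul (r g) c a)
    (fun w => Additive.toMul.injective (Subtype.ext (by rw [hr, map_one, MulAut.one_apply])))
    (fun a b w => Additive.toMul.injective (Subtype.ext (by rw [hr, map_mul, MulAut.mul_apply, hr, hr])))
  refine ⟨p, hp, fun k hk => ?_⟩
  have : NeZero (p ^ k) := ⟨pow_ne_zero _ hp.ne_zero⟩
  obtain ⟨σ, hσ⟩ := exists_lift k hk hcop ρ₀
  set i₀ : Fin n := ⟨0, hn0⟩
  refine ⟨fun g => (σ g : Matrix (Fin n) (Fin n) (ZMod (p ^ k))) i₀ i₀, by simp, fun z hz x => ?_⟩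
  set S : Matrix (Fin n) (Fin n) (ZMod (p ^ k)) := ↑(σ z) with hS
  set M := ∑ i ∈ Finset.range (orderOf z), S ^ i with hM
  have hpow : ∀ i, S ^ i = (σ (z ^ i) : Matrix (Fin n) (Fin n) (ZMod (p ^ k))) := fun i => by
    rw [map_pow, Units.val_pow_eq_pow_val]
  have hz1 : z ≠ 1 := fun e => hz.ne_one (by rw [e, orderOf_one])
  have hL : ∑ i ∈ Finset.range (orderOf z), (ρ₀ (z ^ i) : Matrix (Fin n) (Fin n) (ZMod p)) = 0 := by
    refine hρ₀ _ (fun i => z ^ i) fun w => Additive.toMul.injective (Subtype.ext ?_)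
    rw [toMul_sum, SubmonoidClass.coe_finsetProd]
    exact hρ.prod_range hz1 (pow_orderOf_eq_one z) _
  have hMc : M.map (ZMod.castHom (dvd_pow_self p hk) (ZMod p)) = 0 := by
    rw [hM, ← RingHom.mapMatrix_apply, map_sum]
    calc ∑ i ∈ Finset.range (orderOf z), (ZMod.castHom (dvd_pow_self p hk) (ZMod p)).mapMatrix (S ^ i)
        = ∑ i ∈ Finset.range (orderOf z), (ρ₀ (z ^ i) : Matrix (Fin n) (Fin n) (ZMod p)) :=
          Finset.sum_congr rfl fun i _ => by rw [hpow, RingHom.mapMatrix_apply, hσ]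
      _ = 0 := hL
  obtain ⟨X, hX⟩ : ∃ X, M = p • X := by
    have : ∀ i j, ∃ a : ZMod (p ^ k), M i j = p • a := by
      intro i j
      have h0 : ZMod.castHom (dvd_pow_self p hk) (ZMod p) (M i j) = 0 :=
        congrFun (congrFun hMc i) j
      rw [← ZMod.natCast_zmod_val (M i j), map_natCast, ZMod.natCast_eq_zero_iff] at h0
      obtain ⟨a, ha⟩ := h0
      refine ⟨(a : ZMod (p ^ k)), ?_⟩
      rw [nsmul_eq_mul, ← Nat.cast_mul, ← ha, ZMod.natCast_zmod_val]
    choose X hX using this
    exact ⟨Matrix.of X, Matrix.ext fun i j => hX i j⟩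
  have hSM : S * M = M := by
    have h := mul_geom_sum S (orderOf z)
    rw [hpow (orderOf z), pow_orderOf_eq_one, map_one, Units.val_one, sub_self, sub_mul, one_mul,
      sub_eq_zero] at h
    exact h
  have hSiM : ∀ i, S ^ i * M = M := by
    intro i
    induction i with
    | zero => simp
    | succ i ih => rw [pow_succ, mul_assoc, hSM, ih]
  have hMM : M * M = orderOf z • M := by
    nth_rewrite 1 [hM]
    rw [Finset.sum_mul, Finset.sum_congr rfl fun i _ => hSiM i, Finset.sum_const, Finset.card_range]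
  have hit : ∀ j, (orderOf z) ^ j • M = M ^ (j + 1) := by
    intro j
    induction j with
    | zero => simp
    | succ j ih =>
      rw [pow_succ M, ← ih, smul_mul_assoc, hMM, smul_smul, pow_succ]
  have hM0 : M = 0 := by
    have h := hit k
    rw [pow_succ M, hX, smul_pow, ← hX] at h
    have hpk : p ^ k • X ^ k = 0 := by
      rw [← Nat.cast_smul_eq_nsmul (ZMod (p ^ k)), ZMod.natCast_self, zero_smul]
    rw [hpk, zero_mul, ← Nat.cast_smul_eq_nsmul (ZMod (p ^ k))] at h
    have hu : IsUnit (((orderOf z ^ k : ℕ)) : ZMod (p ^ k)) := by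
      rw [ZMod.isUnit_iff_coprime]
      exact ((hcop.coprime_dvd_left (orderOf_dvd_natCard z)).pow k k)
    exact hu.smul_eq_zero.1 h
  have h : (M * (σ x : Matrix (Fin n) (Fin n) (ZMod (p ^ k)))) i₀ i₀ = 0 := by simp [hM0]
  rw [hM, Finset.sum_mul, Matrix.sum_apply] at h
  rw [← h]
  exact Finset.sum_congr rfl fun i _ => by rw [hpow, ← Units.val_mul, ← map_mul]

/-- The space of functions annihilated by all norms of elements of prime order is nonzero. -/
theorem exists_rat_solution {V : Type*} [CommGroup V] [Finite V] [Nontrivial V]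
    (ρ : G →* MulAut V) (hρ : IsFPF ρ) :
    ∃ f : G → ℚ, f ≠ 0 ∧
      ∀ z : G, (orderOf z).Prime → ∀ x : G, ∑ i ∈ Finset.range (orderOf z), f (z ^ i * x) = 0 := by
  classical
  have : Fintype G := Fintype.ofFinite G
  by_contra hno
  push Not at hno
  let ι := {z : G // (orderOf z).Prime} × G
  let T : ι → ((G → ℚ) →ₗ[ℚ] ℚ) := fun t =>
    ∑ i ∈ Finset.range (orderOf t.1.1), LinearMap.proj (t.1.1 ^ i * t.2)
  have hspan : (LinearMap.proj (1 : G) : (G → ℚ) →ₗ[ℚ] ℚ) ∈ Submodule.span ℚ (Set.range T) := by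
    refine mem_span_of_iInf_ker_le_ker fun f hf => ?_
    simp only [Submodule.mem_iInf, LinearMap.mem_ker] at hf
    have : f = 0 := by
      by_contra hf0
      obtain ⟨z, hz, x, hx⟩ := hno f hf0
      exact hx (by simpa [T] using hf (⟨z, hz⟩, x))
    simp [this]
  obtain ⟨c, hc⟩ := (Submodule.mem_span_range_iff_exists_fun ℚ).1 hspan
  set d : ℕ := ∏ t, (c t).den with hd
  have hd0 : 0 < d := Finset.prod_pos fun t _ => (c t).pos
  have hint : ∀ t, ∃ a : ℤ, (d : ℚ) * c t = a := by
    intro t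
    obtain ⟨e, he⟩ : (c t).den ∣ d := Finset.dvd_prod_of_mem _ (Finset.mem_univ t)
    refine ⟨e * (c t).num, ?_⟩
    rw [he]; push_cast
    rw [mul_comm ((c t).den : ℚ), mul_assoc, Rat.den_mul_eq_num]
  choose a ha using hint
  have key : ∀ g : G → ℤ, (d : ℤ) * g 1 =
      ∑ t : ι, a t * ∑ i ∈ Finset.range (orderOf t.1.1), g (t.1.1 ^ i * t.2) := by
    intro g
    have h := congrArg (fun L : (G → ℚ) →ₗ[ℚ] ℚ => (d : ℚ) * L (fun y => (g y : ℚ))) hc
    simp only [LinearMap.sum_apply, LinearMap.smul_apply, T, LinearMap.proj_apply, smul_eq_mul,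
      Finset.mul_sum, ← mul_assoc, ha] at h
    apply Int.cast_injective (α := ℚ)
    push_cast
    rw [← h]
    simp only [Finset.mul_sum]
  obtain ⟨p, hp, hsol⟩ := exists_mod_solution ρ hρ
  obtain ⟨f, hf1, hf⟩ := hsol d hd0.ne'
  have : NeZero (p ^ d) := ⟨pow_ne_zero _ hp.ne_zero⟩
  have h := congrArg (fun z : ℤ => (z : ZMod (p ^ d))) (key fun y => ((f y).val : ℤ))
  push_cast at h
  simp only [ZMod.natCast_zmod_val, hf1, mul_one] at h
  rw [Finset.sum_eq_zero fun t _ => by rw [hf t.1.1 t.1.2 t.2, mul_zero]] at h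
  rw [ZMod.natCast_eq_zero_iff] at h
  exact absurd (Nat.le_of_dvd hd0 h) (not_le.2 (Nat.lt_pow_self hp.one_lt))

/-- A group with a fixed-point-free action on a nontrivial finite abelian group has a faithful
irreducible fixed-point-free representation over any field of characteristic zero. -/
theorem exists_irreducible (K : Type*) [Field K] [CharZero K] {V : Type*} [CommGroup V] [Finite V]
    [Nontrivial V] (ρ : G →* MulAut V) (hρ : IsFPF ρ) :
    ∃ (n : ℕ) (r : G →* GL (Fin n) K), 0 < n ∧ Function.Injective r ∧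
      (∀ W : Submodule K (Fin n → K),
        (∀ g : G, ∀ w ∈ W, ((r g : GL (Fin n) K) : Matrix (Fin n) (Fin n) K).mulVec w ∈ W) →
          W = ⊥ ∨ W = ⊤) ∧
      ∀ g : G, g ≠ 1 → ∀ v : Fin n → K,
        ((r g : GL (Fin n) K) : Matrix (Fin n) (Fin n) K).mulVec v = v → v = 0 := by
  classical
  let R : G →* Module.End K (G → K) :=
    { toFun := fun g => LinearMap.funLeft K K (· * g)
      map_one' := by ext f x; simp [LinearMap.funLeft_apply]
      map_mul' := fun a b => by ext f x; simp [LinearMap.funLeft_apply, mul_assoc] }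
  have hR : ∀ (g : G) (f : G → K) (x : G), R g f x = f (x * g) := fun _ _ _ => rfl
  let S : Submodule K (G → K) :=
    ⨅ t : {z : G // (orderOf z).Prime} × G,
      LinearMap.ker (∑ i ∈ Finset.range (orderOf t.1.1),
        (LinearMap.proj (t.1.1 ^ i * t.2) : (G → K) →ₗ[K] K))
  have hS : ∀ f, f ∈ S ↔ ∀ z : G, (orderOf z).Prime → ∀ x : G,
      ∑ i ∈ Finset.range (orderOf z), f (z ^ i * x) = 0 := by
    intro f
    simp [S, Submodule.mem_iInf]
  have hSinv : ∀ g, ∀ f ∈ S, R g f ∈ S := by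
    intro g f hf
    rw [hS] at hf ⊢
    intro z hz x
    simpa only [hR, mul_assoc] using hf z hz (x * g)
  have hSne : S ≠ ⊥ := by
    obtain ⟨f, hf0, hf⟩ := exists_rat_solution ρ hρ
    intro hbot
    have hmem : (fun y => (f y : K)) ∈ S := by
      rw [hS]
      intro z hz x
      rw [← Rat.cast_sum, hf z hz x, Rat.cast_zero]
    rw [hbot, Submodule.mem_bot] at hmem
    exact hf0 (funext fun y => Rat.cast_injective ((congrFun hmem y).trans Rat.cast_zero.symm))
  have hfpf : ∀ g : G, g ≠ 1 → ∀ f ∈ S, R g f = f → f = 0 := by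
    intro g hg f hf hfix
    obtain ⟨q, hq, hqd⟩ := Nat.exists_prime_and_dvd (n := orderOf g) (mt orderOf_eq_one_iff.1 hg)
    set z := g ^ (orderOf g / q)
    have hz : orderOf z = q := orderOf_pow_orderOf_div (orderOf_pos g).ne' hqd
    have hi : ∀ (i : ℕ) (x : G), f (x * g ^ i) = f x := by
      intro i
      induction i with
      | zero => simp
      | succ i ih => intro x; rw [pow_succ, ← mul_assoc, ← hR g f, hfix, ih]
    funext x
    have hzx : orderOf (x * z * x⁻¹) = q := by
      rw [← hz]; exact (MulEquiv.orderOf_eq (MulAut.conj x) z)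
    have h := (hS f).1 hf (x * z * x⁻¹) (by rwa [hzx]) x
    rw [Finset.sum_congr rfl fun i _ => by
        rw [conj_pow, inv_mul_cancel_right, ← pow_mul, hi], Finset.sum_const, Finset.card_range,
      hzx, nsmul_eq_mul] at h
    exact (mul_eq_zero.1 h).resolve_left (Nat.cast_ne_zero.2 hq.ne_zero)
  obtain ⟨U, ⟨hUinv, hUne, hUS⟩, hUmin⟩ := wellFounded_lt.has_min
    {U : Submodule K (G → K) | (∀ g, ∀ f ∈ U, R g f ∈ U) ∧ U ≠ ⊥ ∧ U ≤ S} ⟨S, hSinv, hSne, le_rfl⟩
  let RU : G →* Module.End K U :=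
    { toFun := fun g => (R g).restrict (hUinv g)
      map_one' := by ext x : 1; exact Subtype.ext (by simp [LinearMap.restrict_apply])
      map_mul' := fun a b => by ext x : 1; exact Subtype.ext (by simp [LinearMap.restrict_apply]) }
  obtain ⟨n, hn⟩ : ∃ n, Module.finrank K U = n := ⟨_, rfl⟩
  have : Nontrivial U := Submodule.nontrivial_iff_ne_bot.2 hUne
  have hn0 : 0 < n := hn ▸ Module.finrank_pos
  let e : U ≃ₗ[K] (Fin n → K) := (Module.finBasisOfFinrankEq K U hn).equivFun
  let r : G →* GL (Fin n) K := (((LinearMap.toMatrixAlgEquiv'.toMulEquiv.toMonoidHom).comp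
    ((e.conjAlgEquiv K).toMulEquiv.toMonoidHom)).comp RU).toHomUnits
  have hr : ∀ g v, ((r g : GL (Fin n) K) : Matrix (Fin n) (Fin n) K).mulVec v = e (RU g (e.symm v)) := by
    intro g v
    change (LinearMap.toMatrixAlgEquiv' (e.conj (RU g))).mulVec v = _
    rw [← Matrix.toLinAlgEquiv'_apply, Matrix.toLinAlgEquiv'_toMatrixAlgEquiv']
    rfl
  refine ⟨n, r, hn0, ?_, fun W hW => ?_, fun g hg v hv => ?_⟩
  · rw [← MonoidHom.ker_eq_bot_iff, Subgroup.eq_bot_iff_forall]
    intro g hg
    by_contra hg1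
    obtain ⟨u, hu⟩ := exists_ne (0 : U)
    refine hu (Subtype.ext (hfpf g hg1 _ (hUS u.2) ?_))
    have h2 := hr g (e u)
    rw [(MonoidHom.mem_ker.1 hg), Units.val_one, Matrix.one_mulVec, LinearEquiv.symm_apply_apply] at h2
    exact (congrArg Subtype.val (e.injective h2)).symm
  · by_contra hcon
    push Not at hcon
    set U' := (W.comap e.toLinearMap).map U.subtype
    refine hUmin U' ⟨?_, ?_, (Submodule.map_subtype_le _ _).trans hUS⟩ ?_
    · rintro g _ ⟨u, hu, rfl⟩
      refine ⟨RU g u, ?_, rfl⟩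
      have := hW g _ hu
      rw [hr] at this
      simpa using this
    · intro hb
      apply hcon.1
      rw [eq_bot_iff]
      intro w hw
      have : ((e.symm w : U) : G → K) ∈ U' := ⟨e.symm w, by simpa using hw, rfl⟩
      rw [hb, Submodule.mem_bot] at this
      simpa using congrArg e (Subtype.ext this : e.symm w = 0)
    · refine lt_of_le_of_ne (Submodule.map_subtype_le _ _) fun h => hcon.2 ?_
      rw [eq_top_iff]
      intro w _
      have : ((e.symm w : U) : G → K) ∈ U' := (SetLike.ext_iff.1 h _).2 (e.symm w).2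
      obtain ⟨u, hu, hu'⟩ := this
      rw [show u = e.symm w from Subtype.ext hu'] at hu
      simpa using hu
  · rw [hr] at hv
    have h : RU g (e.symm v) = e.symm v := e.injective (by rw [hv, e.apply_symm_apply])
    have := hfpf g hg _ (hUS (e.symm v).2) (congrArg Subtype.val h)
    simpa using congrArg e (Subtype.ext this : e.symm v = 0)

end Cfsg.Agent.Lib.Spectrum.FPFRep
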