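import Mathlib.GroupTheory.SchurZassenhaus
import Cfsg.Agent.S0205
import Cfsg.Agent.Lib.Frobenius.FixedPointFree
import Cfsg.Agent.Lib.Cores.MinNormal
import Cfsg.Agent.Lib.Cores.Basic
import Cfsg.Agent.Lib.PrimePowerClass.Radical
import Cfsg.Agent.Lib.PGroups.ElemAb

/-!
# Groups in which every element has prime power order

* `card_primeFactors_le_two` : a solvable one has at most two primes.
* `pCore_eq_bot` : a nonsolvable one has no normal `p`-subgroup for odd `p`.
* `exists_socle` : modulo `O₂` a nonsolvable one has a simple socle with trivial centralizer.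
-/

set_option autoImplicit false
set_option linter.unusedSectionVars false

namespace Cfsg.Agent.Lib.Spectrum.EPPO

open Subgroup
open scoped Pointwise

variable {G : Type*} [Group G] [Finite G]

/-- Every non-identity element has prime power order. -/
def Hyp (G : Type*) [Group G] : Prop := ∀ g : G, g ≠ 1 → IsPrimePow (orderOf g)

theorem Hyp.subgroup (h : Hyp G) (H : Subgroup G) : Hyp H := fun g hg => by
  rw [← Subgroup.orderOf_coe]
  exact h g fun e => hg (Subtype.ext e)

theorem Hyp.of_surjective (h : Hyp G) {Q : Type*} [Group Q] (f : G →* Q) (hf : Function.Surjective f) :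
    Hyp Q := fun q hq => by
  obtain ⟨g, rfl⟩ := hf q
  have hg : g ≠ 1 := fun e => hq (by rw [e, map_one])
  exact (h g hg).dvd (orderOf_map_dvd f g) (mt orderOf_eq_one_iff.1 hq)

theorem Hyp.quotient (h : Hyp G) (N : Subgroup G) [N.Normal] : Hyp (G ⧸ N) :=
  h.of_surjective _ (QuotientGroup.mk'_surjective N)

theorem Hyp.eq_of_dvd (h : Hyp G) {g : G} {p q : ℕ} (hp : p.Prime) (hq : q.Prime)
    (hpd : p ∣ orderOf g) (hqd : q ∣ orderOf g) : p = q := by
  have hg : g ≠ 1 := fun e => by
    rw [e, orderOf_one, Nat.dvd_one] at hpd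
    exact hp.ne_one hpd
  obtain ⟨r, k, hr, -, hk⟩ := (isPrimePow_nat_iff _).1 (h g hg)
  rw [← hk] at hpd hqd
  rw [(Nat.prime_dvd_prime_iff_eq hp hr).1 (hp.dvd_of_dvd_pow hpd),
    (Nat.prime_dvd_prime_iff_eq hq hr).1 (hq.dvd_of_dvd_pow hqd)]

/-- Commuting elements have orders with at most one prime altogether. -/
theorem Hyp.eq_of_commute (h : Hyp G) {x y : G} (hc : Commute x y) {p q : ℕ} (hp : p.Prime)
    (hq : q.Prime) (hpd : p ∣ orderOf x) (hqd : q ∣ orderOf y) : p = q := by
  by_contra hne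
  have hx := orderOf_pow_orderOf_div (orderOf_pos x).ne' hpd
  have hy := orderOf_pow_orderOf_div (orderOf_pos y).ne' hqd
  have hxy := (hc.pow_pow (orderOf x / p) (orderOf y / q)).orderOf_mul_eq_mul_orderOf_of_coprime
    (by rw [hx, hy]; exact (Nat.coprime_primes hp hq).2 hne)
  rw [hx, hy] at hxy
  exact hne (h.eq_of_dvd (g := x ^ (orderOf x / p) * y ^ (orderOf y / q)) hp hq (hxy ▸ dvd_mul_right p q)
    (hxy ▸ dvd_mul_left q p))

/-- The centralizer of a nontrivial element of a `p`-subgroup is a `p`-group. -/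
theorem Hyp.centralizer_isPGroup (h : Hyp G) {v : G} (hv : v ≠ 1) {p : ℕ} (hp : p.Prime)
    (hpv : p ∣ orderOf v) : IsPGroup p (Subgroup.centralizer ({v} : Set G)) := by
  haveI := Fact.mk hp
  rintro ⟨c, hc⟩
  have hc' : Commute c v := ((Subgroup.mem_centralizer_iff.1 hc) v rfl).symm
  have e := Nat.eq_prime_pow_of_unique_prime_dvd (orderOf_pos c).ne' (fun hd hpd =>
    h.eq_of_commute hc' hd hp hpd hpv)
  refine ⟨(orderOf c).primeFactorsList.length, Subtype.ext ?_⟩
  rw [Subgroup.coe_pow, Subgroup.coe_one]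
  change c ^ _ = 1
  rw [← e]
  exact pow_orderOf_eq_one c

/-- A normal abelian `p`-subgroup admits no subgroup of order `q * r` (`q ≠ r`, both different
from `p`). -/
theorem Hyp.no_qr_subgroup (h : Hyp G) {p q r : ℕ} (hp : p.Prime) (hq : q.Prime) (hr : r.Prime)
    (hqr : q ≠ r) (hpq : p ≠ q) (hpr : p ≠ r) {V : Subgroup G} [V.Normal] [IsMulCommutative V]
    (hV : IsPGroup p V) (hV1 : V ≠ ⊥) (A : Subgroup G) (hA : Nat.card A = q * r) : False := by
  haveI := Fact.mk hp
  letI : CommGroup V := { (inferInstance : Group V) with mul_comm := mul_comm' }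
  haveI : Nontrivial V := (Subgroup.nontrivial_iff_ne_bot V).2 hV1
  have hN : A ≤ Subgroup.normalizer (V : Set G) := by
    rw [Subgroup.normalizer_eq_top_iff.2 inferInstance]
    exact le_top
  have hfpf : ∀ a ∈ A, a ≠ 1 → V ⊓ Subgroup.centralizer {a} = ⊥ := by
    intro a ha ha1
    rw [Subgroup.eq_bot_iff_forall]
    rintro v ⟨hvV, hvC⟩
    by_contra hv1
    obtain ⟨s, hs, hsd⟩ := Nat.exists_prime_and_dvd (mt orderOf_eq_one_iff.1 ha1)
    have hpv : p ∣ orderOf v := by
      obtain ⟨k, hk⟩ := (IsPGroup.iff_orderOf.1 hV) ⟨v, hvV⟩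
      rw [Subgroup.orderOf_mk] at hk
      rw [hk]
      refine dvd_pow_self p fun hk0 => hv1 ?_
      rw [hk0, pow_zero, orderOf_eq_one_iff] at hk
      exact hk
    have hsp : s = p := h.eq_of_commute ((Subgroup.mem_centralizer_iff.1 hvC) a rfl) hs hp hsd hpv
    have hsA := hsd.trans (A.orderOf_dvd_natCard ha)
    rw [hA, hsp] at hsA
    rcases hp.dvd_mul.1 hsA with hd | hd
    · exact hpq ((Nat.prime_dvd_prime_iff_eq hp hq).1 hd)
    · exact hpr ((Nat.prime_dvd_prime_iff_eq hp hr).1 hd)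
  have hcyc : IsCyclic A := (Frobenius.isFPF_conj hN hfpf).isCyclic_of_card_eq_mul hq hr hA
  obtain ⟨a, ha⟩ := hcyc.exists_ofOrder_eq_natCard
  exact hqr (h.eq_of_dvd (g := (a : G)) hq hr (by rw [Subgroup.orderOf_coe, ha, hA]; exact dvd_mul_right q r)
    (by rw [Subgroup.orderOf_coe, ha, hA]; exact dvd_mul_left r q))

omit [Finite G] in
theorem card_sup_zpowers_le_normalizer {W : Subgroup G} {y : G} {q r : ℕ} (hq : q.Prime) (hr : r.Prime)
    (hqr : q ≠ r) (hW : Nat.card W = q) (hy : orderOf y = r) (hn : y ∈ Subgroup.normalizer (W : Set G)) :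
    Nat.card (W ⊔ Subgroup.zpowers y : Subgroup G) = q * r := by
  have hd : W ⊓ Subgroup.zpowers y = ⊥ := Subgroup.inf_eq_bot_of_coprime (by
    rw [hW, Nat.card_zpowers, hy]; exact (Nat.coprime_primes hq hr).2 hqr)
  set Z := Subgroup.zpowers y
  set L := W ⊔ Z
  have hcompl : Subgroup.IsComplement' (W.subgroupOf L) (Z.subgroupOf L) := by
    refine Subgroup.isComplement'_of_disjoint_and_mul_eq_univ ?_ ?_
    · rw [Subgroup.disjoint_def]
      intro x hx hx'
      exact Subtype.ext (Subgroup.mem_bot.1 (hd ▸ ⟨hx, hx'⟩))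
    · rw [Set.eq_univ_iff_forall]
      intro x
      have hx : (x : G) ∈ (W : Set G) * (Z : Set G) := by
        rw [← Subgroup.coe_mul_of_right_le_normalizer_left W Z (Subgroup.zpowers_le.2 hn)]
        exact x.2
      obtain ⟨a, ha, b, hb, hab⟩ := hx
      exact ⟨⟨a, le_sup_left (a := W) ha⟩, ha, ⟨b, le_sup_right (a := W) hb⟩, hb, Subtype.ext hab⟩
  rw [← hcompl.card_mul_card, Nat.card_congr (Subgroup.subgroupOfEquivOfLe le_sup_left).toEquiv,
      Nat.card_congr (Subgroup.subgroupOfEquivOfLe le_sup_right).toEquiv, Nat.card_zpowers, hy, hW]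

/-- A solvable group all whose elements have prime power order has at most two primes. -/
theorem card_primeFactors_le_two : ∀ (n : ℕ) {G : Type*} [Group G] [Finite G], Nat.card G = n →
    Group.IsSolvable G → Hyp G → (Nat.card G).primeFactors.card ≤ 2 := by
  intro n
  induction n using Nat.strong_induction_on with
  | _ n ih =>
  intro G _ _ hn hsol h
  rcases subsingleton_or_nontrivial G with hs | hnt
  · simp [Nat.card_of_subsingleton (1 : G)]
  obtain ⟨V, hVn, hV1, hmin⟩ := Cores.MinNormal.exists_minimal (G := G)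
  haveI := hVn
  obtain ⟨hVc, p, hp, hexp⟩ := Cores.MinNormal.elementary_of_solvable hV1 hmin
  haveI := hVc
  haveI := Fact.mk hp
  have hVp : IsPGroup p V := Cores.MinNormal.isPGroup_of_pow_eq_one hexp
  obtain ⟨a, ha⟩ := hVp.exists_card_eq
  have hcardG : Nat.card G = Nat.card (G ⧸ V) * Nat.card V := Subgroup.card_eq_card_quotient_mul_card_subgroup V
  have hlt : Nat.card (G ⧸ V) < n := by
    rw [← hn, hcardG]
    exact lt_mul_of_one_lt_right Nat.card_pos ((Subgroup.one_lt_card_iff_ne_bot V).2 hV1)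
  haveI : Group.IsSolvable (G ⧸ V) := Group.isSolvable_of_surjective (QuotientGroup.mk'_surjective V)
  have h2 := ih _ hlt rfl ‹_› (h.quotient V)
  have ha0 : a ≠ 0 := fun h0 => hV1 (Subgroup.card_eq_one.1 (by rw [ha, h0, pow_zero]))
  have hpf : (Nat.card G).primeFactors = insert p (Nat.card (G ⧸ V)).primeFactors := by
    rw [hcardG, ha, Nat.primeFactors_mul Nat.card_pos.ne' (pow_ne_zero _ hp.ne_zero),
      Nat.primeFactors_prime_pow ha0 hp, Finset.union_comm]
    rfl
  by_contra hle
  push Not at hle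
  rw [hpf] at hle
  have hpn : p ∉ (Nat.card (G ⧸ V)).primeFactors := fun hmem => by
    rw [Finset.insert_eq_of_mem hmem] at hle; omega
  rw [Finset.card_insert_of_notMem hpn] at hle
  have hcop : (Nat.card V).Coprime V.index := by
    rw [ha, Subgroup.index_eq_card]
    exact Nat.Coprime.pow_left _ ((Nat.Prime.coprime_iff_not_dvd hp).2 fun hd =>
      hpn (Nat.mem_primeFactors.2 ⟨hp, hd, Nat.card_pos.ne'⟩))
  obtain ⟨K, hK⟩ := Subgroup.exists_right_complement'_of_coprime hcop
  have hKc : Nat.card K = Nat.card (G ⧸ V) := Nat.eq_of_mul_eq_mul_right (Nat.card_pos (α := V))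
    (by rw [← hcardG, ← hK.card_mul_card]; ring)
  haveI : Nontrivial K := by
    rw [← Finite.one_lt_card_iff_nontrivial, hKc]
    by_contra hcon
    push Not at hcon
    rw [Nat.le_antisymm hcon Nat.card_pos, Nat.primeFactors_one, Finset.card_empty] at hle
    omega
  obtain ⟨W, hWn, hW1, hWmin⟩ := Cores.MinNormal.exists_minimal (G := K)
  haveI := hWn
  haveI : Group.IsSolvable G := hsol
  obtain ⟨hWc, q, hq, hWexp⟩ := Cores.MinNormal.elementary_of_solvable hW1 hWmin
  have hKp : ∀ s : ℕ, s.Prime → s ∣ Nat.card K → p ≠ s := fun s hs hd e =>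
    hpn (Nat.mem_primeFactors.2 ⟨e ▸ hs, e.symm ▸ (hKc ▸ hd), Nat.card_pos.ne'⟩)
  have hqK : q ∣ Nat.card K := by
    obtain ⟨w, hw, hw1⟩ := W.bot_or_exists_ne_one.resolve_left hW1
    exact (orderOf_eq_prime (p := q) (hp := ⟨hq⟩) (hWexp w hw) hw1) ▸ orderOf_dvd_natCard w
  have hN : K ≤ Subgroup.normalizer (V : Set G) := by
    rw [Subgroup.normalizer_eq_top_iff.2 inferInstance]; exact le_top
  letI : CommGroup V := { (inferInstance : Group V) with mul_comm := mul_comm' }
  haveI : Nontrivial V := (Subgroup.nontrivial_iff_ne_bot V).2 hV1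
  have hfpf : ∀ k ∈ K, k ≠ 1 → V ⊓ Subgroup.centralizer {k} = ⊥ := by
    intro k hk hk1
    rw [Subgroup.eq_bot_iff_forall]
    rintro v ⟨hvV, hvC⟩
    by_contra hv1
    obtain ⟨s, hs, hsd⟩ := Nat.exists_prime_and_dvd (mt orderOf_eq_one_iff.1 hk1)
    exact hKp s hs (hsd.trans (K.orderOf_dvd_natCard hk))
      (h.eq_of_commute ((Subgroup.mem_centralizer_iff.1 hvC) k rfl) hs hp hsd
        (by rw [orderOf_eq_prime (hexp v hvV) hv1])).symm
  have hρ := Frobenius.isFPF_conj hN hfpf
  -- the minimal normal subgroup of the complement has prime order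
  have hWcard : Nat.card W = q := by
    haveI := hWc
    have hWρ : Frobenius.IsFPF (((Subgroup.normalizerMonoidHom V).comp (Subgroup.inclusion hN)).comp W.subtype) :=
      fun a ha v hv => hρ a (fun e => ha (Subtype.ext e)) v hv
    obtain ⟨g, hg⟩ := hWρ.isCyclic_of_commutative.exists_ofOrder_eq_natCard
    rw [← hg, ← Subgroup.orderOf_coe]
    exact orderOf_eq_prime (hp := ⟨hq⟩) (hWexp g g.2) (fun e => hW1 (Subgroup.card_eq_one.1 (by
      rw [← hg, ← Subgroup.orderOf_coe, e, orderOf_one])))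
  obtain ⟨r, hrmem, hrq⟩ := Finset.exists_mem_ne (show 1 < (Nat.card (G ⧸ V)).primeFactors.card by omega) q
  obtain ⟨hr, hrd, -⟩ := Nat.mem_primeFactors.1 hrmem
  haveI := Fact.mk hr
  obtain ⟨y, hy⟩ := exists_prime_orderOf_dvd_card' (G := K) r (hKc ▸ hrd)
  have hyn : y ∈ Subgroup.normalizer (W : Set K) := by
    rw [Subgroup.normalizer_eq_top_iff.2 hWn]; exact Subgroup.mem_top y
  refine h.no_qr_subgroup hp hq hr hrq.symm (hKp q hq hqK) (hKp r hr (hKc ▸ hrd)) hVp hV1
    ((W ⊔ Subgroup.zpowers y).map K.subtype) ?_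
  rw [Subgroup.card_map_of_injective K.subtype_injective,
    card_sup_zpowers_le_normalizer hq hr hrq.symm hWcard hy hyn]

theorem not_isSolvable_of_three (h : Hyp G) (h3 : 3 ≤ (Nat.card G).primeFactors.card) :
    ¬ Group.IsSolvable G := fun hs => by
  have := card_primeFactors_le_two _ rfl hs h
  omega

theorem even_card_of_not_isSolvable (h : ¬ Group.IsSolvable G) : 2 ∣ Nat.card G := by
  by_contra h2
  exact h (Cfsg.Agent.S0205.result (Nat.not_even_iff_odd.1 fun he => h2 he.two_dvd))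

/-- A nonsolvable group has no normal `p`-subgroup for odd `p`. -/
theorem pCore_eq_bot (h : Hyp G) (hns : ¬ Group.IsSolvable G) {p : ℕ} (hp : p.Prime) (hp2 : p ≠ 2) :
    Cfsg.pCore p G = ⊥ := by
  by_contra hV1
  haveI := Fact.mk hp
  set V := Cfsg.pCore p G
  haveI hVn : V.Normal := inferInstance
  have hVp : IsPGroup p V := Cores.pCore_isPGroup p
  -- an abelian normal subgroup
  haveI : Nontrivial V := (Subgroup.nontrivial_iff_ne_bot V).2 hV1
  set Z := (Subgroup.center V).map V.subtype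
  haveI : Z.Normal := ConjAct.normal_of_characteristic_of_normal
  have hZ1 : Z ≠ ⊥ := fun e => by
    haveI := hVp.center_nontrivial
    exact (Subgroup.nontrivial_iff_ne_bot _).1 ‹_›
      ((Subgroup.map_eq_bot_iff_of_injective _ V.subtype_injective).1 e)
  have hZp : IsPGroup p Z := hVp.to_le (Subgroup.map_subtype_le _)
  set W := Subgroup.centralizer (Z : Set G)
  haveI : W.Normal := Subgroup.normal_centralizer
  obtain ⟨z, hz, hz1⟩ := Z.bot_or_exists_ne_one.resolve_left hZ1
  have hpz : ∀ v ∈ Z, v ≠ 1 → p ∣ orderOf v := by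
    intro v hv hv1
    obtain ⟨k, hk⟩ := (IsPGroup.iff_orderOf.1 hZp) ⟨v, hv⟩
    rw [Subgroup.orderOf_mk] at hk
    rw [hk]
    refine dvd_pow_self p fun hk0 => hv1 ?_
    rw [hk0, pow_zero, orderOf_eq_one_iff] at hk
    exact hk
  have hWp : IsPGroup p W := (h.centralizer_isPGroup hz1 hp (hpz z hz hz1)).to_le
    (Subgroup.centralizer_le (Set.singleton_subset_iff.2 hz))
  -- every involution inverts `Z`
  have hinv : ∀ t : G, orderOf t = 2 → ∀ v ∈ Z, t * v * t⁻¹ = v⁻¹ := by
    intro t ht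
    have ht2 : t * t = 1 := by rw [← pow_two, ← ht, pow_orderOf_eq_one]
    have hfix : ∀ v ∈ Z, t * v * t⁻¹ = v → v = 1 := by
      intro v hv he
      by_contra hv1
      exact hp2 (h.eq_of_commute (x := t) (y := v) (mul_inv_eq_iff_eq_mul.1 he) Nat.prime_two hp
        (by rw [ht]) (hpz v hv hv1)).symm
    let f : Z → Z := fun v => v⁻¹ * ⟨t * v * t⁻¹, (inferInstance : Z.Normal).conj_mem v v.2 t⟩
    have hfinj : Function.Injective f := by
      intro a b hab
      have hab' : (a : G)⁻¹ * (t * a * t⁻¹) = (b : G)⁻¹ * (t * b * t⁻¹) := congrArg Subtype.val hab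
      have h1 : t * ((a : G) * (b : G)⁻¹) * t⁻¹ = (a : G) * (b : G)⁻¹ := by
        have h2 : t * (a : G) * t⁻¹ = a * ((b : G)⁻¹ * (t * b * t⁻¹)) := by rw [← hab']; group
        calc t * ((a : G) * (b : G)⁻¹) * t⁻¹ = (t * a * t⁻¹) * (t * b * t⁻¹)⁻¹ := by group
          _ = _ := by rw [h2]; group
      exact Subtype.ext (mul_inv_eq_one.1 (hfix _ (Z.mul_mem a.2 (Z.inv_mem b.2)) h1))
    intro v hv
    obtain ⟨a, ha⟩ := Finite.surjective_of_injective hfinj ⟨v, hv⟩
    have ha' : (a : G)⁻¹ * (t * a * t⁻¹) = v := congrArg Subtype.val ha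
    have ht' : t⁻¹ = t := inv_eq_of_mul_eq_one_left ht2
    have hcm : ∀ x ∈ Z, ∀ y ∈ Z, x * y = y * x := by
      rintro _ ⟨x, hx, rfl⟩ _ ⟨y, -, rfl⟩
      exact congrArg Subtype.val ((Subgroup.mem_center_iff.1 hx) y).symm
    have hc2 := hcm (t * (a : G)⁻¹ * t⁻¹) ((inferInstance : Z.Normal).conj_mem _ (Z.inv_mem a.2) t) a a.2
    calc t * v * t⁻¹ = (t * (a : G)⁻¹ * t⁻¹) * (t * t * a * (t * t)⁻¹) := by rw [← ha']; group
      _ = (t * (a : G)⁻¹ * t⁻¹) * a := by rw [ht2]; group
      _ = (a : G) * (t * (a : G)⁻¹ * t⁻¹) := hc2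
      _ = ((a : G)⁻¹ * (t * a * t⁻¹))⁻¹ * 1 := by
          rw [mul_inv_rev, inv_inv, mul_one]
          rw [← hcm _ ((inferInstance : Z.Normal).conj_mem _ (Z.inv_mem a.2) t) _ a.2]
          group
      _ = v⁻¹ := by rw [ha', mul_one]
  -- the quotient by `W` has a unique involution
  have huniq : ∀ s t : G, orderOf s = 2 → orderOf t = 2 → s * t ∈ W := by
    intro s t hs ht
    refine Subgroup.mem_centralizer_iff.2 fun v hv => ?_
    have h1 := hinv t ht v hv
    have h2 := hinv s hs _ (Z.inv_mem hv)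
    rw [inv_inv, ← h1] at h2
    have h3 : s * t * v * (s * t)⁻¹ = v := by
      calc s * t * v * (s * t)⁻¹ = s * (t * v * t⁻¹) * s⁻¹ := by group
        _ = v := by rw [h1]; rw [h1] at h2; exact h2
    exact (mul_inv_eq_iff_eq_mul.1 h3).symm
  haveI : Fact (Nat.Prime 2) := ⟨Nat.prime_two⟩
  obtain ⟨t, ht⟩ := exists_prime_orderOf_dvd_card' (G := G) 2 (even_card_of_not_isSolvable hns)
  have htW : t ∉ W := fun hm => by
    obtain ⟨k, hk⟩ := (IsPGroup.iff_orderOf.1 hWp) ⟨t, hm⟩
    rw [Subgroup.orderOf_mk, ht] at hk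
    exact hp2 ((Nat.prime_dvd_prime_iff_eq Nat.prime_two hp).1
      (Nat.prime_two.dvd_of_dvd_pow (show 2 ∣ p ^ k by rw [← hk]))).symm
  have hcen : (QuotientGroup.mk' W t : G ⧸ W) ∈ Subgroup.center (G ⧸ W) := by
    refine Subgroup.mem_center_iff.2 fun g => ?_
    obtain ⟨g, rfl⟩ := QuotientGroup.mk'_surjective W g
    rw [← map_mul, ← map_mul]
    refine (QuotientGroup.eq).2 ?_
    have h1 := huniq (g⁻¹ * t * g) t (by
      rw [← ht]; simpa using (MulAut.conj g⁻¹).orderOf_eq t) ht
    have ht2 : t⁻¹ = t := inv_eq_of_mul_eq_one_left (by rw [← pow_two, ← ht, pow_orderOf_eq_one])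
    convert W.inv_mem h1 using 1
    simp only [mul_inv_rev, ht2, mul_assoc, inv_inv]
  have hQ := h.quotient W
  have ht1 : (QuotientGroup.mk' W t : G ⧸ W) ≠ 1 := fun e =>
    htW ((QuotientGroup.eq_one_iff t).1 e)
  have ho : orderOf (QuotientGroup.mk' W t : G ⧸ W) = 2 := by
    refine ((Nat.dvd_prime Nat.prime_two).1 (ht ▸ orderOf_map_dvd _ t)).resolve_left ?_
    exact mt orderOf_eq_one_iff.1 ht1
  have h2G : IsPGroup 2 (G ⧸ W) := by
    have hC := hQ.centralizer_isPGroup ht1 Nat.prime_two (by rw [ho])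
    rw [show Subgroup.centralizer ({QuotientGroup.mk' W t} : Set (G ⧸ W)) = ⊤ from
      Subgroup.centralizer_eq_top_iff_subset.2 (Set.singleton_subset_iff.2 hcen)] at hC
    exact hC.of_equiv Subgroup.topEquiv
  haveI : Group.IsNilpotent W := hWp.isNilpotent
  haveI : Group.IsNilpotent (G ⧸ W) := h2G.isNilpotent
  exact hns (Group.isSolvable_of_ker_le_range W.subtype (QuotientGroup.mk' W) (by
    rw [QuotientGroup.ker_mk', Subgroup.range_subtype]))

/-- A nonsolvable group without normal `p`-subgroups has no solvable normal subgroup. -/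
theorem eq_bot_of_solvable_normal (h : Hyp G) (hns : ¬ Group.IsSolvable G) (h2 : Cfsg.pCore 2 G = ⊥)
    (N : Subgroup G) [N.Normal] (hN : Group.IsSolvable N) : N = ⊥ := by
  by_contra hN1
  obtain ⟨V, hVn, hVN, hV1, hmin⟩ := Cores.MinNormal.exists_minimal_le hN1
  haveI := hVn
  haveI : Group.IsSolvable V := haveI := hN; Group.isSolvable_of_isSolvable_injective
    (f := Subgroup.inclusion hVN) (Subgroup.inclusion_injective _)
  haveI := Cores.MinNormal.isMulCommutative_of_solvable hV1 hmin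
  obtain ⟨p, hp, hexp⟩ := Cores.MinNormal.exists_prime_pow_eq_one hV1 hmin
  have hle := Cores.le_pCore (Cores.MinNormal.isPGroup_of_pow_eq_one hexp)
  rcases eq_or_ne p 2 with rfl | hp2
  · rw [h2] at hle; exact hV1 (le_bot_iff.1 hle)
  · rw [pCore_eq_bot h hns hp hp2] at hle; exact hV1 (le_bot_iff.1 hle)

theorem not_isSolvable_quotient_pCore (hns : ¬ Group.IsSolvable G) :
    ¬ Group.IsSolvable (G ⧸ Cfsg.pCore 2 G) := fun hq => by
  haveI : Fact (Nat.Prime 2) := ⟨Nat.prime_two⟩
  haveI := (Cores.pCore_isPGroup (G := G) 2).isNilpotent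
  haveI := hq
  exact hns (Group.isSolvable_of_ker_le_range (Cfsg.pCore 2 G).subtype (QuotientGroup.mk' (Cfsg.pCore 2 G)) (by
    rw [QuotientGroup.ker_mk', Subgroup.range_subtype]))

/-- Two elementwise commuting nonsolvable subgroups cannot exist. -/
theorem isSolvable_or_of_commute (h : Hyp G) (A B : Subgroup G) (hc : ∀ a ∈ A, ∀ b ∈ B, Commute a b)
    (hA : ¬ Group.IsSolvable A) : Group.IsSolvable B := by
  by_contra hB
  haveI : Fact (Nat.Prime 2) := ⟨Nat.prime_two⟩
  obtain ⟨b, hb⟩ := exists_prime_orderOf_dvd_card' (G := B) 2 (even_card_of_not_isSolvable hB)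
  apply hA
  haveI : Group.IsNilpotent A := IsPGroup.isNilpotent (p := 2) (IsPGroup.iff_orderOf.2 fun a => ⟨_, by
    rw [← Subgroup.orderOf_coe]
    exact Nat.eq_prime_pow_of_unique_prime_dvd (orderOf_pos (a : G)).ne' fun hd hdvd =>
      h.eq_of_commute (hc a a.2 b b.2) hd Nat.prime_two hdvd (by rw [Subgroup.orderOf_coe, hb])⟩)
  infer_instance

/-- The socle. -/
theorem exists_socle (h : Hyp G) (hns : ¬ Group.IsSolvable G) (h2 : Cfsg.pCore 2 G = ⊥) :
    ∃ S : Subgroup G, S.Normal ∧ IsSimpleGroup S ∧ ¬ IsMulCommutative S ∧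
      Subgroup.centralizer (S : Set G) = ⊥ := by
  haveI : Nontrivial G := by
    by_contra hcon
    rw [not_nontrivial_iff_subsingleton] at hcon
    exact hns inferInstance
  obtain ⟨S, hSn, hS1, hmin⟩ := Cores.MinNormal.exists_minimal (G := G)
  haveI := hSn
  have hSns : ¬ Group.IsSolvable S := fun hs => hS1 (eq_bot_of_solvable_normal h hns h2 S hs)
  have hC : Subgroup.centralizer (S : Set G) = ⊥ := by
    haveI : (Subgroup.centralizer (S : Set G)).Normal := Subgroup.normal_centralizer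
    exact eq_bot_of_solvable_normal h hns h2 _ (isSolvable_or_of_commute h S _
      (fun a ha b hb => (Subgroup.mem_centralizer_iff.1 hb) a ha) hSns)
  refine ⟨S, hSn, ?_, fun hm => hSns (haveI := hm; Group.isSolvable_of_comm fun a b => mul_comm' a b), hC⟩
  haveI : Nontrivial S := (Subgroup.nontrivial_iff_ne_bot S).2 hS1
  refine { eq_bot_or_eq_top_of_normal := fun H hH => ?_ }
  haveI := hH
  by_contra hcon
  push Not at hcon
  obtain ⟨M, hMn, hMH, hM1, hMmin⟩ := Cores.MinNormal.exists_minimal_le hcon.1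
  haveI := hMn
  have hMns : ¬ Group.IsSolvable M := by
    intro hs
    refine hSns (?_ : Group.IsSolvable S)
    haveI := PrimePowerClass.Radical.solRad_characteristic (G := S)
    have hR : ((PrimePowerClass.Radical.solRad S).map S.subtype).Normal :=
      ConjAct.normal_of_characteristic_of_normal
    rcases hmin _ hR (Subgroup.map_subtype_le _) with hb | ht
    · exact absurd (le_bot_iff.1 ((PrimePowerClass.Radical.le_solRad hs).trans
        ((Subgroup.map_eq_bot_iff_of_injective _ S.subtype_injective).1 hb).le)) hM1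
    · haveI := PrimePowerClass.Radical.solRad_isSolvable (G := S)
      have := Group.isSolvable_of_surjective (S.subtype.subgroupMap_surjective (PrimePowerClass.Radical.solRad S))
      rwa [ht] at this
  -- the centralizer of `M` in `S` is solvable, hence trivial, so conjugates of `M` coincide
  haveI : (Subgroup.centralizer (M : Set S)).Normal := Subgroup.normal_centralizer
  have hCM : Group.IsSolvable (Subgroup.centralizer (M : Set S)) :=
    isSolvable_or_of_commute (h.subgroup S) M _ (fun a ha b hb => (Subgroup.mem_centralizer_iff.1 hb) a ha) hMns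
  have hinv : ∀ g : G, M.map (MulAut.conjNormal g : MulAut S).toMonoidHom = M := by
    intro g
    set M' := M.map (MulAut.conjNormal g : MulAut S).toMonoidHom
    haveI : M'.Normal := Subgroup.Normal.map hMn _ (MulAut.conjNormal g : MulAut S).surjective
    have hMM : M' ⊓ M ≠ ⊥ := fun hb => by
      refine hMns ?_
      have hle : M' ≤ Subgroup.centralizer (M : Set S) := fun x hx => Subgroup.mem_centralizer_iff.2
        fun y hy => Subgroup.commute_of_normal_of_disjoint M M' hMn ‹_› (disjoint_iff.2 (inf_comm M M' ▸ hb)) y x hy hx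
      haveI := hCM
      exact Group.isSolvable_of_isSolvable_injective
        (f := (Subgroup.inclusion hle).comp
          (M.equivMapOfInjective _ (MulAut.conjNormal g : MulAut S).injective).toMonoidHom)
        ((Subgroup.inclusion_injective hle).comp (MulEquiv.injective _))
    have heq : M' ⊓ M = M := (hMmin _ inferInstance inf_le_right).resolve_left hMM
    exact (Subgroup.eq_of_le_of_card_ge (show M ≤ M' from fun x hx => (heq.symm ▸ hx : x ∈ M' ⊓ M).1)
      (Subgroup.card_map_of_injective (MulAut.conjNormal g : MulAut S).injective).le).symm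
  have hMG : (M.map S.subtype).Normal := ⟨fun n hn g => by
    obtain ⟨m, hm, rfl⟩ := hn
    exact ⟨MulAut.conjNormal g m, hinv g ▸ ⟨m, hm, rfl⟩, by simp⟩⟩
  rcases hmin _ hMG (Subgroup.map_subtype_le _) with hb | ht
  · exact hM1 ((Subgroup.map_eq_bot_iff_of_injective _ S.subtype_injective).1 hb)
  · refine hcon.2 (top_le_iff.1 ?_)
    intro x _
    obtain ⟨m, hm, hmx⟩ := (ht.symm ▸ x.2 : (x : G) ∈ M.map S.subtype)
    exact hMH (S.subtype_injective hmx ▸ hm)

end Cfsg.Agent.Lib.Spectrum.EPPO
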