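import Mathlib.GroupTheory.Transfer
import Cfsg.Prelude.Def_Sz
import Cfsg.Agent.Lib.Spectrum.EPPO
import Cfsg.Agent.Lib.Linear.Order
import Cfsg.Agent.Lib.Golay.PSL34
import Cfsg.Agent.Lib.LieTwisted.SuzukiBruhat
import Cfsg.Agent.Lib.LieTwisted.SuzukiStructure

/-!
# The number of primes of a group in which every element has prime power order

Given the list of the simple ones, there are at most four primes, and with four the group is
`PSL₃(4)` or an extension of a 2-group by `Sz(8)` or `Sz(32)`.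

The reduction uses a prime `p` dividing the order of the socle exactly once: its normalizer
in the group modulo its centralizer is cyclic of prime power order.

Owner: helper32.
-/

set_option autoImplicit false
set_option linter.unusedSectionVars false
set_option linter.style.haveILetI false

namespace Cfsg.Agent.Lib.Spectrum.EPPOPrimes

open Subgroup EPPO

universe u

variable {Q : Type*} [Group Q] [Finite Q]

/-- A Sylow subgroup of prime order `p` of a normal simple subgroup: the data of its normalizer. -/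
theorem normalizer_data (h : Hyp Q) (S : Subgroup Q) [S.Normal] (hsim : IsSimpleGroup S)
    (hna : ¬ IsMulCommutative S) {p : ℕ} [hp : Fact p.Prime] (hd : p ∣ Nat.card S)
    (hd2 : ¬ p ^ 2 ∣ Nat.card S) :
    ∃ (X N : Subgroup Q) (ψ : N →* MulAut X) (r e : ℕ) (s : N), Nat.card X = p ∧ X ≤ S ∧ S ⊔ N = ⊤ ∧
      IsPGroup p ψ.ker ∧ (∀ n : N, n ∈ ψ.ker ↔ ∀ x ∈ X, x * n = n * x) ∧ X ≤ N ∧
      r.Prime ∧ r ∣ Nat.card S ∧ Nat.card ψ.range = r ^ e ∧ 1 ≤ e ∧ r ^ e ∣ p - 1 ∧
      (s : Q) ∈ S ∧ ψ s ≠ 1 ∧ r ∣ orderOf (s : Q) := by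
  haveI := hsim
  obtain ⟨P⟩ : Nonempty (Sylow p S) := inferInstance
  obtain ⟨k, hk⟩ := P.isPGroup'.exists_card_eq
  have hk1 : k = 1 := by
    rcases k with _ | _ | k
    · exact absurd (Subgroup.card_eq_one.1 (by rw [hk, pow_zero])) (P.ne_bot_of_dvd_card hd)
    · rfl
    · exfalso
      refine hd2 (dvd_trans ?_ (Subgroup.card_subgroup_dvd_card (P : Subgroup S)))
      rw [hk]
      exact pow_dvd_pow p (by omega)
  rw [hk1, pow_one] at hk
  set X := (P : Subgroup S).map S.subtype with hX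
  have hXc : Nat.card X = p := by rw [hX, Subgroup.card_map_of_injective S.subtype_injective, hk]
  set N := Subgroup.normalizer (X : Set Q)
  have hsup : S ⊔ N = ⊤ := by rw [sup_comm]; exact Sylow.normalizer_sup_eq_top P
  let ψ : N →* MulAut X := Subgroup.normalizerMonoidHom X
  have hker : ∀ n : N, n ∈ ψ.ker ↔ ∀ x ∈ X, x * n = n * x := by
    intro n
    show n ∈ (Subgroup.normalizerMonoidHom X).ker ↔ _
    rw [Subgroup.normalizerMonoidHom_ker X, Subgroup.mem_subgroupOf, Subgroup.mem_centralizer_iff]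
    rfl
  have hX1 : X ≠ ⊥ := fun e => by
    rw [e, Subgroup.card_bot] at hXc
    exact hp.out.ne_one hXc.symm
  obtain ⟨x, hx, hx1⟩ := X.bot_or_exists_ne_one.resolve_left hX1
  have hxo : orderOf x = p :=
    ((Nat.dvd_prime hp.out).1 (hXc ▸ X.orderOf_dvd_natCard hx)).resolve_left (mt orderOf_eq_one_iff.1 hx1)
  have hkerp : IsPGroup p ψ.ker := by
    have hC := h.centralizer_isPGroup hx1 hp.out (hxo.symm ▸ dvd_rfl)
    intro n
    obtain ⟨j, hj⟩ := hC ⟨((n : N) : Q), Subgroup.mem_centralizer_singleton_iff.2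
      (((hker n).1 n.2 x hx).symm)⟩
    exact ⟨j, Subtype.ext (Subtype.ext (by simpa using congrArg Subtype.val hj))⟩
  haveI : IsCyclic X := isCyclic_of_prime_card hXc
  haveI hcyc : IsCyclic (MulAut X) := by
    haveI : IsCyclic (ZMod (Nat.card X))ˣ := by rw [hXc]; infer_instance
    exact isCyclic_of_surjective (IsCyclic.mulAutMulEquiv X).symm.toMonoidHom (MulEquiv.surjective _)
  have hrange : Nat.card ψ.range ∣ p - 1 := by
    have := Subgroup.card_subgroup_dvd_card ψ.range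
    rwa [IsCyclic.card_mulAut, hXc, Nat.totient_prime hp.out] at this
  -- Burnside
  obtain ⟨s, hsS, hs⟩ : ∃ s : N, (s : Q) ∈ S ∧ ψ s ≠ 1 := by
    by_contra hno
    push Not at hno
    have hle : Subgroup.normalizer ((P : Subgroup S) : Set S) ≤
        Subgroup.centralizer ((P : Subgroup S) : Set S) := by
      intro g hg
      have hgN : (g : Q) ∈ N :=
        Subgroup.le_normalizer_map S.subtype (Subgroup.mem_map_of_mem S.subtype hg)
      refine Subgroup.mem_centralizer_iff.2 fun a ha => Subtype.ext ?_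
      exact (hker ⟨g, hgN⟩).1 (MonoidHom.mem_ker.2 (hno ⟨g, hgN⟩ g.2)) (a : Q)
        (Subgroup.mem_map_of_mem S.subtype ha)
    have hc := MonoidHom.ker_transferSylow_isComplement' P hle
    rcases hsim.eq_bot_or_eq_top_of_normal _ (MonoidHom.transferSylow P hle).normal_ker with hb | ht
    · rw [hb, Subgroup.isComplement'_bot_left] at hc
      refine hna ?_
      haveI : IsCyclic S := isCyclic_of_prime_card (p := p) (by rw [← Subgroup.card_top (G := S), ← hc, hk])
      exact IsCyclic.isMulCommutative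
    · rw [ht, Subgroup.isComplement'_top_left] at hc
      exact P.ne_bot_of_dvd_card hd hc
  obtain ⟨g, hg⟩ := (inferInstance : IsCyclic ψ.range).exists_ofOrder_eq_natCard
  obtain ⟨n, hn⟩ := g.2
  have hne : Nat.card ψ.range ≠ 1 := fun e => hs (by
    have := Subgroup.card_eq_one.1 e
    exact Subgroup.mem_bot.1 (this ▸ MonoidHom.mem_range.2 ⟨s, rfl⟩))
  have hgn : orderOf g ∣ orderOf (n : Q) := by
    rw [← Subgroup.orderOf_coe g, ← hn, Subgroup.orderOf_coe n]
    exact orderOf_map_dvd ψ n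
  have hn1 : (n : Q) ≠ 1 := fun e => hne (by
    rw [← hg]; rw [e, orderOf_one, Nat.dvd_one] at hgn; exact hgn)
  obtain ⟨r, e, hr, he, hre⟩ := (isPrimePow_nat_iff _).1 ((h _ hn1).dvd hgn (by rw [hg]; exact hne))
  rw [hg] at hre
  have hrs : r ∣ orderOf (s : Q) := by
    have h1 : orderOf (ψ s) ∣ r ^ e := by
      have h3 := orderOf_dvd_natCard (⟨ψ s, MonoidHom.mem_range.2 ⟨s, rfl⟩⟩ : ψ.range)
      rwa [← Subgroup.orderOf_coe, ← hre] at h3
    obtain ⟨j, -, hj⟩ := (Nat.dvd_prime_pow hr).1 h1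
    have hj0 : j ≠ 0 := fun h0 => hs (orderOf_eq_one_iff.1 (by rw [hj, h0, pow_zero]))
    refine dvd_trans ?_ ((orderOf_map_dvd ψ s).trans (Subgroup.orderOf_coe s).symm.dvd)
    rw [hj]
    exact dvd_pow_self r hj0
  exact ⟨X, N, ψ, r, e, s, hXc, Subgroup.map_subtype_le _, hsup, hkerp, hker, Subgroup.le_normalizer,
    hr, hrs.trans (S.orderOf_dvd_natCard hsS), hre.symm, he, hre ▸ hrange, hsS, hs, hrs⟩

/-- The group has the primes of its simple normal subgroup. -/
theorem prime_dvd_of_dvd_card (h : Hyp Q) (S : Subgroup Q) [S.Normal] (hsim : IsSimpleGroup S)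
    (hna : ¬ IsMulCommutative S) {p : ℕ} [hp : Fact p.Prime] (hd : p ∣ Nat.card S)
    (hd2 : ¬ p ^ 2 ∣ Nat.card S) {q : ℕ} (hq : q.Prime) (hqd : q ∣ Nat.card Q) :
    q ∣ Nat.card S := by
  obtain ⟨X, N, ψ, r, e, s, -, -, hsup, hker, -, -, hr, hrS, hre, -⟩ := normalizer_data h S hsim hna hd hd2
  rw [← S.card_mul_index] at hqd
  rcases hq.dvd_mul.1 hqd with h1 | h1
  · exact h1
  have h2 : S.index = S.relIndex N := by
    rw [← Subgroup.relIndex_sup_right N S, sup_comm, hsup, Subgroup.relIndex_top_right]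
  rw [h2] at h1
  have h3 : q ∣ Nat.card N := h1.trans (S.subgroupOf N).index_dvd_card
  rw [← ψ.ker.card_mul_index, Subgroup.index_ker, hre] at h3
  obtain ⟨a, ha⟩ := hker.exists_card_eq
  rw [ha] at h3
  rcases hq.dvd_mul.1 h3 with h4 | h4
  · rwa [(Nat.prime_dvd_prime_iff_eq hq hp.out).1 (hq.dvd_of_dvd_pow h4)]
  · rwa [(Nat.prime_dvd_prime_iff_eq hq hr).1 (hq.dvd_of_dvd_pow h4)]

/-- If moreover `p - 1` is squarefree, the group is simple. -/
theorem eq_top_of_squarefree (h : Hyp Q) (S : Subgroup Q) [S.Normal] (hsim : IsSimpleGroup S)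
    (hna : ¬ IsMulCommutative S) {p : ℕ} [hp : Fact p.Prime] (hd : p ∣ Nat.card S)
    (hd2 : ¬ p ^ 2 ∣ Nat.card S) (hsq : Squarefree (p - 1)) : S = ⊤ := by
  obtain ⟨X, N, ψ, r, e, s, hXc, hXS, hsup, hker, hmem, hXN, hr, -, hre, he, hdiv, hsS, hs, hrs⟩ :=
    normalizer_data h S hsim hna hd hd2
  have he1 : e = 1 := by
    by_contra hne
    have h0 : r * r ∣ r ^ e := by rw [← pow_two]; exact pow_dvd_pow r (by omega)
    have h2 : r * r ∣ p - 1 := h0.trans hdiv
    exact hr.ne_one (Nat.isUnit_iff.1 (hsq r h2))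
  rw [he1, pow_one] at hre
  have hrp : r ≠ p := fun e' => by
    have h1 : r ∣ p - 1 := (dvd_pow_self r (by omega : e ≠ 0)).trans hdiv
    have h2 := Nat.le_of_dvd (by have := hp.out.two_le; omega) h1
    have := hp.out.two_le
    omega
  -- inside `S` the centralizer of `X` is `X`
  have hCS : ∀ v : N, v ∈ ψ.ker → (v : Q) ∈ S → (v : Q) ∈ X := by
    set A := S.subgroupOf N ⊓ ψ.ker
    have hA : IsPGroup p A := hker.to_le inf_le_right
    have hAc : IsPGroup p (A.map N.subtype) := hA.map _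
    have hle : X ≤ A.map N.subtype := by
      intro x hx
      refine ⟨⟨x, hXN hx⟩, ⟨hXS hx, (hmem _).2 fun y hy => ?_⟩, rfl⟩
      haveI : IsCyclic X := isCyclic_of_prime_card hXc
      haveI := (IsCyclic.isMulCommutative : IsMulCommutative X)
      exact congrArg Subtype.val (mul_comm' (⟨y, hy⟩ : X) ⟨x, hx⟩)
    obtain ⟨j, hj⟩ := hAc.exists_card_eq
    have hj1 : j ≤ 1 := by
      by_contra hj2
      push Not at hj2
      refine hd2 (dvd_trans ?_ (Subgroup.card_dvd_of_le (show A.map N.subtype ≤ S by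
        rintro _ ⟨a, ha, rfl⟩; exact ha.1)))
      rw [hj]
      exact pow_dvd_pow p hj2
    have heq : X = A.map N.subtype := Subgroup.eq_of_le_of_card_ge hle (by
      rw [hj, hXc]
      exact (Nat.pow_le_pow_right hp.out.pos hj1).trans_eq (pow_one p))
    intro v hv hvS
    rw [heq]
    exact ⟨v, ⟨hvS, hv⟩, rfl⟩
  -- the commutator with `s`
  have hval : ∀ u : ψ.ker, (s : Q) * (u : N) * (s : Q)⁻¹ * ((u : N) : Q)⁻¹ ∈ X := by
    intro u
    refine hCS (s * (u : N) * s⁻¹ * (u : N)⁻¹) (ψ.ker.mul_mem (ψ.normal_ker.conj_mem _ u.2 s) (ψ.ker.inv_mem u.2)) ?_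
    show (s : Q) * (u : N) * (s : Q)⁻¹ * ((u : N) : Q)⁻¹ ∈ S
    have h1 : ((u : N) : Q) * (s : Q)⁻¹ * ((u : N) : Q)⁻¹ ∈ S :=
      (inferInstance : S.Normal).conj_mem _ (S.inv_mem hsS) _
    have h2 := S.mul_mem hsS h1
    rwa [← mul_assoc, ← mul_assoc] at h2
  let f : ψ.ker →* X := MonoidHom.mk' (fun u => ⟨_, hval u⟩) fun a b => by
    apply Subtype.ext
    have hcm := (hmem a).1 a.2 _ (hval b)
    push_cast
    calc (s : Q) * ((a : N) * (b : N)) * (s : Q)⁻¹ * (((a : N) : Q) * (b : N))⁻¹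
        = ((s : Q) * (a : N) * (s : Q)⁻¹ * ((a : N) : Q)⁻¹) *
            (((a : N) : Q) * ((s : Q) * (b : N) * (s : Q)⁻¹ * ((b : N) : Q)⁻¹) * ((a : N) : Q)⁻¹) := by
          group
      _ = _ := by rw [← hcm, mul_inv_cancel_right]
  have hkerS : ∀ u : ψ.ker, ((u : N) : Q) ∈ S := by
    have hinj : Function.Injective f := by
      rw [injective_iff_map_eq_one]
      intro u hu
      have h1 : (s : Q) * (u : N) * (s : Q)⁻¹ * ((u : N) : Q)⁻¹ = 1 := congrArg Subtype.val hu
      have hc : Commute (s : Q) ((u : N) : Q) := mul_inv_eq_iff_eq_mul.1 (mul_inv_eq_one.1 h1)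
      by_contra hu1
      obtain ⟨j, hj⟩ := IsPGroup.iff_orderOf.1 hker u
      have hj0 : j ≠ 0 := fun h0 => hu1 (orderOf_eq_one_iff.1 (by rw [hj, h0, pow_zero]))
      rw [← Subgroup.orderOf_coe, ← Subgroup.orderOf_coe] at hj
      exact hrp (h.eq_of_commute hc hr hp.out hrs (hj ▸ dvd_pow_self p hj0))
    have hle : X ≤ ψ.ker.map N.subtype := by
      intro x hx
      refine ⟨⟨x, hXN hx⟩, (hmem _).2 fun y hy => ?_, rfl⟩
      haveI : IsCyclic X := isCyclic_of_prime_card hXc
      haveI := (IsCyclic.isMulCommutative : IsMulCommutative X)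
      exact congrArg Subtype.val (mul_comm' (⟨y, hy⟩ : X) ⟨x, hx⟩)
    have heq : X = ψ.ker.map N.subtype := Subgroup.eq_of_le_of_card_ge hle (by
      rw [Subgroup.card_map_of_injective N.subtype_injective]
      exact Nat.card_le_card_of_injective f hinj)
    intro u
    have hu : ((u : N) : Q) ∈ ψ.ker.map N.subtype := ⟨(u : N), u.2, rfl⟩
    rw [← heq] at hu
    exact hXS hu
  -- hence the normalizer lies in `S`
  rw [← top_le_iff, ← hsup]
  refine sup_le le_rfl fun n hn => ?_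
  haveI : Fact r.Prime := ⟨hr⟩
  obtain ⟨i, hi⟩ := mem_zpowers_of_prime_card (g' := (⟨ψ ⟨n, hn⟩, MonoidHom.mem_range.2 ⟨_, rfl⟩⟩ : ψ.range))
    (g := (⟨ψ s, MonoidHom.mem_range.2 ⟨_, rfl⟩⟩ : ψ.range)) hre (fun e' => hs (congrArg Subtype.val e'))
  have hi' : ψ (s ^ i) = ψ ⟨n, hn⟩ := by
    rw [map_zpow]; exact congrArg Subtype.val hi
  have hu : (s ^ i)⁻¹ * ⟨n, hn⟩ ∈ ψ.ker := by
    rw [MonoidHom.mem_ker, map_mul, map_inv, hi', inv_mul_cancel]
  have h1 := S.mul_mem (S.zpow_mem hsS i) (hkerS ⟨_, hu⟩)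
  simpa using h1

/-- A noncyclic abelian 3-subgroup of `PSL₃(4)`. -/
theorem psl34_threeGroup (F : Type*) [Field F] [Fintype F] (hF : Fintype.card F = 4) :
    ∃ a b : Matrix.ProjectiveSpecialLinearGroup (Fin 3) F,
      a ^ 3 = 1 ∧ b ^ 3 = 1 ∧ a * b = b * a ∧ a ≠ 1 ∧ b ≠ 1 ∧ b ≠ a ∧ b ≠ a ^ 2 := by
  classical
  haveI : Fact (Nat.Prime 3) := ⟨Nat.prime_three⟩
  have hw3 : 3 ∣ Fintype.card Fˣ := by rw [Fintype.card_units, hF]
  obtain ⟨w, hw⟩ := exists_prime_orderOf_dvd_card (G := Fˣ) 3 hw3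
  have hw1 : (w : F) ≠ 1 := fun e => by
    rw [Units.val_eq_one.1 e, orderOf_one] at hw; omega
  have hwp : (w : F) ^ 3 = 1 := by rw [← Units.val_pow_eq_pow_val, ← hw, pow_orderOf_eq_one, Units.val_one]
  have hw0 : (w : F) ≠ 0 := w.ne_zero
  set A : Matrix.SpecialLinearGroup (Fin 3) F := ⟨!![1, 0, 0; 0, (w : F), 0; 0, 0, (w : F) ^ 2], by
    simp [Matrix.det_fin_three]; linear_combination hwp⟩
  set B : Matrix.SpecialLinearGroup (Fin 3) F := ⟨!![0, 0, 1; 1, 0, 0; 0, 1, 0], by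
    simp [Matrix.det_fin_three]⟩
  have hoff : ∀ M : Matrix.SpecialLinearGroup (Fin 3) F, ∀ i j : Fin 3, i ≠ j → (M : Matrix (Fin 3) (Fin 3) F) i j ≠ 0 →
      M ∉ Subgroup.center _ := by
    intro M i j hij hM hc
    obtain ⟨r, -, hr⟩ := Matrix.SpecialLinearGroup.mem_center_iff.1 hc
    rw [← hr, Matrix.scalar_apply, Matrix.diagonal_apply_ne _ hij] at hM
    exact hM rfl
  refine ⟨QuotientGroup.mk A, QuotientGroup.mk B, ?_, ?_, ?_, ?_, ?_, ?_, ?_⟩
  · rw [← QuotientGroup.mk_pow, QuotientGroup.eq_one_iff]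
    refine Matrix.SpecialLinearGroup.mem_center_iff.2 ⟨1, one_pow _, ?_⟩
    rw [Matrix.SpecialLinearGroup.coe_pow]
    ext i j
    fin_cases i <;> fin_cases j <;> simp [A, pow_succ, Matrix.mul_apply, Fin.sum_univ_three] <;>
      first | linear_combination hwp | linear_combination -hwp | linear_combination ((w : F) ^ 3 + 1) * hwp | linear_combination -((w : F) ^ 3 + 1) * hwp
  · rw [← QuotientGroup.mk_pow, QuotientGroup.eq_one_iff]
    refine Matrix.SpecialLinearGroup.mem_center_iff.2 ⟨1, one_pow _, ?_⟩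
    rw [Matrix.SpecialLinearGroup.coe_pow]
    ext i j
    fin_cases i <;> fin_cases j <;> simp [B, pow_succ, Matrix.mul_apply, Fin.sum_univ_three]
  · rw [← QuotientGroup.mk_mul, ← QuotientGroup.mk_mul, QuotientGroup.eq]
    refine Matrix.SpecialLinearGroup.mem_center_iff.2 ⟨(w : F) ^ 2, by
      rw [← pow_mul, mul_comm, pow_mul, Fintype.card_fin]; simp [hwp], ?_⟩
    have key : (A * B : Matrix.SpecialLinearGroup (Fin 3) F).1 * Matrix.scalar (Fin 3) ((w : F) ^ 2) = (B * A).1 := by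
      rw [Matrix.SpecialLinearGroup.coe_mul, Matrix.SpecialLinearGroup.coe_mul]
      ext i j
      fin_cases i <;> fin_cases j <;> simp [A, B, Matrix.mul_apply, Fin.sum_univ_three] <;>
        first | linear_combination hwp | linear_combination -hwp | linear_combination (w : F) * hwp | linear_combination -(w : F) * hwp
    have h2 := congrArg (fun M => ((A * B)⁻¹ : Matrix.SpecialLinearGroup (Fin 3) F).1 * M) key
    simp only [← mul_assoc] at h2
    rw [← Matrix.SpecialLinearGroup.coe_mul, inv_mul_cancel, Matrix.SpecialLinearGroup.coe_one, one_mul] at h2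
    rw [h2]
    rfl
  · rw [ne_eq, QuotientGroup.eq_one_iff]
    intro hc
    obtain ⟨r, -, hr⟩ := Matrix.SpecialLinearGroup.mem_center_iff.1 hc
    have h0 := congrFun (congrFun hr 0) 0
    have h1 := congrFun (congrFun hr 1) 1
    simp [A] at h0 h1
    exact hw1 (h1.symm.trans h0)
  · rw [ne_eq, QuotientGroup.eq_one_iff]
    exact hoff B 1 0 (by decide) (by simp [B])
  · rw [ne_eq, QuotientGroup.eq]
    refine hoff _ 1 2 (by decide) ?_
    rw [Matrix.SpecialLinearGroup.coe_mul, Matrix.SpecialLinearGroup.coe_inv]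
    simp [A, B, Matrix.mul_apply, Fin.sum_univ_three, Matrix.adjugate_fin_three, hw0]
  · rw [← QuotientGroup.mk_pow, ne_eq, QuotientGroup.eq]
    refine hoff _ 1 2 (by decide) ?_
    rw [Matrix.SpecialLinearGroup.coe_mul, Matrix.SpecialLinearGroup.coe_inv, Matrix.SpecialLinearGroup.coe_pow]
    simp [A, B, pow_succ, Matrix.mul_apply, Fin.sum_univ_three, Matrix.adjugate_fin_three, hw0]

/-- A normal 2-subgroup is trivial if the quotient has a noncyclic abelian 3-subgroup. -/
theorem eq_bot_of_threeGroup {G : Type*} [Group G] [Finite G] (h : Hyp G) (V : Subgroup G) [V.Normal]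
    (hV : IsPGroup 2 V) {a b : G ⧸ V} (ha : a ^ 3 = 1) (hb : b ^ 3 = 1) (hab : a * b = b * a)
    (ha1 : a ≠ 1) (hb1 : b ≠ 1) (hba : b ≠ a) (hba2 : b ≠ a ^ 2) : V = ⊥ := by
  by_contra hV1
  haveI : Fact (Nat.Prime 2) := ⟨Nat.prime_two⟩
  haveI : Fact (Nat.Prime 3) := ⟨Nat.prime_three⟩
  set W := Subgroup.closure ({a, b} : Set (G ⧸ V))
  have hWc : ∀ x ∈ W, ∀ y ∈ W, x * y = y * x := by
    haveI : IsMulCommutative W := Subgroup.isMulCommutative_closure (by
      rintro x (rfl | rfl) y (rfl | rfl) <;> first | rfl | exact hab | exact hab.symm)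
    exact fun x hx y hy => congrArg Subtype.val (mul_comm' (⟨x, hx⟩ : W) ⟨y, hy⟩)
  have hW3 : ∀ x ∈ W, x ^ 3 = 1 := by
    intro x hx
    induction hx using Subgroup.closure_induction with
    | mem x hx => rcases hx with rfl | rfl <;> assumption
    | one => simp
    | mul x y hx hy hx' hy' => rw [(show Commute x y from hWc x hx y hy).mul_pow, hx', hy', one_mul]
    | inv x hx hx' => rw [inv_pow, hx', inv_one]
  obtain ⟨m, hm⟩ := (Cores.MinNormal.isPGroup_of_pow_eq_one (fun x hx => hW3 x hx) : IsPGroup 3 W).exists_card_eq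
  set K := W.comap (QuotientGroup.mk' V)
  have hVK : V ≤ K := fun v hv => by
    rw [Subgroup.mem_comap, QuotientGroup.mk'_apply, (QuotientGroup.eq_one_iff v).2 hv]
    exact W.one_mem
  let π : K →* W := (QuotientGroup.mk' V).subgroupComap W
  have hπ : Function.Surjective π :=
    MonoidHom.subgroupComap_surjective_of_surjective _ _ (QuotientGroup.mk'_surjective V)
  have hπker : π.ker = V.subgroupOf K := by
    ext x
    rw [MonoidHom.mem_ker, Subgroup.mem_subgroupOf, ← QuotientGroup.eq_one_iff (N := V) (x : G), Subtype.ext_iff]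
    rfl
  obtain ⟨i, hi⟩ := hV.exists_card_eq
  have hcop : (Nat.card π.ker).Coprime π.ker.index := by
    rw [Subgroup.index_ker, MonoidHom.range_eq_top.2 hπ, Subgroup.card_top, hm, hπker,
      Nat.card_congr (Subgroup.subgroupOfEquivOfLe hVK).toEquiv, hi]
    exact Nat.Coprime.pow _ _ (by norm_num)
  obtain ⟨T, hT⟩ := Subgroup.exists_right_complement'_of_coprime hcop
  set T' := T.map K.subtype
  have hTd : ∀ t ∈ T', (QuotientGroup.mk' V t = 1) → t = 1 := by
    rintro _ ⟨t, ht, rfl⟩ h1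
    have hk : t ∈ π.ker := Subtype.ext h1
    rw [Subgroup.mem_bot.1 (hT.disjoint.le_bot ⟨hk, ht⟩), map_one]
  have hTW : ∀ t ∈ T', QuotientGroup.mk' V t ∈ W := by
    rintro _ ⟨t, -, rfl⟩; exact t.2
  have hinj : ∀ s ∈ T', ∀ t ∈ T', QuotientGroup.mk' V s = QuotientGroup.mk' V t → s = t := by
    intro s hs t ht he
    exact inv_mul_eq_one.1 (hTd (s⁻¹ * t) (T'.mul_mem (T'.inv_mem hs) ht) (by
      rw [map_mul, map_inv, he, inv_mul_cancel]))
  haveI hTc : IsMulCommutative T' := ⟨⟨fun s t => Subtype.ext (hinj _ (T'.mul_mem s.2 t.2) _ (T'.mul_mem t.2 s.2)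
    (by show QuotientGroup.mk' V ((s : G) * (t : G)) = QuotientGroup.mk' V ((t : G) * (s : G)); rw [map_mul, map_mul]; exact hWc _ (hTW s s.2) _ (hTW t t.2)))⟩⟩
  -- a nontrivial abelian normal subgroup inside `V`
  haveI : Nontrivial V := (Subgroup.nontrivial_iff_ne_bot V).2 hV1
  set Z := (Subgroup.center V).map V.subtype
  haveI : Z.Normal := ConjAct.normal_of_characteristic_of_normal
  have hZ1 : Z ≠ ⊥ := fun e => by
    haveI := hV.center_nontrivial
    exact (Subgroup.nontrivial_iff_ne_bot _).1 ‹_›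
      ((Subgroup.map_eq_bot_iff_of_injective _ V.subtype_injective).1 e)
  have hN : T' ≤ Subgroup.normalizer (Z : Set G) := by
    rw [Subgroup.normalizer_eq_top_iff.2 inferInstance]; exact le_top
  haveI : IsMulCommutative Z := ⟨⟨by
    rintro ⟨_, x, hx, rfl⟩ ⟨_, y, -, rfl⟩
    exact Subtype.ext (show V.subtype x * V.subtype y = V.subtype y * V.subtype x by
      rw [← map_mul, ← map_mul, (Subgroup.mem_center_iff.1 hx) y])⟩⟩
  letI : CommGroup Z := { (inferInstance : Group Z) with mul_comm := mul_comm' }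
  haveI : Nontrivial Z := (Subgroup.nontrivial_iff_ne_bot Z).2 hZ1
  have hfpf : ∀ t ∈ T', t ≠ 1 → Z ⊓ Subgroup.centralizer {t} = ⊥ := by
    intro t ht ht1
    rw [Subgroup.eq_bot_iff_forall]
    rintro z ⟨hzZ, hzC⟩
    by_contra hz1
    obtain ⟨j, hj⟩ := IsPGroup.iff_orderOf.1 hV ⟨z, Subgroup.map_subtype_le _ hzZ⟩
    rw [Subgroup.orderOf_mk] at hj
    have hj0 : j ≠ 0 := fun h0 => hz1 (orderOf_eq_one_iff.1 (by rw [hj, h0, pow_zero]))
    have h3 : 3 ∣ orderOf t := by
      have ho : orderOf (QuotientGroup.mk' V t) = 3 :=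
        orderOf_eq_prime (hW3 _ (hTW t ht)) (fun e => ht1 (hTd t ht e))
      exact ho ▸ orderOf_map_dvd _ t
    have := h.eq_of_commute ((Subgroup.mem_centralizer_iff.1 hzC) t rfl) Nat.prime_three Nat.prime_two h3
      (hj ▸ dvd_pow_self 2 hj0)
    omega
  have hρ := Frobenius.isFPF_conj hN hfpf
  have hcyc : IsCyclic T' := hρ.isCyclic_of_commutative
  -- the lifts of `a`, `b`
  have hsurj : ∀ x ∈ W, ∃ t ∈ T', QuotientGroup.mk' V t = x := by
    intro x hx
    obtain ⟨k, hk⟩ := hπ ⟨x, hx⟩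
    obtain ⟨⟨v, t⟩, hvt⟩ := hT.2 k
    refine ⟨_, ⟨(t : K), t.2, rfl⟩, ?_⟩
    have := congrArg π hvt
    simp only [map_mul, MonoidHom.mem_ker.1 v.2, one_mul, hk] at this
    exact congrArg Subtype.val this
  obtain ⟨s, hs, rfl⟩ := hsurj a (Subgroup.subset_closure (by simp))
  obtain ⟨t, ht, rfl⟩ := hsurj b (Subgroup.subset_closure (by simp))
  have hs3 : s ^ 3 = 1 := hTd _ (T'.pow_mem hs 3) (by rw [map_pow, ha])
  have ht3 : t ^ 3 = 1 := hTd _ (T'.pow_mem ht 3) (by rw [map_pow, hb])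
  have hso : orderOf s = 3 := orderOf_eq_prime hs3 (fun e => ha1 (by rw [e, map_one]))
  have hto : orderOf t = 3 := orderOf_eq_prime ht3 (fun e => hb1 (by rw [e, map_one]))
  have htm : (⟨t, ht⟩ : T') ∈ Subgroup.zpowers (⟨s, hs⟩ : T') := by
    obtain ⟨g, hg⟩ := hcyc.exists_ofOrder_eq_natCard
    have hg3 : g ^ 3 = 1 := Subtype.ext (hTd _ (T'.pow_mem g.2 3) (by
      show QuotientGroup.mk' V ((g : G) ^ 3) = 1
      rw [map_pow]; exact hW3 _ (hTW g g.2)))
    have htop : Subgroup.zpowers (⟨s, hs⟩ : T') = ⊤ := Subgroup.eq_top_of_le_card _ (by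
      rw [Nat.card_zpowers, Subgroup.orderOf_mk, hso, ← hg]
      exact Nat.le_of_dvd (by norm_num) (orderOf_dvd_of_pow_eq_one hg3))
    rw [htop]; trivial
  obtain ⟨z, hz⟩ := Subgroup.mem_zpowers_iff.1 htm
  have hz' : s ^ z = t := congrArg Subtype.val hz
  rw [← zpow_mod_orderOf, hso] at hz'
  have hz0 := Int.emod_nonneg z (show (3 : ℤ) ≠ 0 by norm_num)
  have hz3 := Int.emod_lt_of_pos z (show (0 : ℤ) < 3 by norm_num)
  push_cast at hz'
  interval_cases h : z % 3
  · exact hb1 (by rw [← hz', zpow_zero, map_one])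
  · exact hba (by rw [← hz', zpow_one])
  · exact hba2 (by rw [← hz', show (2 : ℤ) = ((2 : ℕ) : ℤ) by norm_num, zpow_natCast, map_pow])

/-- The list of the simple groups in which every element has prime power order. -/
def SimpleList : Prop :=
  ∀ (S : Type u) [Group S] [Finite S] [IsSimpleGroup S], ¬ IsMulCommutative S →
    (∀ g : S, g ≠ 1 → IsPrimePow (orderOf g)) →
    Nonempty (S ≃* alternatingGroup (Fin 6)) ∨
    (∃ (F : Type) (_ : Field F) (_ : Fintype F), Fintype.card F ∈ ({4, 7, 8, 17} : Finset ℕ) ∧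
      Nonempty (S ≃* Matrix.ProjectiveSpecialLinearGroup (Fin 2) F)) ∨
    (∃ (F : Type) (_ : Field F) (_ : Fintype F), Fintype.card F = 4 ∧
      Nonempty (S ≃* Matrix.ProjectiveSpecialLinearGroup (Fin 3) F)) ∨
    (∃ (F : Type) (_ : Field F) (_ : Fintype F),
      (Fintype.card F = 8 ∧ Nonempty (S ≃* ↥(Cfsg.Lie.Sz F 4))) ∨
      (Fintype.card F = 32 ∧ Nonempty (S ≃* ↥(Cfsg.Lie.Sz F 8))))

theorem squarefree_six : Squarefree (6 : ℕ) := by
  rw [show (6 : ℕ) = 2 * 3 by norm_num, Nat.squarefree_mul (by norm_num)]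
  exact ⟨Nat.prime_two.squarefree, Nat.prime_three.squarefree⟩

theorem squarefree_thirty : Squarefree (30 : ℕ) := by
  rw [show (30 : ℕ) = 6 * 5 by norm_num, Nat.squarefree_mul (by norm_num)]
  exact ⟨squarefree_six, (by norm_num : Nat.Prime 5).squarefree⟩

theorem card_psl34 (F : Type*) [Field F] [Fintype F] (hF : Fintype.card F = 4) :
    Nat.card (Matrix.ProjectiveSpecialLinearGroup (Fin 3) F) = 20160 := by
  have h1 := Linear.sub_one_mul_card_SL (F := F) 3 (by norm_num)
  have h2 := Linear.card_SL_eq_gcd_mul_card_PSL (ι := Fin 3) (F := F)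
  rw [hF, Fin.prod_univ_three] at h1
  rw [Fintype.card_fin, Nat.card_eq_fintype_card (α := F), hF, show Nat.gcd 3 (4 - 1) = 3 by decide] at h2
  norm_num [h2] at h1
  omega

theorem card_psl2 (F : Type*) [Field F] [Fintype F] (hF : Fintype.card F ∈ ({4, 7, 8, 17} : Finset ℕ)) :
    Nat.card (Matrix.ProjectiveSpecialLinearGroup (Fin 2) F) ∈ ({60, 168, 504, 2448} : Finset ℕ) := by
  simp only [Finset.mem_insert, Finset.mem_singleton] at hF ⊢
  rcases hF with h | h | h | h
  · have := Linear.card_PSL_two_of_even (F := F) (by rw [h]; decide)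
    rw [h] at this; norm_num at this; omega
  · have := Linear.two_mul_card_PSL_two_of_odd (F := F) (by rw [h]; decide)
    rw [h] at this; norm_num at this; omega
  · have := Linear.card_PSL_two_of_even (F := F) (by rw [h]; decide)
    rw [h] at this; norm_num at this; omega
  · have := Linear.two_mul_card_PSL_two_of_odd (F := F) (by rw [h]; decide)
    rw [h] at this; norm_num at this; omega

theorem card_sz (F : Type) [Field F] [Fintype F] {m : ℕ} (hm : 1 ≤ m) (hF : Fintype.card F = 2 ^ (2 * m + 1)) :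
    Nat.card (Cfsg.Lie.Sz F (2 ^ (m + 1))) =
      Fintype.card F ^ 2 * (Fintype.card F ^ 2 + 1) * (Fintype.card F - 1) := by
  have h : LieTwisted.Suzuki.IsSzField F m := ⟨hF⟩
  rw [← Nat.card_congr (LieTwisted.Suzuki.szEquiv h hm).toEquiv, h.card_group hm]

theorem primes_small : (360 : ℕ).primeFactors.card ≤ 3 ∧ (60 : ℕ).primeFactors.card ≤ 3 ∧
    (168 : ℕ).primeFactors.card ≤ 3 ∧ (504 : ℕ).primeFactors.card ≤ 3 ∧
    (2448 : ℕ).primeFactors.card ≤ 3 ∧ (20160 : ℕ).primeFactors.card ≤ 4 ∧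
    (29120 : ℕ).primeFactors.card ≤ 4 ∧ (32537600 : ℕ).primeFactors.card ≤ 4 := by
  simp only [Nat.primeFactors, Nat.primeFactorsList_ofNat]
  decide

variable {G : Type u} [Group G] [Finite G]

/-- Data of one simple group of the list: its order, and a prime dividing it exactly once. -/
theorem primeFactors_eq (h : Hyp G) (S : Subgroup (G ⧸ Cfsg.pCore 2 G)) [S.Normal]
    (hsim : IsSimpleGroup S) (hna : ¬ IsMulCommutative S) {n p : ℕ} (hn : Nat.card S = n) (hp : p.Prime)
    (hd : p ∣ n) (hd2 : ¬ p ^ 2 ∣ n) (h2 : 2 ∣ n) :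
    (Nat.card G).primeFactors = n.primeFactors := by
  haveI := Fact.mk hp
  haveI : Fact (Nat.Prime 2) := ⟨Nat.prime_two⟩
  subst hn
  obtain ⟨k, hk⟩ := (Cores.pCore_isPGroup (G := G) 2).exists_card_eq
  ext q
  simp only [Nat.mem_primeFactors]
  constructor
  · rintro ⟨hq, hqd, -⟩
    refine ⟨hq, ?_, Nat.card_pos.ne'⟩
    rw [Subgroup.card_eq_card_quotient_mul_card_subgroup (Cfsg.pCore 2 G), hk] at hqd
    rcases hq.dvd_mul.1 hqd with h1 | h1
    · exact prime_dvd_of_dvd_card (h.quotient _) S hsim hna hd hd2 hq h1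
    · rwa [(Nat.prime_dvd_prime_iff_eq hq Nat.prime_two).1 (hq.dvd_of_dvd_pow h1)]
  · rintro ⟨hq, hqd, -⟩
    refine ⟨hq, ?_, Nat.card_pos.ne'⟩
    rw [Subgroup.card_eq_card_quotient_mul_card_subgroup (Cfsg.pCore 2 G)]
    exact (hqd.trans (Subgroup.card_subgroup_dvd_card S)).mul_right _

/-- The main theorem. -/
theorem main (hlist : SimpleList.{u}) (h : Hyp G) :
    (Nat.card G).primeFactors.card ≤ 4 ∧
    ((Nat.card G).primeFactors.card = 4 →
      (∃ (F : Type) (_ : Field F) (_ : Fintype F), Fintype.card F = 4 ∧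
        Nonempty (G ≃* Matrix.ProjectiveSpecialLinearGroup (Fin 3) F)) ∨
      (∃ (N : Subgroup G) (_ : N.Normal), IsPGroup 2 ↥N ∧
        ∃ (F : Type) (_ : Field F) (_ : Fintype F),
          (Fintype.card F = 8 ∧ Nonempty (G ⧸ N ≃* ↥(Cfsg.Lie.Sz F 4))) ∨
          (Fintype.card F = 32 ∧ Nonempty (G ⧸ N ≃* ↥(Cfsg.Lie.Sz F 8))))) := by
  by_cases h3 : (Nat.card G).primeFactors.card ≤ 2
  · exact ⟨by omega, by omega⟩
  have hns := not_isSolvable_of_three h (by omega)
  set V := Cfsg.pCore 2 G with hV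
  haveI : Fact (Nat.Prime 2) := ⟨Nat.prime_two⟩
  obtain ⟨S, hSn, hsim, hna, -⟩ := exists_socle (h.quotient V) (not_isSolvable_quotient_pCore hns)
    (Cores.pCore_quotient_pCore 2)
  haveI := hSn
  haveI := hsim
  obtain ⟨b1, b2, b3, b4, b5, b6, b7, b8⟩ := primes_small
  rcases hlist S hna ((h.quotient V).subgroup S) with ⟨⟨e⟩⟩ | ⟨F, _, _, hF, ⟨e⟩⟩ |
      ⟨F, _, _, hF, ⟨e⟩⟩ | ⟨F, _, _, ⟨hF, ⟨e⟩⟩ | ⟨hF, ⟨e⟩⟩⟩
  · have hc : Nat.card S = 360 := by
      rw [Nat.card_congr e.toEquiv, nat_card_alternatingGroup, Nat.card_eq_fintype_card, Fintype.card_fin]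
      rfl
    rw [primeFactors_eq h S hsim hna hc (p := 5) (by norm_num) (by norm_num) (by norm_num) (by norm_num)]
    exact ⟨by omega, by omega⟩
  · have hc := card_psl2 F hF
    rw [← Nat.card_congr e.toEquiv] at hc
    simp only [Finset.mem_insert, Finset.mem_singleton] at hc
    rcases hc with hc | hc | hc | hc
    · rw [primeFactors_eq h S hsim hna hc (p := 5) (by norm_num) (by norm_num) (by norm_num) (by norm_num)]
      exact ⟨by omega, by omega⟩
    · rw [primeFactors_eq h S hsim hna hc (p := 7) (by norm_num) (by norm_num) (by norm_num) (by norm_num)]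
      exact ⟨by omega, by omega⟩
    · rw [primeFactors_eq h S hsim hna hc (p := 7) (by norm_num) (by norm_num) (by norm_num) (by norm_num)]
      exact ⟨by omega, by omega⟩
    · rw [primeFactors_eq h S hsim hna hc (p := 17) (by norm_num) (by norm_num) (by norm_num) (by norm_num)]
      exact ⟨by omega, by omega⟩
  · have hc : Nat.card S = 20160 := (Nat.card_congr e.toEquiv).trans (card_psl34 F hF)
    have hpf := primeFactors_eq h S hsim hna hc (p := 7) (by norm_num) (by norm_num) (by norm_num) (by norm_num)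
    refine ⟨by rw [hpf]; exact b6, fun _ => Or.inl ⟨F, inferInstance, inferInstance, hF, ?_⟩⟩
    haveI : Fact (Nat.Prime 7) := ⟨by norm_num⟩
    have hS := eq_top_of_squarefree (h.quotient V) S hsim hna (p := 7) (by rw [hc]; norm_num) (by rw [hc]; norm_num)
      squarefree_six
    let e' : G ⧸ V ≃* Matrix.ProjectiveSpecialLinearGroup (Fin 3) F :=
      (Subgroup.topEquiv.symm.trans (MulEquiv.subgroupCongr hS.symm)).trans e
    obtain ⟨a, b, ha, hb, hab, ha1, hb1, hba, hba2⟩ := psl34_threeGroup F hF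
    have hV1 : V = ⊥ := eq_bot_of_threeGroup h V (Cores.pCore_isPGroup 2) (a := e'.symm a) (b := e'.symm b)
      (by rw [← map_pow, ha, map_one]) (by rw [← map_pow, hb, map_one]) (by rw [← map_mul, hab, map_mul])
      (fun hh => ha1 (e'.symm.injective (hh.trans (map_one _).symm)))
      (fun hh => hb1 (e'.symm.injective (hh.trans (map_one _).symm)))
      (fun hh => hba (e'.symm.injective hh))
      (fun hh => hba2 (e'.symm.injective (hh.trans (map_pow _ _ _).symm)))
    exact ⟨((QuotientGroup.quotientMulEquivOfEq hV1).trans QuotientGroup.quotientBot).symm.trans e'⟩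
  · have hsz := card_sz F le_rfl (by rw [hF]; norm_num)
    rw [hF] at hsz
    have hc : Nat.card S = 29120 := (Nat.card_congr e.toEquiv).trans hsz
    have hpf := primeFactors_eq h S hsim hna hc (p := 7) (by norm_num) (by norm_num) (by norm_num) (by norm_num)
    refine ⟨by rw [hpf]; exact b7, fun _ => Or.inr ⟨V, inferInstance, Cores.pCore_isPGroup 2, F, inferInstance,
      inferInstance, Or.inl ⟨hF, ?_⟩⟩⟩
    haveI : Fact (Nat.Prime 7) := ⟨by norm_num⟩
    have hS := eq_top_of_squarefree (h.quotient V) S hsim hna (p := 7) (by rw [hc]; norm_num) (by rw [hc]; norm_num)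
      squarefree_six
    exact ⟨(Subgroup.topEquiv.symm.trans (MulEquiv.subgroupCongr hS.symm)).trans e⟩
  · have hsz := card_sz F (m := 2) (by norm_num) (by rw [hF]; norm_num)
    rw [hF] at hsz
    have hc : Nat.card S = 32537600 := (Nat.card_congr e.toEquiv).trans hsz
    have hpf := primeFactors_eq h S hsim hna hc (p := 31) (by norm_num) (by norm_num) (by norm_num) (by norm_num)
    refine ⟨by rw [hpf]; exact b8, fun _ => Or.inr ⟨V, inferInstance, Cores.pCore_isPGroup 2, F, inferInstance,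
      inferInstance, Or.inr ⟨hF, ?_⟩⟩⟩
    haveI : Fact (Nat.Prime 31) := ⟨by norm_num⟩
    have hS := eq_top_of_squarefree (h.quotient V) S hsim hna (p := 31) (by rw [hc]; norm_num) (by rw [hc]; norm_num)
      squarefree_thirty
    exact ⟨(Subgroup.topEquiv.symm.trans (MulEquiv.subgroupCongr hS.symm)).trans e⟩

end Cfsg.Agent.Lib.Spectrum.EPPOPrimes
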