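import Cfsg.Agent.Lib.Spectrum.HuppertStructure

/-! The arithmetic finishing the classification of solvable transitive linear groups. -/

set_option autoImplicit false
set_option linter.unusedSectionVars false
set_option linter.style.haveILetI false

namespace Cfsg.Agent.Lib.Spectrum.Huppert

theorem small_pow {k m : ℕ} (h : 3 ^ m + 1 ≤ 24 * m) (hk : 3 ≤ k) (hk' : k ^ m + 1 ≤ 24 * m) :
    (m = 1 ∧ k ≤ 23) ∨ (m = 2 ∧ k ≤ 6) ∨ (m = 3 ∧ k ≤ 4) ∨ (m = 4 ∧ k ≤ 3) := by
  have hm : m ≤ 4 := by
    by_contra hlt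
    have : ∀ j, 24 * (j + 5) < 3 ^ (j + 5) + 1 := by
      intro j
      induction j with
      | zero => norm_num
      | succ j ih => rw [show j + 1 + 5 = (j + 5) + 1 by ring, pow_succ]; omega
    have := this (m - 5)
    rw [show m - 5 + 5 = m by omega] at this
    omega
  interval_cases m
  · simp at h
  · left; refine ⟨rfl, ?_⟩; rw [pow_one] at hk'; omega
  · right; left; refine ⟨rfl, ?_⟩; nlinarith
  · right; right; left; refine ⟨rfl, ?_⟩
    by_contra hc
    have := Nat.pow_le_pow_left (show 5 ≤ k by omega) 3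
    omega
  · right; right; right; refine ⟨rfl, ?_⟩
    by_contra hc
    have := Nat.pow_le_pow_left (show 4 ≤ k by omega) 4
    omega

theorem odd_bound {d : ℕ} (hd : 7 ≤ d) : d ^ 3 < 4 ^ (d - d / 3) := by
  have key : ∀ j, (3 * (j + 5)) ^ 3 < 8 * 4 ^ (j + 5) := by
    intro j
    induction j with
    | zero => norm_num
    | succ j ih =>
      rw [show j + 1 + 5 = (j + 5) + 1 by ring, pow_succ 4]
      nlinarith [sq_nonneg (j : ℤ), Nat.zero_le (j ^ 3), Nat.zero_le (j ^ 2)]
  have h := key (d - d / 3 - 5)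
  rw [show d - d / 3 - 5 + 5 = d - d / 3 by omega] at h
  have h2 : 2 * d ≤ 3 * (d - d / 3) := by omega
  have h3 := Nat.pow_le_pow_left h2 3
  rw [mul_pow] at h3
  omega

theorem even_bound {h : ℕ} (hh : 5 ≤ h) : 2 * (2 * h * (2 * h) - 1) < 3 ^ h + 1 := by
  have key : ∀ j, 8 * ((j + 5) * (j + 5)) < 3 ^ (j + 5) := by
    intro j
    induction j with
    | zero => norm_num
    | succ j ih =>
      rw [show j + 1 + 5 = (j + 5) + 1 by ring, pow_succ 3]
      nlinarith
  have := key (h - 5)
  rw [show h - 5 + 5 = h by omega] at this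
  have e : 2 * h * (2 * h) = 4 * (h * h) := by ring
  omega

theorem prime_le_23_cases {q : ℕ} (hq : q.Prime) (h : q ≤ 23) (hd : q + 1 ∣ 24) :
    q = 2 ∨ q = 3 ∨ q = 5 ∨ q = 7 ∨ q = 11 ∨ q = 23 := by
  have hcases : ∀ k : Fin 24, (k.1 + 1) ∣ 24 → k.1 ≠ 0 → k.1 ≠ 1 →
      k.1 = 2 ∨ k.1 = 3 ∨ k.1 = 5 ∨ k.1 = 7 ∨ k.1 = 11 ∨ k.1 = 23 := by decide
  exact hcases ⟨q, by omega⟩ hd hq.ne_zero hq.ne_one

variable {q : ℕ} [Fact q.Prime] {V : Type*} [AddCommGroup V] [Module (ZMod q) V] [Finite V]
  [Nontrivial V]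
variable {G : Type*} [Group G] [Finite G] {ρ : G →* (V ≃ₗ[ZMod q] V)}
variable {m d : ℕ} {A B C : Subgroup G}

theorem Facts.card_eq (F : Facts ρ m d A B C) :
    Nat.card G = C.index * (B.relIndex C * (A.relIndex B * Nat.card A)) := by
  have h1 := Subgroup.card_mul_index C
  have h2 : Nat.card C = Nat.card B * B.relIndex C := by
    rw [← Subgroup.card_mul_index (B.subgroupOf C),
      Nat.card_congr (Subgroup.subgroupOfEquivOfLe F.B_le).toEquiv]
    rfl
  have h3 : Nat.card B = Nat.card A * A.relIndex B := by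
    rw [← Subgroup.card_mul_index (A.subgroupOf B),
      Nat.card_congr (Subgroup.subgroupOfEquivOfLe F.A_le).toEquiv]
    rfl
  rw [← h1, h2, h3]; ring

theorem Facts.prime_dvd_relIndex (F : Facts ρ m d A B C) {p : ℕ} (hp : p.Prime)
    (h1 : p ∣ (q ^ m) ^ d - 1) (h2 : ¬ p ∣ m) (h3 : ¬ p ∣ q ^ m - 1) (h4 : ¬ p ∣ A.relIndex B) :
    ∃ f : ℕ, f ∣ A.relIndex B ∧ f < A.relIndex B ∧ f % p = A.relIndex B % p := by
  have h := h1.trans F.orbit
  rw [F.card_eq] at h
  rcases hp.dvd_mul.1 h with h | h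
  · exact absurd (h.trans F.index_C) h2
  rcases hp.dvd_mul.1 h with h | h
  · exact F.aut p hp h
  rcases hp.dvd_mul.1 h with h | h
  · exact absurd h h4
  · exact absurd (h.trans F.card_A) h3

/-- If `|B : A| = 4` then `d = 2`, `m = 1` and `q` is 3, 5, 7, 11 or 23. -/
theorem Facts.of_four (F : Facts ρ m d A B C) (h4 : A.relIndex B = 4) :
    d = 2 ∧ m = 1 ∧ (q = 3 ∨ q = 5 ∨ q = 7 ∨ q = 11 ∨ q = 23) := by
  have hq : q.Prime := Fact.out
  obtain ⟨hQ1, hd2⟩ := F.roots 2 Nat.prime_two (h4 ▸ by norm_num)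
  have hm := F.pos_m
  have hq3 : 3 ≤ q := by
    by_contra hlt
    obtain rfl : q = 2 := le_antisymm (by omega) hq.two_le
    obtain ⟨k, hk⟩ := hQ1
    obtain ⟨l, hl⟩ := dvd_pow_self 2 hm.ne'
    have := Nat.one_le_pow m 2 two_pos
    omega
  have h24 : (q ^ m) ^ d - 1 ∣ 24 * m * (q ^ m - 1) := by
    refine F.orbit.trans ?_
    rw [F.card_eq, h4, show 24 * m * (q ^ m - 1) = m * (6 * (4 * (q ^ m - 1))) by ring]
    exact Nat.mul_dvd_mul F.index_C (Nat.mul_dvd_mul (F.six h4) (Nat.mul_dvd_mul_left 4 F.card_A))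
  have hQ3 : 3 ^ m ≤ q ^ m := Nat.pow_le_pow_left hq3 m
  have hQ3' : 3 ≤ q ^ m := le_trans hq3 (Nat.le_self_pow hm.ne' q)
  obtain ⟨e, rfl⟩ := hd2
  have he : 1 ≤ e := by have := F.two_le_d; omega
  have h24' : (q ^ m) ^ e + 1 ∣ 24 * m ∧ e = 1 := by
    have hfac : ∀ a b : ℕ, 1 ≤ a → a ^ (2 * b) - 1 = (a ^ b + 1) * (a ^ b - 1) := by
      intro a b ha
      rw [two_mul, pow_add]
      have := Nat.one_le_pow b a ha
      generalize a ^ b = x at this
      obtain ⟨y, rfl⟩ : ∃ y, x = y + 1 := ⟨x - 1, by omega⟩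
      rw [Nat.add_sub_cancel, show (y + 1) * (y + 1) = (y + 1 + 1) * y + 1 by ring,
        Nat.add_sub_cancel]
    by_cases he1 : e = 1
    · subst he1
      refine ⟨?_, rfl⟩
      rw [hfac _ _ (by omega), pow_one] at h24
      rw [pow_one]
      exact Nat.dvd_of_mul_dvd_mul_right (by omega) h24
    · exfalso
      have h2e : 2 ≤ e := by omega
      have hle := Nat.le_of_dvd (Nat.mul_pos (by omega) (by omega)) h24
      rw [hfac _ _ (by omega)] at hle
      have h1 : (q ^ m) ^ 2 ≤ (q ^ m) ^ e := Nat.pow_le_pow_right (by omega) h2e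
      have h5 : m < 3 ^ m := Nat.lt_pow_self (by norm_num)
      have h6 : q ^ m - 1 ≤ (q ^ m) ^ e - 1 := by
        have := Nat.le_self_pow (show e ≠ 0 by omega) (q ^ m)
        omega
      by_cases hQ5 : q ^ m < 5
      · -- only `q = 3`, `m = 1` remains
        have hm1 : m = 1 := by
          by_contra hne
          have := Nat.pow_le_pow_right (show 1 ≤ 3 by norm_num) (show 2 ≤ m by omega)
          omega
        subst hm1
        rw [pow_one] at hQ5 hle h1 hQ3'
        have hq' : q = 3 := by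
          rcases Nat.lt_or_ge q 4 with h | h
          · omega
          · exact absurd ((show q = 4 by omega) ▸ hq) (by norm_num)
        subst hq'
        norm_num at hle
        have : 9 ≤ 3 ^ e := h1.trans' (by norm_num)
        nlinarith [Nat.sub_add_cancel (show 1 ≤ 3 ^ e by omega)]
      · have h7 : (q ^ m) ^ 2 - 1 ≤ (q ^ m) ^ e - 1 := by omega
        have h8 : ((q ^ m) ^ 2 + 1) * ((q ^ m) ^ 2 - 1) ≤ 24 * m * (q ^ m - 1) :=
          le_trans (Nat.mul_le_mul (by omega) h7) hle
        have h9 : 24 * m * (q ^ m - 1) < ((q ^ m) ^ 2 + 1) * ((q ^ m) ^ 2 - 1) := by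
          have hkey : 24 * m < (q ^ m) ^ 2 + 1 := by
            rcases Nat.lt_or_ge m 2 with hm2 | hm2
            · obtain rfl : m = 1 := by omega
              have := Nat.pow_le_pow_left (show 5 ≤ q ^ 1 by omega) 2
              omega
            · have h9m : ∀ j, 24 * (j + 2) < 9 ^ (j + 2) := by
                intro j
                induction j with
                | zero => norm_num
                | succ j ih => rw [show j + 1 + 2 = (j + 2) + 1 by ring, pow_succ]; omega
              have h9' := h9m (m - 2)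
              have e9 : (9 : ℕ) ^ m = (3 ^ m) ^ 2 := by rw [← pow_mul, mul_comm, pow_mul]; norm_num
              rw [show m - 2 + 2 = m by omega, e9] at h9'
              have := Nat.pow_le_pow_left hQ3 2
              omega
          refine Nat.mul_lt_mul_of_lt_of_le hkey ?_ ?_
          · have : q ^ m ≤ (q ^ m) ^ 2 := Nat.le_self_pow (by norm_num) _
            omega
          · have : q ^ m ≤ (q ^ m) ^ 2 := Nat.le_self_pow (by norm_num) _
            omega
        exact absurd h9 (not_lt.2 h8)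
  obtain ⟨hdvd, rfl⟩ := h24'
  rw [pow_one] at hdvd
  refine ⟨rfl, ?_⟩
  have hle := Nat.le_of_dvd (by omega) hdvd
  rcases small_pow (by omega) hq3 hle with ⟨rfl, hq23⟩ | ⟨rfl, hq6⟩ | ⟨rfl, hq4⟩ | ⟨rfl, hq3'⟩
  · rw [pow_one, mul_one] at hdvd
    refine ⟨rfl, ?_⟩
    rcases prime_le_23_cases hq hq23 hdvd with h | h | h | h | h | h <;> omega
  all_goals exfalso; interval_cases q <;> first | omega | norm_num at hdvd hq

theorem dvd_of_prime_power {N k : ℕ} {p : ℕ} (hN : N ≠ 0) (hp : ∀ r, r.Prime → r ∣ N → r = p)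
    (hle : N < p ^ (k + 1)) : N ∣ p ^ k := by
  obtain rfl | hN1 := eq_or_ne N 1
  · exact one_dvd _
  have hN' := Nat.eq_prime_pow_of_unique_prime_dvd hN (fun {d} hd hdN => hp d hd hdN)
  rw [hN'] at hle ⊢
  refine pow_dvd_pow p ?_
  by_contra hlt
  have hp1 : 1 ≤ p := by
    obtain ⟨r, hr, hrN⟩ := Nat.exists_prime_and_dvd hN1
    exact hp r hr hrN ▸ hr.one_le
  have := Nat.pow_le_pow_right hp1 (show k + 1 ≤ N.primeFactorsList.length by omega)
  omega

/-- The exceptional orders. -/
theorem Facts.card_mem (F : Facts ρ m d A B C) :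
    Nat.card V ∈ ({9, 25, 49, 121, 529, 81} : Set ℕ) := by
  have hq : q.Prime := Fact.out
  by_cases h4 : A.relIndex B = 4
  · obtain ⟨hd, hm, hqq⟩ := F.of_four h4
    rw [F.card_V, hd, hm, pow_one]
    rcases hqq with rfl | rfl | rfl | rfl | rfl <;> norm_num
  have hN0 : A.relIndex B ≠ 0 := Subgroup.index_ne_zero_of_finite (H := A.subgroupOf B)
  have hN1 := F.N_ne_one
  have hNp := F.N_not_prime
  have hm := F.pos_m
  have hd2 := F.two_le_d
  have hNle := F.N_le
  obtain ⟨r, hr, hrN⟩ := Nat.exists_prime_and_dvd hN1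
  obtain ⟨hrQ, hrd⟩ := F.roots r hr hrN
  have hroots := F.roots
  have hcrit := @Facts.prime_dvd_relIndex q _ V _ _ _ _ G _ _ ρ m d A B C F
  have hQ2 : 2 ≤ q ^ m := le_trans hq.two_le (Nat.le_self_pow hm.ne' q)
  have hQ3 : 3 ≤ q ^ m := by
    have := Nat.le_of_dvd (by omega) hrQ
    have := hr.two_le
    omega
  have hp : ∀ {M b k : ℕ}, q ^ M = b ^ k → M ≠ 0 → b.Prime → q = b := fun {M b k} h hM hb' =>
    (Nat.prime_dvd_prime_iff_eq hq hb').1 (hq.dvd_of_dvd_pow (n := k) (h ▸ dvd_pow_self q hM))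
  rcases Nat.even_or_odd d with hev | hodd
  · have hc := F.count_even h4 hev
    obtain ⟨e, rfl⟩ := hev
    rw [show (e + e) / 2 = e by omega] at hc
    have he4 : e ≤ 4 := by
      by_contra hlt
      have h1 := even_bound (show 5 ≤ e by omega)
      have h2 := Nat.pow_le_pow_left hQ3 e
      have e2 : (e + e) * (e + e) = 2 * e * (2 * e) := by ring
      omega
    interval_cases e
    · omega
    · -- `d = 2`
      exfalso
      have h4' : A.relIndex B ≤ 4 := hNle
      interval_cases hN : A.relIndex B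
      · omega
      · omega
      · exact hNp Nat.prime_two
      · exact hNp Nat.prime_three
      · omega
    · -- `d = 4`
      have hQ5 : q ^ m ≤ 5 := by
        by_contra hc5
        have := Nat.pow_le_pow_left (show 6 ≤ q ^ m by omega) 2
        omega
      have hr4 : ∀ s, s.Prime → s ∣ A.relIndex B → s = 2 := fun s hs hsN =>
        (Nat.prime_dvd_prime_iff_eq hs Nat.prime_two).1
          (hs.dvd_of_dvd_pow (show s ∣ 2 ^ 2 from (hroots s hs hsN).2))
      have hr2 := hr4 r hr hrN
      subst hr2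
      have hN16 : A.relIndex B ∣ 2 ^ 4 := dvd_of_prime_power hN0 hr4 (by omega)
      rw [F.card_V]
      interval_cases hQ : q ^ m
      · norm_num
      · norm_num at hrQ
      · exfalso
        have hm1 : m = 1 := by
          have hq5 : q = 5 := hp (hQ.trans (pow_one 5).symm) hm.ne' (by norm_num)
          subst hq5
          exact Nat.pow_right_injective (by norm_num) (hQ.trans (pow_one 5).symm)
        subst hm1
        obtain ⟨f, hf1, hf2, hf3⟩ := hcrit (p := 13) (by norm_num) (by decide)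
          (by decide) (by decide)
          (fun h => absurd (hr4 13 (by norm_num) h) (by norm_num))
        obtain ⟨k, hk, hkN⟩ := (Nat.dvd_prime_pow Nat.prime_two).1 hN16
        rw [hkN] at hf1 hf2 hf3
        obtain ⟨j, hj, rfl⟩ := (Nat.dvd_prime_pow Nat.prime_two).1 hf1
        have hjk : j < k := (Nat.pow_lt_pow_iff_right (by norm_num)).1 hf2
        interval_cases k <;> interval_cases j <;> simp at hf3
    · -- `d = 6`
      exfalso
      have hQ4 : q ^ m ≤ 4 := by
        by_contra hc5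
        have := Nat.pow_le_pow_left (show 5 ≤ q ^ m by omega) 3
        omega
      have hrQ' : ∀ s, s.Prime → s ∣ A.relIndex B → s ∣ q ^ m - 1 := fun s hs hsN =>
        (hroots s hs hsN).1
      interval_cases hQ : q ^ m
      · have hr4 : ∀ s, s.Prime → s ∣ A.relIndex B → s = 2 := fun s hs hsN =>
          (Nat.prime_dvd_prime_iff_eq hs Nat.prime_two).1 (hrQ' s hs hsN)
        have hN : A.relIndex B ∣ 2 ^ 5 := dvd_of_prime_power hN0 hr4 (by omega)
        have hq3 : q = 3 := hp (hQ.trans (pow_one 3).symm) hm.ne' (by norm_num)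
        subst hq3
        have hm1 : m = 1 := Nat.pow_right_injective (by norm_num) (hQ.trans (pow_one 3).symm)
        subst hm1
        obtain ⟨f, hf1, hf2, hf3⟩ := hcrit (p := 13) (by norm_num) (by decide)
          (by decide) (by decide)
          (fun h => absurd (hr4 13 (by norm_num) h) (by norm_num))
        obtain ⟨k, hk, hkN⟩ := (Nat.dvd_prime_pow Nat.prime_two).1 hN
        rw [hkN] at hf1 hf2 hf3
        obtain ⟨j, hj, rfl⟩ := (Nat.dvd_prime_pow Nat.prime_two).1 hf1
        have hjk : j < k := (Nat.pow_lt_pow_iff_right (by norm_num)).1 hf2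
        interval_cases k <;> interval_cases j <;> simp at hf3
      · have hr4 : ∀ s, s.Prime → s ∣ A.relIndex B → s = 3 := fun s hs hsN =>
          (Nat.prime_dvd_prime_iff_eq hs Nat.prime_three).1 (hrQ' s hs hsN)
        have hN : A.relIndex B ∣ 3 ^ 3 := dvd_of_prime_power hN0 hr4 (by omega)
        have hq2 : q = 2 := hp (hQ.trans (by norm_num : (4 : ℕ) = 2 ^ 2)) hm.ne' Nat.prime_two
        subst hq2
        have hm2 : m = 2 := Nat.pow_right_injective le_rfl (hQ.trans (by norm_num))
        subst hm2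
        obtain ⟨f, hf1, hf2, hf3⟩ := hcrit (p := 5) (by norm_num) (by decide)
          (by decide) (by decide)
          (fun h => absurd (hr4 5 (by norm_num) h) (by norm_num))
        obtain ⟨k, hk, hkN⟩ := (Nat.dvd_prime_pow Nat.prime_three).1 hN
        rw [hkN] at hf1 hf2 hf3
        obtain ⟨j, hj, rfl⟩ := (Nat.dvd_prime_pow Nat.prime_three).1 hf1
        have hjk : j < k := (Nat.pow_lt_pow_iff_right (by norm_num)).1 hf2
        interval_cases k <;> interval_cases j <;> simp at hf3
    · -- `d = 8`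
      exfalso
      have hQ3' : q ^ m = 3 := by
        by_contra hc5
        have := Nat.pow_le_pow_left (show 4 ≤ q ^ m by omega) 4
        omega
      have hr4 : ∀ s, s.Prime → s ∣ A.relIndex B → s = 2 := fun s hs hsN =>
        (Nat.prime_dvd_prime_iff_eq hs Nat.prime_two).1
          (hs.dvd_of_dvd_pow (show s ∣ 2 ^ 3 from (hroots s hs hsN).2))
      have hN : A.relIndex B ∣ 2 ^ 6 := dvd_of_prime_power hN0 hr4 (by omega)
      have hq3 : q = 3 := hp (hQ3'.trans (pow_one 3).symm) hm.ne' (by norm_num)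
      subst hq3
      have hm1 : m = 1 := Nat.pow_right_injective (by norm_num) (hQ3'.trans (pow_one 3).symm)
      subst hm1
      obtain ⟨f, hf1, hf2, hf3⟩ := hcrit (p := 41) (by norm_num) (by decide)
        (by decide) (by decide)
        (fun h => absurd (hr4 41 (by norm_num) h) (by norm_num))
      obtain ⟨k, hk, hkN⟩ := (Nat.dvd_prime_pow Nat.prime_two).1 hN
      rw [hkN] at hf1 hf2 hf3
      obtain ⟨j, hj, rfl⟩ := (Nat.dvd_prime_pow Nat.prime_two).1 hf1
      have hjk : j < k := (Nat.pow_lt_pow_iff_right (by norm_num)).1 hf2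
      interval_cases k <;> interval_cases j <;> simp at hf3
  · -- `d` odd
    exfalso
    have hc := F.count_odd h4 hodd
    have hr3 : 3 ≤ r := by
      rcases Nat.lt_or_ge r 3 with h | h
      · obtain rfl : r = 2 := le_antisymm (by omega) hr.two_le
        obtain ⟨k, hk⟩ := hrd
        obtain ⟨l, hl⟩ := hodd
        omega
      · exact h
    have hQ4 : 4 ≤ q ^ m := by have := Nat.le_of_dvd (by omega) hrQ; omega
    obtain ⟨h, hh⟩ : ∃ h, d / 3 = h := ⟨_, rfl⟩
    have hd3 : 3 ≤ d := by obtain ⟨l, hl⟩ := hodd; omega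
    have hpos : 1 ≤ h := by omega
    rw [hh] at hc
    set Q := q ^ m with hQdef
    have h1 : Q ^ (d - h) * (Q ^ h - 1) ≤ Q ^ d - 1 := by
      rw [Nat.mul_sub_one, ← pow_add, show d - h + h = d by omega]
      have := Nat.one_le_pow (d - h) Q (by omega)
      omega
    have h2 : h * Q ^ (d - h) ≤ (d * d - 1) * d := by
      refine Nat.le_of_mul_le_mul_right ?_ (show 0 < Q ^ h - 1 from by
        have := Nat.one_lt_pow (show h ≠ 0 by omega) (show 1 < Q by omega); omega)
      calc h * Q ^ (d - h) * (Q ^ h - 1) ≤ h * (Q ^ d - 1) := by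
            rw [mul_assoc]; exact Nat.mul_le_mul_left _ h1
        _ ≤ (A.relIndex B - 1) * (d * (Q ^ h - 1)) := hc
        _ ≤ (d * d - 1) * (d * (Q ^ h - 1)) := Nat.mul_le_mul_right _ (by omega)
        _ = (d * d - 1) * d * (Q ^ h - 1) := by ring
    rcases Nat.lt_or_ge d 7 with hd7 | hd7
    · obtain rfl | rfl : d = 3 ∨ d = 5 := by obtain ⟨l, hl⟩ := hodd; omega
      · obtain rfl : h = 1 := by omega
        norm_num at h2
        have hQ4' : Q ≤ 4 := by
          by_contra hc5
          have := Nat.pow_le_pow_left (show 5 ≤ Q by omega) 2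
          omega
        have hQ : q ^ m = 4 := by omega
        have hr4 : ∀ s, s.Prime → s ∣ A.relIndex B → s = 3 := fun s hs hsN =>
          (Nat.prime_dvd_prime_iff_eq hs Nat.prime_three).1 (hroots s hs hsN).2
        have hN : A.relIndex B ∣ 3 ^ 2 := dvd_of_prime_power hN0 hr4 (by omega)
        have hq2 : q = 2 := hp (hQ.trans (by norm_num : (4 : ℕ) = 2 ^ 2)) hm.ne' Nat.prime_two
        subst hq2
        have hm2 : m = 2 := Nat.pow_right_injective le_rfl (hQ.trans (by norm_num))
        subst hm2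
        obtain ⟨f, hf1, hf2, hf3⟩ := hcrit (p := 7) (by norm_num) (by decide)
          (by decide) (by decide)
          (fun h => absurd (hr4 7 (by norm_num) h) (by norm_num))
        obtain ⟨k, hk, hkN⟩ := (Nat.dvd_prime_pow Nat.prime_three).1 hN
        rw [hkN] at hf1 hf2 hf3
        obtain ⟨j, hj, rfl⟩ := (Nat.dvd_prime_pow Nat.prime_three).1 hf1
        have hjk : j < k := (Nat.pow_lt_pow_iff_right (by norm_num)).1 hf2
        interval_cases k <;> interval_cases j <;> simp at hf3
      · obtain rfl : h = 1 := by omega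
        norm_num at h2
        have := Nat.pow_le_pow_left hQ4 4
        omega
    · have h3 := odd_bound hd7
      rw [hh] at h3
      have h4' := Nat.pow_le_pow_left hQ4 (d - h)
      have h5 : (d * d - 1) * d ≤ d ^ 3 := by
        rw [pow_succ, sq]; exact Nat.mul_le_mul_right _ (Nat.sub_le _ _)
      have h6 : 2 * Q ^ (d - h) ≤ h * Q ^ (d - h) := Nat.mul_le_mul_right _ (by omega)
      omega

end Cfsg.Agent.Lib.Spectrum.Huppert
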