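import Cfsg.Agent.Lib.Spectrum.TinyEnumData

/-! The presentation `⟨x, y | x³, y⁵, (xy)²⟩` of the alternating group of degree five. -/

set_option autoImplicit false

namespace Cfsg.Agent.Lib.Spectrum.TinyEnum

/-- the relators of the `(2,3,5)` triangle presentation -/
def triRels : Set (FreeGroup (Fin 2)) :=
  {FreeGroup.of (0 : Fin 2) ^ 3, FreeGroup.of (1 : Fin 2) ^ 5,
    (FreeGroup.of (0 : Fin 2) * FreeGroup.of 1) ^ 2}

def a5X : alternatingGroup (Fin 5) :=
  ⟨⟨![1, 2, 0, 3, 4], ![2, 0, 1, 3, 4], by decide, by decide⟩, by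
    simp only [Equiv.Perm.mem_alternatingGroup]; decide +kernel⟩

def a5Y : alternatingGroup (Fin 5) :=
  ⟨⟨![2, 3, 4, 0, 1], ![3, 4, 0, 1, 2], by decide, by decide⟩, by
    simp only [Equiv.Perm.mem_alternatingGroup]; decide +kernel⟩

def a5Gen (g : ℕ) : alternatingGroup (Fin 5) := if g = 0 then a5X else a5Y

theorem a5_nodup : ((List.range 60).map fun i => evModel (id : Fin 5 → Fin 5)
    (fun b c => b ∘ c) (fun g => if g = 0 then ![1, 2, 0, 3, 4] else ![2, 3, 4, 0, 1])
    ((reps defsA5).getD i [])).Nodup := by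
  decide +kernel

theorem presentation_a5 : Nonempty (PresentedGroup triRels ≃* alternatingGroup (Fin 5)) := by
  let φ : ℕ → PresentedGroup triRels := fun g => PresentedGroup.of (if g = 0 then 0 else 1)
  have hrel : ∀ r ∈ triRels, FreeGroup.lift ![a5X, a5Y] r = 1 := by
    intro r hr
    simp only [triRels, Set.mem_insert_iff, Set.mem_singleton_iff] at hr
    rcases hr with rfl | rfl | rfl <;>
      simp only [map_pow, map_mul, FreeGroup.lift_apply_of] <;>
      apply Subtype.ext <;> simp only [pow_succ, pow_zero, Subgroup.coe_mul, Subgroup.coe_one] <;>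
      apply Equiv.ext <;> decide +kernel
  let f : PresentedGroup triRels →* alternatingGroup (Fin 5) := PresentedGroup.toGroup hrel
  have hgen : Subgroup.closure (φ '' Set.Iio 2) = ⊤ := by
    rw [eq_top_iff, ← PresentedGroup.closure_range_of, Subgroup.closure_le]
    rintro _ ⟨i, rfl⟩
    refine Subgroup.subset_closure ⟨i.1, i.2, ?_⟩
    fin_cases i <;> rfl
  have h1 : ∀ r ∈ triRels, (PresentedGroup.mk triRels r) = 1 := fun r hr =>
    PresentedGroup.one_of_mem hr
  have hR : ∀ w ∈ relsA5, ev φ w = 1 := by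
    intro w hw
    simp only [relsA5, List.mem_cons, List.not_mem_nil, or_false] at hw
    have e0 : (PresentedGroup.mk triRels (FreeGroup.of (0 : Fin 2) ^ 3)) = 1 :=
      h1 _ (by simp [triRels])
    have e1 : (PresentedGroup.mk triRels (FreeGroup.of (1 : Fin 2) ^ 5)) = 1 :=
      h1 _ (by simp [triRels])
    have e2 : (PresentedGroup.mk triRels ((FreeGroup.of (0 : Fin 2) * FreeGroup.of 1) ^ 2)) = 1 :=
      h1 _ (by simp [triRels])
    simp only [map_pow, map_mul] at e0 e1 e2
    rcases hw with rfl | rfl | rfl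
    · rw [← e0]; simp [ev, φ, PresentedGroup.of, pow_succ, mul_assoc]
    · rw [← e1]; simp [ev, φ, PresentedGroup.of, pow_succ, mul_assoc]
    · rw [← e2]; simp [ev, φ, PresentedGroup.of, pow_succ, mul_assoc]
  refine ⟨MulEquiv.ofBijective f (bijective_of_check φ hR hgen checkA5 f
    (fun σ => (σ.1 : Fin 5 → Fin 5)) id (fun b c => b ∘ c)
    (fun g => if g = 0 then ![1, 2, 0, 3, 4] else ![2, 3, 4, 0, 1]) ?_ ?_ a5_nodup ?_)⟩
  · rfl
  · intro x g
    simp only [f, φ, PresentedGroup.toGroup.of]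
    by_cases hg : g = 0 <;> simp [hg, a5X, a5Y] <;> rfl
  · rw [nat_card_alternatingGroup, Nat.card_fin]; rfl

end Cfsg.Agent.Lib.Spectrum.TinyEnum
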