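import Cfsg.Agent.Lib.Spectrum.TinyEnumData

/-! The presentation of `SL(2,5)` as the binary icosahedral group. -/

set_option autoImplicit false

namespace Cfsg.Agent.Lib.Spectrum.TinyEnum

open Matrix

local notation "SL25" => Matrix.SpecialLinearGroup (Fin 2) (ZMod 5)

/-- the relators of the presentation `x³ = y⁵ = z² = 1`, `z` central, `(xy)² = z` -/
def binIcoRels : Set (FreeGroup (Fin 3)) :=
  {FreeGroup.of (0 : Fin 3) ^ 3, FreeGroup.of (1 : Fin 3) ^ 5, FreeGroup.of (2 : Fin 3) ^ 2,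
    (FreeGroup.of (2 : Fin 3))⁻¹ * FreeGroup.of 0 * FreeGroup.of 2 * (FreeGroup.of (0 : Fin 3))⁻¹,
    (FreeGroup.of (2 : Fin 3))⁻¹ * FreeGroup.of 1 * FreeGroup.of 2 * (FreeGroup.of (1 : Fin 3))⁻¹,
    (FreeGroup.of (0 : Fin 3) * FreeGroup.of 1) ^ 2 * (FreeGroup.of (2 : Fin 3))⁻¹}

def slX : SL25 := ⟨!![0, 1; 4, 4], by decide⟩
def slY : SL25 := ⟨!![0, 4; 1, 2], by decide⟩
def slZ : SL25 := ⟨!![4, 0; 0, 4], by decide⟩

def key5 (m : SL25) : ZMod 5 × ZMod 5 × ZMod 5 × ZMod 5 :=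
  (m.1 0 0, m.1 0 1, m.1 1 0, m.1 1 1)

def mul5 (a b : ZMod 5 × ZMod 5 × ZMod 5 × ZMod 5) : ZMod 5 × ZMod 5 × ZMod 5 × ZMod 5 :=
  (a.1 * b.1 + a.2.1 * b.2.2.1, a.1 * b.2.1 + a.2.1 * b.2.2.2,
    a.2.2.1 * b.1 + a.2.2.2 * b.2.2.1, a.2.2.1 * b.2.1 + a.2.2.2 * b.2.2.2)

def gen5 (g : ℕ) : ZMod 5 × ZMod 5 × ZMod 5 × ZMod 5 :=
  if g = 0 then (0, 1, 4, 4) else if g = 1 then (0, 4, 1, 2) else (4, 0, 0, 4)

theorem key5_mul (m n : SL25) : key5 (m * n) = mul5 (key5 m) (key5 n) := by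
  simp [key5, mul5, Matrix.SpecialLinearGroup.coe_mul, Matrix.mul_apply, Fin.sum_univ_two]

theorem sl25_nodup : ((List.range 120).map fun i => evModel (1, 0, 0, 1) mul5 gen5
    ((reps defsSL25).getD i [])).Nodup := by
  decide +kernel

/-- letters of the enumeration -/
def letter (g : ℕ) : Fin 3 := if g = 0 then 0 else if g = 1 then 1 else 2

theorem card_sl25 : Nat.card SL25 = 120 := by
  refine (Nat.card_congr (Equiv.subtypeEquiv
      (p := fun m : Matrix (Fin 2) (Fin 2) (ZMod 5) => m.det = 1)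
      (q := fun a : ZMod 5 × ZMod 5 × ZMod 5 × ZMod 5 => a.1 * a.2.2.2 - a.2.1 * a.2.2.1 = 1)
      { toFun := fun m => (m 0 0, m 0 1, m 1 0, m 1 1)
        invFun := fun a => !![a.1, a.2.1; a.2.2.1, a.2.2.2]
        left_inv := fun m => by ext i j; fin_cases i <;> fin_cases j <;> rfl
        right_inv := fun a => rfl }
      (fun m => by rw [Matrix.det_fin_two]; exact Iff.rfl))).trans ?_
  rw [Nat.card_eq_fintype_card]
  decide +kernel

theorem relsSL25_sound : ∀ w ∈ relsSL25,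
    ev (fun g => (PresentedGroup.of (letter g) : PresentedGroup binIcoRels)) w = 1 := by
  have h1 : ∀ r ∈ binIcoRels, (PresentedGroup.mk binIcoRels r) = 1 := fun r hr =>
    PresentedGroup.one_of_mem hr
  set x : PresentedGroup binIcoRels := PresentedGroup.of 0 with hx
  set y : PresentedGroup binIcoRels := PresentedGroup.of 1 with hy
  set z : PresentedGroup binIcoRels := PresentedGroup.of 2 with hz
  have e0 : x ^ 3 = 1 := by
    have := h1 (FreeGroup.of (0 : Fin 3) ^ 3) (by simp [binIcoRels])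
    rw [map_pow] at this; exact this
  have e1 : y ^ 5 = 1 := by
    have := h1 (FreeGroup.of (1 : Fin 3) ^ 5) (by simp [binIcoRels])
    rw [map_pow] at this; exact this
  have e2 : z ^ 2 = 1 := by
    have := h1 (FreeGroup.of (2 : Fin 3) ^ 2) (by simp [binIcoRels])
    rw [map_pow] at this; exact this
  have e3 : z⁻¹ * x * z * x⁻¹ = 1 := by
    have := h1 ((FreeGroup.of (2 : Fin 3))⁻¹ * FreeGroup.of 0 * FreeGroup.of 2 *
      (FreeGroup.of (0 : Fin 3))⁻¹) (by simp [binIcoRels])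
    simp only [map_mul, map_inv] at this; exact this
  have e4 : z⁻¹ * y * z * y⁻¹ = 1 := by
    have := h1 ((FreeGroup.of (2 : Fin 3))⁻¹ * FreeGroup.of 1 * FreeGroup.of 2 *
      (FreeGroup.of (1 : Fin 3))⁻¹) (by simp [binIcoRels])
    simp only [map_mul, map_inv] at this; exact this
  have e5 : (x * y) ^ 2 * z⁻¹ = 1 := by
    have := h1 ((FreeGroup.of (0 : Fin 3) * FreeGroup.of 1) ^ 2 *
      (FreeGroup.of (2 : Fin 3))⁻¹) (by simp [binIcoRels])
    simp only [map_mul, map_inv, map_pow] at this; exact this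
  have zi : z⁻¹ = z := inv_eq_of_mul_eq_one_right (by rw [← sq]; exact e2)
  have xi : x⁻¹ = x * x :=
    inv_eq_of_mul_eq_one_right (by rw [← e0, pow_succ, pow_two]; group)
  have yi : y⁻¹ = y * (y * (y * y)) :=
    inv_eq_of_mul_eq_one_right (by rw [← e1]; simp [pow_succ, mul_assoc])
  intro w hw
  simp only [relsSL25, List.mem_cons, List.not_mem_nil, or_false] at hw
  rcases hw with rfl | rfl | rfl | rfl | rfl | rfl <;>
    simp only [ev, List.map_cons, List.map_nil, List.prod_cons, List.prod_nil, mul_one,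
      letter, if_true, Nat.one_ne_zero, OfNat.ofNat_ne_zero, OfNat.ofNat_ne_one, if_false]
  · rw [← e0]; simp [hx, pow_succ, mul_assoc]
  · rw [← e1]; simp [hy, pow_succ, mul_assoc]
  · rw [← e2]; simp [hz, pow_succ]
  · rw [← e3, zi, xi]; simp [hx, hz, mul_assoc]
  · rw [← e4, zi, yi]; simp [hy, hz, mul_assoc]
  · rw [← e5, zi]; simp [hx, hy, hz, pow_succ, mul_assoc]

theorem presentation_sl25 : Nonempty (PresentedGroup binIcoRels ≃* SL25) := by
  let φ : ℕ → PresentedGroup binIcoRels := fun g => PresentedGroup.of (letter g)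
  have hrel : ∀ r ∈ binIcoRels, FreeGroup.lift ![slX, slY, slZ] r = 1 := by
    intro r hr
    simp only [binIcoRels, Set.mem_insert_iff, Set.mem_singleton_iff] at hr
    rcases hr with rfl | rfl | rfl | rfl | rfl | rfl <;>
      simp only [map_pow, map_mul, map_inv, FreeGroup.lift_apply_of] <;>
      decide +kernel
  let f : PresentedGroup binIcoRels →* SL25 := PresentedGroup.toGroup hrel
  have hgen : Subgroup.closure (φ '' Set.Iio 3) = ⊤ := by
    rw [eq_top_iff, ← PresentedGroup.closure_range_of, Subgroup.closure_le]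
    rintro _ ⟨i, rfl⟩
    refine Subgroup.subset_closure ⟨i.1, i.2, ?_⟩
    fin_cases i <;> rfl
  have h1 : ∀ r ∈ binIcoRels, (PresentedGroup.mk binIcoRels r) = 1 := fun r hr =>
    PresentedGroup.one_of_mem hr
  refine ⟨MulEquiv.ofBijective f (bijective_of_check φ relsSL25_sound hgen checkSL25 f key5 (1, 0, 0, 1) mul5
    gen5 ?_ ?_ sl25_nodup card_sl25)⟩
  · decide +kernel
  · intro m g
    rw [key5_mul]
    congr 1
    simp only [f, φ, PresentedGroup.toGroup.of]
    unfold letter gen5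
    split_ifs <;> decide +kernel

end Cfsg.Agent.Lib.Spectrum.TinyEnum
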