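import Cfsg.Agent.S0493
import Cfsg.Agent.S0494
import Cfsg.Agent.Lib.Alternating.Basic
import Cfsg.Agent.Lib.Spectrum.A5Presentation
import Cfsg.Agent.Lib.Spectrum.SL25Presentation

/-! Non-solvable groups of order 120 with quaternion Sylow 2-subgroups are `SL(2,5)`. -/

set_option autoImplicit false

namespace Cfsg.Agent.Lib.Spectrum

open Subgroup

theorem isSolvable_iff_of_normal {G : Type*} [Group G] (N : Subgroup G) [N.Normal]
    [Group.IsSolvable N] [Group.IsSolvable (G ⧸ N)] : Group.IsSolvable G :=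
  Group.isSolvable_of_ker_le_range N.subtype (QuotientGroup.mk' N) (by simp)

theorem isSolvable_of_card_lt_sixty : ∀ (n : ℕ) {G : Type*} [Group G] [Finite G],
    Nat.card G = n → n < 60 → Group.IsSolvable G := by
  intro n
  induction n using Nat.strong_induction_on with
  | _ n ih =>
    intro G _ _ hn hlt
    rcases subsingleton_or_nontrivial G with hs | hnt
    · exact Group.isSolvable_of_comm fun a b => Subsingleton.elim _ _
    by_cases hsim : IsSimpleGroup G
    · by_cases hc : IsCyclic G
      · exact Group.isSolvable_of_comm fun a b => (IsMulCommutative.is_comm).comm a b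
      · have := Cfsg.Agent.S0493.result hc (by omega)
        omega
    obtain ⟨N, hN, hb, ht⟩ : ∃ N : Subgroup G, N.Normal ∧ N ≠ ⊥ ∧ N ≠ ⊤ := by
      by_contra hne
      exact hsim ⟨fun N hN => or_iff_not_imp_left.2 fun hb =>
        by_contra fun ht => hne ⟨N, hN, hb, ht⟩⟩
    haveI := hN
    have h1 : 1 < Nat.card N := (Subgroup.one_lt_card_iff_ne_bot N).2 hb
    have h2 : 1 < N.index := lt_of_le_of_ne
      (Nat.one_le_iff_ne_zero.2 Subgroup.index_ne_zero_of_finite)
      (fun h => ht (Subgroup.index_eq_one.1 h.symm))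
    have hm := Subgroup.card_mul_index N
    have hlN : Nat.card N < n := by nlinarith
    have hlQ : N.index < n := by nlinarith
    haveI : Group.IsSolvable N := ih _ hlN rfl (by omega)
    haveI : Group.IsSolvable (G ⧸ N) := ih _ hlQ (Subgroup.index_eq_card N).symm (by omega)
    exact isSolvable_iff_of_normal N

theorem nonempty_equiv_a5_of_card_sixty {G : Type*} [Group G] [Finite G]
    (h : Nat.card G = 60) (hs : ¬ Group.IsSolvable G) :
    Nonempty (G ≃* alternatingGroup (Fin 5)) := by
  haveI : Nontrivial G := Finite.one_lt_card_iff_nontrivial.1 (by omega)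
  haveI : IsSimpleGroup G := ⟨fun N hN => by
    by_contra hne
    obtain ⟨hb, ht⟩ := not_or.1 hne
    haveI := hN
    have h1 : 1 < Nat.card N := (Subgroup.one_lt_card_iff_ne_bot N).2 hb
    have h2 : 1 < N.index := lt_of_le_of_ne
      (Nat.one_le_iff_ne_zero.2 Subgroup.index_ne_zero_of_finite)
      (fun h' => ht (Subgroup.index_eq_one.1 h'.symm))
    have hm := Subgroup.card_mul_index N
    haveI : Group.IsSolvable N := isSolvable_of_card_lt_sixty _ rfl (by nlinarith)
    haveI : Group.IsSolvable (G ⧸ N) :=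
      isSolvable_of_card_lt_sixty _ (Subgroup.index_eq_card N).symm (by nlinarith)
    exact hs (isSolvable_iff_of_normal N)⟩
  exact Cfsg.Agent.S0494.result h

theorem not_isSimpleGroup_of_card_120 {G : Type*} [Group G] [Finite G]
    (h : Nat.card G = 120) (hs : ¬ Group.IsSolvable G) : ¬ IsSimpleGroup G := by
  intro hsim
  classical
  haveI : Fact (Nat.Prime 5) := ⟨by norm_num⟩
  let P : Sylow 5 G := default
  have hmod : Nat.card (Sylow 5 G) ≡ 1 [MOD 5] := card_sylow_modEq_one 5 G
  have hcard : Nat.card P = 5 := by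
    rw [Sylow.card_eq_multiplicity P, h]; norm_num [Nat.factorization_def]
    decide +kernel
  have hdvd : Nat.card (Sylow 5 G) ∣ 24 := by
    have h1 := Sylow.card_dvd_index P
    have h2 := Subgroup.card_mul_index (P : Subgroup G)
    rw [h, hcard] at h2
    rwa [show (P : Subgroup G).index = 24 by omega] at h1
  have hne1 : Nat.card (Sylow 5 G) ≠ 1 := by
    intro h1
    haveI : Subsingleton (Sylow 5 G) := (Nat.card_eq_one_iff_unique.1 h1).1
    have hn : (P : Subgroup G).Normal := P.normal_of_subsingleton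
    rcases hsim.eq_bot_or_eq_top_of_normal _ hn with hb | hb
    · have : Nat.card (P : Subgroup G) = 1 := by rw [hb]; exact Subgroup.card_bot
      omega
    · have : Nat.card (P : Subgroup G) = Nat.card G := by rw [hb]; exact Subgroup.card_top
      omega
  have h6 : Nat.card (Sylow 5 G) = 6 := by
    have hle : Nat.card (Sylow 5 G) ≤ 24 := Nat.le_of_dvd (by norm_num) hdvd
    unfold Nat.ModEq at hmod
    generalize Nat.card (Sylow 5 G) = k at *
    interval_cases k <;> omega
  haveI : Fintype (Sylow 5 G) := Fintype.ofFinite _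
  have h6' : Fintype.card (Sylow 5 G) = 6 := by rw [← Nat.card_eq_fintype_card]; exact h6
  let f : G →* Equiv.Perm (Sylow 5 G) := MulAction.toPermHom G (Sylow 5 G)
  have hinj : Function.Injective f := by
    rw [← MonoidHom.ker_eq_bot_iff]
    refine (hsim.eq_bot_or_eq_top_of_normal f.ker inferInstance).resolve_right fun htop => ?_
    obtain ⟨Q, hQ⟩ : ∃ Q : Sylow 5 G, Q ≠ P := by
      by_contra hne
      push Not at hne
      exact hne1 (Nat.card_eq_one_iff_unique.2
        ⟨⟨fun a b => (hne a).trans (hne b).symm⟩, ⟨P⟩⟩)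
    obtain ⟨g, hg⟩ := MulAction.exists_smul_eq G P Q
    have : f g = 1 := by
      rw [← MonoidHom.mem_ker, htop]; trivial
    exact hQ (hg.symm.trans (by
      have := congrArg (fun σ : Equiv.Perm (Sylow 5 G) => σ P) this
      exact this))
  have hsign : ∀ g, f g ∈ alternatingGroup (Sylow 5 G) := by
    intro g
    let s : G →* ℤˣ := Equiv.Perm.sign.comp f
    rcases hsim.eq_bot_or_eq_top_of_normal s.ker inferInstance with hb | hb
    · have hs' := Nat.card_le_card_of_injective s ((MonoidHom.ker_eq_bot_iff s).1 hb)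
      rw [h, Nat.card_eq_fintype_card, Fintype.card_units_int] at hs'
      omega
    · rw [Equiv.Perm.mem_alternatingGroup]
      have : g ∈ s.ker := hb ▸ Subgroup.mem_top g
      exact this
  let f' : G →* alternatingGroup (Sylow 5 G) := f.codRestrict _ hsign
  have hinj' : Function.Injective f' := fun a b hab =>
    hinj (congrArg Subtype.val hab)
  have hr : Nat.card f'.range = 120 := by
    rw [← h]; exact (Nat.card_congr (MonoidHom.ofInjective hinj').toEquiv).symm
  have hA : Nat.card (alternatingGroup (Sylow 5 G)) = 360 := by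
    haveI : Nontrivial (Sylow 5 G) := Fintype.one_lt_card_iff_nontrivial.1 (by omega)
    rw [nat_card_alternatingGroup, h6]; rfl
  have hm := Subgroup.card_mul_index f'.range
  rw [hr, hA] at hm
  have := Cfsg.Agent.Lib.Alternating.index_ge_alt (by omega) f'.range (fun htop => by
    rw [htop, Subgroup.card_top, hA] at hr; omega)
  omega

theorem q8_involution : ∀ a b : QuaternionGroup 2,
    a * a = 1 → b * b = 1 → a ≠ 1 → b ≠ 1 → a = b := by
  decide +kernel

theorem a5_no_order_four : ∀ a : alternatingGroup (Fin 5), a * a * a * a = 1 → a * a = 1 := by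
  decide +kernel

/-- recognition of `SL(2,5)` -/
theorem nonempty_equiv_sl25 {G : Type*} [Group G] [Finite G] (h : Nat.card G = 120)
    (hs : ¬ Group.IsSolvable G)
    (hq : ∀ P : Sylow 2 G, Nonempty ((P : Subgroup G) ≃* QuaternionGroup 2)) :
    Nonempty (G ≃* Matrix.SpecialLinearGroup (Fin 2) (ZMod 5)) := by
  classical
  haveI : Fact (Nat.Prime 2) := ⟨Nat.prime_two⟩
  -- involutions lying in a common 2-subgroup agree
  have huniq : ∀ (H : Subgroup G), IsPGroup 2 H → ∀ a ∈ H, ∀ b ∈ H,
      a * a = 1 → b * b = 1 → a ≠ 1 → b ≠ 1 → a = b := by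
    intro H hH a ha b hb haa hbb ha1 hb1
    obtain ⟨P, hP⟩ := hH.exists_le_sylow
    obtain ⟨e⟩ := hq P
    have := q8_involution (e ⟨a, hP ha⟩) (e ⟨b, hP hb⟩)
      (by rw [← map_mul, ← e.map_one]; exact congrArg e (Subtype.ext haa))
      (by rw [← map_mul, ← e.map_one]; exact congrArg e (Subtype.ext hbb))
      (fun h1 => ha1 (congrArg Subtype.val ((map_eq_one_iff e e.injective).1 h1)))
      (fun h1 => hb1 (congrArg Subtype.val ((map_eq_one_iff e e.injective).1 h1)))
    exact congrArg Subtype.val (e.injective this)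
  haveI : Nontrivial G := Finite.one_lt_card_iff_nontrivial.1 (by omega)
  obtain ⟨N, hN, hb, ht⟩ : ∃ N : Subgroup G, N.Normal ∧ N ≠ ⊥ ∧ N ≠ ⊤ := by
    by_contra hne
    exact not_isSimpleGroup_of_card_120 h hs ⟨fun N hN => or_iff_not_imp_left.2 fun hb =>
      by_contra fun ht => hne ⟨N, hN, hb, ht⟩⟩
  haveI := hN
  have h1 : 1 < Nat.card N := (Subgroup.one_lt_card_iff_ne_bot N).2 hb
  have h2 : 1 < N.index := lt_of_le_of_ne
    (Nat.one_le_iff_ne_zero.2 Subgroup.index_ne_zero_of_finite)
    (fun h' => ht (Subgroup.index_eq_one.1 h'.symm))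
  have hm := Subgroup.card_mul_index N
  rw [h] at hm
  have hcases : Nat.card N = 60 ∨ N.index = 60 := by
    by_contra hne
    obtain ⟨hne1, hne2⟩ := not_or.1 hne
    have hl1 : Nat.card N < 60 := by
      by_contra hge; push Not at hge
      have : Nat.card N ≠ 120 := fun he => by rw [he] at hm; omega
      have : Nat.card N ∣ 120 := ⟨_, hm.symm⟩
      have : Nat.card N ≤ 60 := by nlinarith
      omega
    have hl2 : N.index < 60 := by
      by_contra hge; push Not at hge
      have : N.index ≤ 60 := by nlinarith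
      omega
    haveI : Group.IsSolvable N := isSolvable_of_card_lt_sixty _ rfl hl1
    haveI : Group.IsSolvable (G ⧸ N) :=
      isSolvable_of_card_lt_sixty _ (Subgroup.index_eq_card N).symm hl2
    exact hs (isSolvable_iff_of_normal N)
  have hidx : N.index = 60 := by
    refine hcases.resolve_left fun h60 => ?_
    have hns : ¬ Group.IsSolvable N := fun hsol => by
      haveI := hsol
      haveI : Group.IsSolvable (G ⧸ N) :=
        isSolvable_of_card_lt_sixty 2 (by rw [← Subgroup.index_eq_card]; nlinarith) (by norm_num)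
      exact hs (isSolvable_iff_of_normal N)
    obtain ⟨e⟩ := nonempty_equiv_a5_of_card_sixty h60 hns
    let S : Sylow 2 N := default
    have hS : Nat.card S = 4 := by
      rw [Sylow.card_eq_multiplicity S, h60]; norm_num [Nat.factorization_def]
      decide +kernel
    have hinv : ∀ s : N, s ∈ (S : Subgroup N) → s * s = 1 := by
      intro s hs'
      apply e.injective
      rw [map_mul, map_one]
      apply a5_no_order_four
      have h4 : (⟨s, hs'⟩ : (S : Subgroup N)) ^ 4 = 1 := hS ▸ pow_card_eq_one'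
      have h4' : s ^ 4 = 1 := congrArg Subtype.val h4
      rw [← map_mul, ← map_mul, ← map_mul, ← map_one e]
      exact congrArg e (by rw [← h4']; simp [pow_succ, mul_assoc])
    obtain ⟨a, ha1⟩ : ∃ a : (S : Subgroup N), a ≠ 1 := by
      haveI : Nontrivial (S : Subgroup N) := Finite.one_lt_card_iff_nontrivial.1 (by
        show 1 < Nat.card S; omega)
      exact exists_ne 1
    have hsur : Function.Surjective (![1, a] : Fin 2 → (S : Subgroup N)) := by
      intro b
      by_cases hb1 : b = 1
      · exact ⟨0, by simp [hb1]⟩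
      · refine ⟨1, ?_⟩
        have := huniq ((S : Subgroup N).map N.subtype) (S.isPGroup'.map _)
          _ ⟨a.1, a.2, rfl⟩ _ ⟨b.1, b.2, rfl⟩
          (congrArg Subtype.val (hinv _ a.2)) (congrArg Subtype.val (hinv _ b.2))
          (fun h1 => ha1 (Subtype.ext (Subtype.ext h1)))
          (fun h1 => hb1 (Subtype.ext (Subtype.ext h1)))
        show a = b
        exact Subtype.ext (Subtype.ext this)
    have := Nat.card_le_card_of_surjective _ hsur
    rw [Nat.card_fin] at this
    change Nat.card S ≤ 2 at this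
    omega
  have hN2 : Nat.card N = 2 := by rw [hidx] at hm; omega
  haveI : Nontrivial N := Finite.one_lt_card_iff_nontrivial.1 (by omega)
  obtain ⟨z, hz1⟩ := exists_ne (1 : N)
  have hNel : ∀ n ∈ N, n = 1 ∨ n = z.1 := by
    intro n hn
    have := (Nat.card_eq_two_iff' (1 : N)).1 hN2
    obtain ⟨w, -, hw⟩ := this
    by_cases h1 : n = 1
    · exact Or.inl h1
    · right
      have e1 := hw ⟨n, hn⟩ (fun h' => h1 (congrArg Subtype.val h'))
      have e2 := hw z hz1
      exact congrArg Subtype.val (e1.trans e2.symm)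
  have hzz : z.1 * z.1 = 1 := by
    have : z ^ 2 = 1 := hN2 ▸ pow_card_eq_one'
    rw [← sq]; exact congrArg Subtype.val this
  have hz1' : z.1 ≠ 1 := fun h' => hz1 (Subtype.ext h')
  have hcent : ∀ g : G, g * z.1 = z.1 * g := by
    intro g
    rcases hNel _ (hN.conj_mem _ z.2 g) with h' | h'
    · exact absurd (by simpa using h') hz1'
    · calc g * z.1 = g * z.1 * g⁻¹ * g := by group
        _ = z.1 * g := by rw [h']
  have hqs : ¬ Group.IsSolvable (G ⧸ N) := fun hsol => by
    haveI := hsol
    haveI : Group.IsSolvable N := isSolvable_of_card_lt_sixty 2 hN2 (by norm_num)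
    exact hs (isSolvable_iff_of_normal N)
  obtain ⟨eq5⟩ := nonempty_equiv_a5_of_card_sixty
    (by rw [← Subgroup.index_eq_card]; exact hidx) hqs
  obtain ⟨eT⟩ := TinyEnum.presentation_a5
  let ψ : PresentedGroup TinyEnum.triRels ≃* G ⧸ N := eT.trans eq5.symm
  obtain ⟨x0, hx0⟩ := QuotientGroup.mk'_surjective N (ψ (PresentedGroup.of 0))
  obtain ⟨y0, hy0⟩ := QuotientGroup.mk'_surjective N (ψ (PresentedGroup.of 1))
  have hr0 : (PresentedGroup.of (0 : Fin 2) : PresentedGroup TinyEnum.triRels) ^ 3 = 1 := by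
    rw [PresentedGroup.of, ← map_pow]
    exact PresentedGroup.one_of_mem (by simp [TinyEnum.triRels])
  have hr1 : (PresentedGroup.of (1 : Fin 2) : PresentedGroup TinyEnum.triRels) ^ 5 = 1 := by
    rw [PresentedGroup.of, ← map_pow]
    exact PresentedGroup.one_of_mem (by simp [TinyEnum.triRels])
  have hr2 : ((PresentedGroup.of (0 : Fin 2) * PresentedGroup.of 1 :
      PresentedGroup TinyEnum.triRels)) ^ 2 = 1 := by
    rw [PresentedGroup.of, PresentedGroup.of, ← map_mul, ← map_pow]
    exact PresentedGroup.one_of_mem (by simp [TinyEnum.triRels])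
  have hsqN : ∀ n ∈ N, n * n = 1 := by
    intro n hn
    rcases hNel n hn with rfl | rfl
    exacts [one_mul 1, hzz]
  have hx3 : x0 ^ 3 ∈ N := by
    rw [← QuotientGroup.eq_one_iff]
    show QuotientGroup.mk' N (x0 ^ 3) = 1
    rw [map_pow, hx0, ← map_pow, hr0, map_one]
  have hy5 : y0 ^ 5 ∈ N := by
    rw [← QuotientGroup.eq_one_iff]
    show QuotientGroup.mk' N (y0 ^ 5) = 1
    rw [map_pow, hy0, ← map_pow, hr1, map_one]
  set x : G := x0 ^ 4 with hxdef
  set y : G := y0 ^ 6 with hydef
  have hx : x ^ 3 = 1 := by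
    rw [hxdef, ← pow_mul, show 4 * 3 = (3 * 2) * 2 from rfl, pow_mul, pow_mul x0 3 2, sq (x0 ^ 3),
      hsqN _ hx3, one_pow]
  have hy : y ^ 5 = 1 := by
    rw [hydef, ← pow_mul, show 6 * 5 = (5 * 2) * 3 from rfl, pow_mul, pow_mul y0 5 2, sq (y0 ^ 5),
      hsqN _ hy5, one_pow]
  have hxq : QuotientGroup.mk' N x = ψ (PresentedGroup.of 0) := by
    rw [hxdef, map_pow, hx0, ← map_pow, pow_succ _ 3, hr0, one_mul]
  have hyq : QuotientGroup.mk' N y = ψ (PresentedGroup.of 1) := by
    rw [hydef, map_pow, hy0, ← map_pow, pow_succ _ 5, hr1, one_mul]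
  have hxyN : x * y ∉ N := by
    intro hmem
    have : QuotientGroup.mk' N (x * y) = 1 := (QuotientGroup.eq_one_iff _).2 hmem
    rw [map_mul, hxq, hyq, ← map_mul, map_eq_one_iff _ ψ.injective] at this
    have hy' : (PresentedGroup.of (1 : Fin 2) : PresentedGroup TinyEnum.triRels) =
        (PresentedGroup.of 0)⁻¹ := (inv_eq_of_mul_eq_one_right this).symm
    have hy3 : (PresentedGroup.of (1 : Fin 2) : PresentedGroup TinyEnum.triRels) ^ 3 = 1 := by
      rw [hy', inv_pow, hr0, inv_one]
    have hy1 : (PresentedGroup.of (1 : Fin 2) : PresentedGroup TinyEnum.triRels) = 1 := by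
      calc (PresentedGroup.of (1 : Fin 2) : PresentedGroup TinyEnum.triRels)
          = (PresentedGroup.of 1) ^ 3 * (PresentedGroup.of 1) ^ 3 * ((PresentedGroup.of 1) ^ 5)⁻¹ := by
            group
        _ = 1 := by rw [hy3, hr1]; simp
    have hx1 : (PresentedGroup.of (0 : Fin 2) : PresentedGroup TinyEnum.triRels) = 1 := by
      rwa [hy1, mul_one] at this
    have htriv : ∀ w : PresentedGroup TinyEnum.triRels, w = 1 := by
      intro w
      have hw : w ∈ Subgroup.closure (Set.range (PresentedGroup.of (rels := TinyEnum.triRels))) :=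
        by rw [PresentedGroup.closure_range_of]; trivial
      have hle : Subgroup.closure (Set.range (PresentedGroup.of (rels := TinyEnum.triRels))) ≤ ⊥ := by
        rw [Subgroup.closure_le]
        rintro _ ⟨i, rfl⟩
        fin_cases i
        exacts [hx1, hy1]
      exact hle hw
    have hc : Nat.card (PresentedGroup TinyEnum.triRels) = 60 := by
      rw [Nat.card_congr ψ.toEquiv, ← Subgroup.index_eq_card, hidx]
    have : Nat.card (PresentedGroup TinyEnum.triRels) = 1 :=
      Nat.card_eq_one_iff_unique.2 ⟨⟨fun a b => (htriv a).trans (htriv b).symm⟩, ⟨1⟩⟩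
    omega
  have hxy2N : (x * y) ^ 2 ∈ N := by
    rw [← QuotientGroup.eq_one_iff]
    show QuotientGroup.mk' N ((x * y) ^ 2) = 1
    rw [map_pow, map_mul, hxq, hyq, ← map_mul, ← map_pow, hr2, map_one]
  have hxy : (x * y) ^ 2 = z.1 := by
    refine (hNel _ hxy2N).resolve_left fun hsq => hxyN ?_
    have hZp : IsPGroup 2 (Subgroup.zpowers (x * y)) := by
      refine IsPGroup.iff_card.2 ⟨1, ?_⟩
      rw [Nat.card_zpowers, pow_one]
      exact orderOf_eq_prime hsq (fun h' => hxyN (h' ▸ N.one_mem))
    have hNp : IsPGroup 2 N := IsPGroup.iff_card.2 ⟨1, by rw [hN2, pow_one]⟩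
    have := huniq _ (hZp.to_sup_of_normal_right hNp) (x * y)
      (le_sup_left (α := Subgroup G) (Subgroup.mem_zpowers _)) z.1
      (le_sup_right (α := Subgroup G) z.2) (by rw [← sq]; exact hsq) hzz
      (fun h' => hxyN (h' ▸ N.one_mem)) hz1'
    rw [this]; exact z.2
  have hrel : ∀ r ∈ TinyEnum.binIcoRels, FreeGroup.lift ![x, y, z.1] r = 1 := by
    intro r hr
    simp only [TinyEnum.binIcoRels, Set.mem_insert_iff, Set.mem_singleton_iff] at hr
    rcases hr with rfl | rfl | rfl | rfl | rfl | rfl <;>
      simp only [map_pow, map_mul, map_inv, FreeGroup.lift_apply_of, Matrix.cons_val_zero,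
        Matrix.cons_val_one, Matrix.cons_val]
    · exact hx
    · exact hy
    · rw [sq]; exact hzz
    · rw [mul_assoc (z.1)⁻¹, hcent x, inv_mul_cancel_left, mul_inv_cancel]
    · rw [mul_assoc (z.1)⁻¹, hcent y, inv_mul_cancel_left, mul_inv_cancel]
    · rw [hxy, mul_inv_cancel]
  let f : PresentedGroup TinyEnum.binIcoRels →* G := PresentedGroup.toGroup hrel
  have fx : f (PresentedGroup.of 0) = x := PresentedGroup.toGroup.of hrel
  have fy : f (PresentedGroup.of 1) = y := PresentedGroup.toGroup.of hrel
  have fz : f (PresentedGroup.of 2) = z.1 := PresentedGroup.toGroup.of hrel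
  have hsurj : Function.Surjective f := by
    have hNr : N ≤ f.range := by
      intro n hn
      rcases hNel n hn with rfl | rfl
      exacts [f.range.one_mem, ⟨_, fz⟩]
    have hall : ∀ w : PresentedGroup TinyEnum.triRels, ∃ u, QuotientGroup.mk' N (f u) = ψ w := by
      intro w
      have hw : w ∈ Subgroup.closure (Set.range (PresentedGroup.of (rels := TinyEnum.triRels))) :=
        by rw [PresentedGroup.closure_range_of]; trivial
      induction hw using Subgroup.closure_induction with
      | mem v hv =>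
        obtain ⟨i, rfl⟩ := hv
        fin_cases i
        exacts [⟨_, by rw [fx]; exact hxq⟩, ⟨_, by rw [fy]; exact hyq⟩]
      | one => exact ⟨1, by simp⟩
      | mul a b _ _ ha hb =>
        obtain ⟨u, hu⟩ := ha
        obtain ⟨v, hv⟩ := hb
        exact ⟨u * v, by simp only [map_mul, hu, hv]⟩
      | inv a _ ha =>
        obtain ⟨u, hu⟩ := ha
        exact ⟨u⁻¹, by simp only [map_inv, hu]⟩
    intro g
    obtain ⟨u, hu⟩ := hall (ψ.symm (QuotientGroup.mk' N g))
    rw [MulEquiv.apply_symm_apply] at hu
    obtain ⟨v, hv⟩ := hNr ((QuotientGroup.eq).1 hu)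
    exact ⟨u * v, by rw [map_mul, hv, mul_inv_cancel_left]⟩
  obtain ⟨eS⟩ := TinyEnum.presentation_sl25
  haveI : Finite (PresentedGroup TinyEnum.binIcoRels) := Finite.of_equiv _ eS.symm.toEquiv
  have hbij : Function.Bijective f := by
    rw [Nat.bijective_iff_surjective_and_card]
    exact ⟨hsurj, by rw [h, Nat.card_congr eS.toEquiv, TinyEnum.card_sl25]⟩
  exact ⟨(MulEquiv.ofBijective f hbij).symm.trans eS⟩

end Cfsg.Agent.Lib.Spectrum
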