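import Mathlib

/-!
# The Coxeter presentation of the symmetric group

`lift`: if `s : ℕ → G` satisfies the type A relations below `n`, then there is a homomorphism
`Equiv.Perm (Fin (n + 1)) →* G` sending `swap i (i+1)` to `s i`.
-/

namespace Cfsg.Agent.Lib.Spectrum.CoxeterSym

variable {G : Type*} [Group G]

/-- The type A braid relations on `s 0, …, s (n-1)`. -/
def SymRel (n : ℕ) (s : ℕ → G) : Prop :=
  (∀ i, i < n → s i * s i = 1) ∧
  (∀ i, i + 1 < n → s i * s (i + 1) * s i = s (i + 1) * s i * s (i + 1)) ∧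
  (∀ i j, i + 2 ≤ j → j < n → s i * s j = s j * s i)

/-- Braid relation from `(a*b)^3 = 1` for involutions. -/
theorem braid_of_pow_three {a b : G} (ha : a * a = 1) (hb : b * b = 1) (h : (a * b) ^ 3 = 1) :
    a * b * a = b * a * b := by
  have ha' : a⁻¹ = a := inv_eq_of_mul_eq_one_right ha
  have hb' : b⁻¹ = b := inv_eq_of_mul_eq_one_right hb
  have h' : (a * b * a) * (b * a * b) = 1 := by
    rw [← h]; simp [pow_succ, mul_assoc]
  calc a * b * a = (b * a * b)⁻¹ := eq_inv_of_mul_eq_one_left h'
    _ = b * a * b := by simp [mul_inv_rev, ha', hb', mul_assoc]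

/-- Commutation from `(a*b)^2 = 1` for involutions. -/
theorem comm_of_pow_two {a b : G} (ha : a * a = 1) (hb : b * b = 1) (h : (a * b) ^ 2 = 1) :
    a * b = b * a := by
  have ha' : a⁻¹ = a := inv_eq_of_mul_eq_one_right ha
  have hb' : b⁻¹ = b := inv_eq_of_mul_eq_one_right hb
  rw [pow_two] at h
  calc a * b = (a * b)⁻¹ := eq_inv_of_mul_eq_one_left h
    _ = b * a := by simp [mul_inv_rev, ha', hb']

/-- A descending coset word `s m * s (m-1) * ⋯` of length `j`. -/
def word (s : ℕ → G) (m : ℕ) : ℕ → G
  | 0 => 1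
  | j + 1 => word s m j * s (m - j)

theorem word_comm {s : ℕ → G} {m i : ℕ}
    (hc : ∀ a b, a + 2 ≤ b → b ≤ m → s a * s b = s b * s a) :
    ∀ j, i + j < m + 1 → i + j < m → word s m j * s i = s i * word s m j := by
  intro j
  induction j with
  | zero => simp [word]
  | succ j ih =>
    intro h1 h2
    have h := hc i (m - j) (by omega) (by omega)
    simp only [word]
    rw [mul_assoc, ← h, ← mul_assoc, ih (by omega) (by omega), mul_assoc]

theorem word_shift {s : ℕ → G} {m : ℕ}
    (hb : ∀ a, a + 1 ≤ m → s a * s (a + 1) * s a = s (a + 1) * s a * s (a + 1))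
    (hc : ∀ a b, a + 2 ≤ b → b ≤ m → s a * s b = s b * s a) :
    ∀ j, j ≤ m + 1 → ∀ i, i ≤ m → m + 2 ≤ i + j → word s m j * s i = s (i - 1) * word s m j := by
  intro j
  induction j with
  | zero => intro _ i hi h; omega
  | succ j ih =>
    intro hj i hi h
    simp only [word]
    rcases Nat.lt_or_ge (m + 1) (i + j) with h' | h'
    · have hcm := hc (m - j) i (by omega) hi
      rw [mul_assoc, hcm, ← mul_assoc, ih (by omega) i hi (by omega), mul_assoc]
    · obtain ⟨k, rfl⟩ : ∃ k, j = k + 1 := ⟨j - 1, by omega⟩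
      obtain ⟨a, rfl⟩ : ∃ a, i = a + 1 := ⟨i - 1, by omega⟩
      have e1 : m - (k + 1) = a := by omega
      have e2 : m - k = a + 1 := by omega
      simp only [word, e1, e2, Nat.add_sub_cancel]
      have := word_comm (s := s) (m := m) (i := a) hc k (by omega) (by omega)
      calc word s m k * s (a + 1) * s a * s (a + 1)
          = word s m k * (s (a + 1) * s a * s (a + 1)) := by simp [mul_assoc]
        _ = word s m k * (s a * s (a + 1) * s a) := by rw [hb a (by omega)]
        _ = s a * (word s m k * s (a + 1) * s a) := by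
            rw [← mul_assoc, ← mul_assoc, this]; simp [mul_assoc]

/-- The subgroup generated by the first `n` elements. -/
def gen (s : ℕ → G) (n : ℕ) : Subgroup G := Subgroup.closure (s '' Set.Iio n)

theorem mem_gen {s : ℕ → G} {n i : ℕ} (h : i < n) : s i ∈ gen s n :=
  Subgroup.subset_closure ⟨i, h, rfl⟩

theorem gen_bound {s : ℕ → G} : ∀ n, SymRel n s →
    Finite (gen s n) ∧ Nat.card (gen s n) ≤ (n + 1).factorial := by
  intro n
  induction n with
  | zero =>
    intro _
    have h : gen s 0 = ⊥ := by simp [gen]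
    refine ⟨by rw [h]; infer_instance, ?_⟩
    rw [h]; simp
  | succ m ih =>
    intro hr
    obtain ⟨h2, hb, hc⟩ := hr
    obtain ⟨hfin, hcard⟩ := ih ⟨fun i hi => h2 i (by omega), fun i hi => hb i (by omega),
      fun i j h hj => hc i j h (by omega)⟩
    let f : gen s m × Fin (m + 2) → G := fun p => (p.1 : G) * word s m p.2
    have hmem : ∀ k ∈ gen s m, ∀ j, j < m + 2 → k * word s m j ∈ Set.range f :=
      fun k hk j hj => ⟨(⟨k, hk⟩, ⟨j, hj⟩), rfl⟩
    have h1 : (1 : G) ∈ Set.range f := by
      simpa [word] using hmem 1 (Subgroup.one_mem _) 0 (by omega)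
    have hclosed : ∀ x ∈ Set.range f, ∀ i, i < m + 1 → x * s i ∈ Set.range f := by
      rintro _ ⟨⟨⟨k, hk⟩, ⟨j, hj⟩⟩, rfl⟩ i hi
      simp only [f]
      rcases lt_trichotomy (i + j) m with h | h | h
      · rw [mul_assoc, word_comm (fun a b hab hbm => hc a b hab (by omega)) j (by omega) h,
          ← mul_assoc]
        exact hmem _ (Subgroup.mul_mem _ hk (mem_gen (by omega))) j hj
      · have : word s m j * s i = word s m (j + 1) := by
          simp only [word]; rw [show m - j = i by omega]
        rw [mul_assoc, this]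
        exact hmem k hk (j + 1) (by omega)
      · rcases Nat.lt_or_ge (m + 1) (i + j) with h' | h'
        · rw [mul_assoc, word_shift (fun a ha => hb a (by omega))
            (fun a b hab hbm => hc a b hab (by omega)) j (by omega) i (by omega) (by omega),
            ← mul_assoc]
          exact hmem _ (Subgroup.mul_mem _ hk (mem_gen (by omega))) j hj
        · obtain ⟨l, rfl⟩ : ∃ l, j = l + 1 := ⟨j - 1, by omega⟩
          have : word s m (l + 1) * s i = word s m l := by
            simp only [word]; rw [show m - l = i by omega, mul_assoc, h2 i hi, mul_one]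
          rw [mul_assoc, this]
          exact hmem k hk l (by omega)
    have hsub : ((gen s (m + 1) : Subgroup G) : Set G) ⊆ Set.range f := by
      intro x hx
      refine Subgroup.closure_induction_right (p := fun x _ => x ∈ Set.range f) h1 ?_ ?_ hx
      · rintro y _ _ ⟨i, hi, rfl⟩ hy; exact hclosed y hy i hi
      · rintro y _ _ ⟨i, hi, rfl⟩ hy
        rw [inv_eq_of_mul_eq_one_right (h2 i hi)]; exact hclosed y hy i hi
    haveI : Finite (gen s m) := hfin
    have hfs : (gen s (m + 1) : Set G).Finite := (Set.finite_range f).subset hsub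
    refine ⟨hfs.to_subtype, ?_⟩
    calc Nat.card (gen s (m + 1)) = Set.ncard (gen s (m + 1) : Set G) :=
          (Nat.card_coe_set_eq _)
      _ ≤ (Set.range f).ncard := Set.ncard_le_ncard hsub (Set.finite_range f)
      _ = Nat.card (Set.range f) := (Nat.card_coe_set_eq _).symm
      _ ≤ Nat.card (gen s m × Fin (m + 2)) := Nat.card_le_card_of_surjective _
            Set.rangeFactorization_surjective
      _ ≤ (m + 1 + 1).factorial := by
            rw [Nat.card_prod, Nat.card_fin, Nat.factorial_succ (m + 1), mul_comm]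
            exact Nat.mul_le_mul_left _ hcard

/-- Relators of type A. -/
def rels (n : ℕ) : Set (FreeGroup (Fin n)) :=
  {g | ∃ i : Fin n, g = FreeGroup.of i ^ 2} ∪
  {g | ∃ i j : Fin n, j.val = i.val + 1 ∧ g = (FreeGroup.of i * FreeGroup.of j) ^ 3} ∪
  {g | ∃ i j : Fin n, i.val + 1 < j.val ∧ g = (FreeGroup.of i * FreeGroup.of j) ^ 2}

/-- Adjacent transposition. -/
def adj {n : ℕ} (i : Fin n) : Equiv.Perm (Fin (n + 1)) := Equiv.swap i.castSucc i.succ

theorem adj_rels (n : ℕ) : ∀ r ∈ rels n, FreeGroup.lift (adj (n := n)) r = 1 := by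
  rintro r ((⟨i, rfl⟩ | ⟨i, j, h, rfl⟩) | ⟨i, j, h, rfl⟩)
  · simp [adj, pow_two]
  · simp only [map_pow, map_mul, FreeGroup.lift_apply_of, adj]
    have hj : j.castSucc = i.succ := by ext; simp [h]
    rw [hj]
    have h3 : (Equiv.swap i.castSucc i.succ * Equiv.swap i.succ j.succ).IsThreeCycle := by
      rw [Equiv.swap_comm i.castSucc i.succ]
      exact Equiv.Perm.isThreeCycle_swap_mul_swap_same (by simp [Fin.ext_iff])
        (by simp [Fin.ext_iff, h]) (by simp [Fin.ext_iff, h]; omega)
    rw [← h3.orderOf]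
    exact pow_orderOf_eq_one _
  · simp only [map_pow, map_mul, FreeGroup.lift_apply_of, adj]
    have hc : Commute (Equiv.swap i.castSucc i.succ) (Equiv.swap j.castSucc j.succ) := by
      apply Equiv.Perm.Disjoint.commute
      intro x
      simp only [Equiv.swap_apply_def, Fin.ext_iff, Fin.val_castSucc, Fin.val_succ]
      by_cases hx : x.val = i.val ∨ x.val = i.val + 1
      · right; rcases hx with hx | hx <;> split_ifs <;> first | omega | simp_all
      · left; split_ifs <;> first | omega | simp_all
    rw [hc.mul_pow]; simp [pow_two]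

/-- The map from the presented group to the symmetric group. -/
def toPerm (n : ℕ) : PresentedGroup (rels n) →* Equiv.Perm (Fin (n + 1)) :=
  PresentedGroup.toGroup (adj_rels n)

/-- Generators extended to `ℕ`. -/
def pgen (n : ℕ) (i : ℕ) : PresentedGroup (rels n) :=
  if h : i < n then PresentedGroup.of (⟨i, h⟩ : Fin n) else 1

theorem symRel_pgen (n : ℕ) : SymRel n (pgen n) := by
  have h2 : ∀ i, i < n → pgen n i * pgen n i = 1 := by
    intro i hi
    simp only [pgen, dif_pos hi, PresentedGroup.of, ← map_mul, ← pow_two]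
    exact PresentedGroup.one_of_mem (.inl (.inl ⟨⟨i, hi⟩, rfl⟩))
  refine ⟨h2, fun i hi => braid_of_pow_three (h2 i (by omega)) (h2 _ hi) ?_, fun i j h hj =>
    comm_of_pow_two (h2 i (by omega)) (h2 j hj) ?_⟩
  · simp only [pgen, dif_pos hi, dif_pos (show i < n by omega), PresentedGroup.of, ← map_mul,
      ← map_pow]
    exact PresentedGroup.one_of_mem (.inl (.inr ⟨⟨i, by omega⟩, ⟨i + 1, hi⟩, rfl, rfl⟩))
  · simp only [pgen, dif_pos hj, dif_pos (show i < n by omega), PresentedGroup.of, ← map_mul,
      ← map_pow]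
    exact PresentedGroup.one_of_mem (.inr ⟨⟨i, by omega⟩, ⟨j, hj⟩,
      (by simp only; omega), rfl⟩)

theorem toPerm_bijective (n : ℕ) : Function.Bijective (toPerm n) := by
  have htop : gen (pgen n) n = ⊤ := by
    rw [eq_top_iff, ← PresentedGroup.closure_range_of (rels n), Subgroup.closure_le]
    rintro _ ⟨i, rfl⟩
    have := mem_gen (s := pgen n) i.isLt
    simpa [pgen] using this
  obtain ⟨hf, hc⟩ := gen_bound n (symRel_pgen n)
  rw [htop] at hf hc
  haveI : Finite (PresentedGroup (rels n)) := Finite.of_equiv _ Subgroup.topEquiv.toEquiv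
  rw [Subgroup.card_top] at hc
  have hsurj : Function.Surjective (toPerm n) := by
    rw [← MonoidHom.range_eq_top, eq_top_iff]
    intro x _
    have := Equiv.Perm.mclosure_swap_castSucc_succ n
    have hx : x ∈ Submonoid.closure (Set.range fun i : Fin n => Equiv.swap i.castSucc i.succ) := by
      rw [this]; trivial
    induction hx using Submonoid.closure_induction with
    | mem y hy =>
      obtain ⟨i, rfl⟩ := hy
      exact ⟨PresentedGroup.of i, by simp [toPerm, adj]⟩
    | one => exact Subgroup.one_mem _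
    | mul a b _ _ ha hb => exact Subgroup.mul_mem _ (ha trivial) (hb trivial)
  refine hsurj.bijective_of_nat_card_le (hc.trans ?_)
  rw [Nat.card_perm, Nat.card_fin]

/-- The Coxeter presentation of `Perm (Fin (n+1))`. -/
noncomputable def presentedEquiv (n : ℕ) :
    PresentedGroup (rels n) ≃* Equiv.Perm (Fin (n + 1)) :=
  MulEquiv.ofBijective (toPerm n) (toPerm_bijective n)

/-- Universal property of the symmetric group. -/
theorem exists_lift {n : ℕ} {s : ℕ → G} (hr : SymRel n s) :
    ∃ φ : Equiv.Perm (Fin (n + 1)) →* G,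
      (∀ i : Fin n, φ (Equiv.swap i.castSucc i.succ) = s i) ∧ φ.range = gen s n := by
  obtain ⟨h2, hb, hc⟩ := hr
  have hrel : ∀ r ∈ rels n, FreeGroup.lift (fun i : Fin n => s i) r = 1 := by
    rintro r ((⟨i, rfl⟩ | ⟨i, j, h, rfl⟩) | ⟨i, j, h, rfl⟩)
    · simp [pow_two, h2 _ i.isLt]
    · have hj := j.isLt
      simp only [map_pow, map_mul, FreeGroup.lift_apply_of, h]
      have hb' := hb i (by omega)
      calc (s i * s (i.val + 1)) ^ 3
          = (s i * s (i.val + 1) * s i) * (s (i.val + 1) * s i * s (i.val + 1)) := by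
            simp [pow_succ, mul_assoc]
        _ = (s i * s (i.val + 1) * s i) * (s i * s (i.val + 1) * s i) := by rw [hb']
        _ = s i * (s (i.val + 1) * ((s i * s i) * s (i.val + 1)) * s i) := by simp [mul_assoc]
        _ = 1 := by simp [h2 _ i.isLt, h2 (i.val + 1) (by omega)]
    · simp only [map_pow, map_mul, FreeGroup.lift_apply_of]
      have hc' : Commute (s i) (s j) := hc i j (by omega) j.isLt
      simp [hc'.mul_pow, pow_two, h2 _ i.isLt, h2 _ j.isLt]
  refine ⟨(PresentedGroup.toGroup hrel).comp (presentedEquiv n).symm.toMonoidHom, ?_, ?_⟩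
  · intro i
    have he : (presentedEquiv n).symm (Equiv.swap i.castSucc i.succ) = PresentedGroup.of i := by
      rw [MulEquiv.symm_apply_eq]
      simp [presentedEquiv, toPerm, adj]
    simp [he]
  · rw [MonoidHom.range_comp, MonoidHom.range_eq_top.2 (presentedEquiv n).symm.surjective]
    apply le_antisymm
    · rintro _ ⟨x, _, rfl⟩
      have : x ∈ Subgroup.closure (Set.range (PresentedGroup.of (rels := rels n))) := by simp
      induction this using Subgroup.closure_induction with
      | mem y hy => obtain ⟨i, rfl⟩ := hy; simpa using mem_gen (s := s) i.isLt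
      | one => simp
      | mul a b _ _ ha hb => rw [map_mul]; exact Subgroup.mul_mem _ (ha trivial) (hb trivial)
      | inv a _ ha => rw [map_inv]; exact Subgroup.inv_mem _ (ha trivial)
    · rw [gen, Subgroup.closure_le]
      rintro _ ⟨i, hi, rfl⟩
      exact ⟨PresentedGroup.of (⟨i, hi⟩ : Fin n), trivial, by simp⟩

end Cfsg.Agent.Lib.Spectrum.CoxeterSym
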