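import Mathlib
import Cfsg.Agent.Lib.Spectrum.CoxeterSym

/-!
# Moore's presentation of the alternating group
-/

namespace Cfsg.Agent.Lib.Spectrum.CoxeterAlt

open Cfsg.Agent.Lib.Spectrum.CoxeterSym

variable {G : Type*} [Group G]

/-- Moore's relations on `x 0, …, x (n-1)`. -/
def AltRel (n : ℕ) (x : ℕ → G) : Prop :=
  (0 < n → x 0 ^ 3 = 1) ∧
  (∀ i, 1 ≤ i → i < n → x i * x i = 1) ∧
  (∀ i, i + 1 < n → (x i * x (i + 1)) ^ 3 = 1) ∧
  (∀ i j, i + 2 ≤ j → j < n → (x i * x j) ^ 2 = 1)

/-- Relators of Moore's presentation, for `k` generators. -/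
def rels (k : ℕ) : Set (FreeGroup (Fin k)) :=
  {g | ∃ i : Fin k, i.val = 0 ∧ g = FreeGroup.of i ^ 3} ∪
  {g | ∃ i : Fin k, 1 ≤ i.val ∧ g = FreeGroup.of i ^ 2} ∪
  {g | ∃ i j : Fin k, j.val = i.val + 1 ∧ g = (FreeGroup.of i * FreeGroup.of j) ^ 3} ∪
  {g | ∃ i j : Fin k, i.val + 1 < j.val ∧ g = (FreeGroup.of i * FreeGroup.of j) ^ 2}

/-- In a group, `(a*b)^2 = 1` with `b` an involution means `b` inverts `a`. -/
theorem inverts_of_pow_two {a b : G} (hb : b * b = 1) (h : (a * b) ^ 2 = 1) (e : ℤ) :
    a ^ e * b = b * a ^ (-e) := by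
  have hb' : b⁻¹ = b := inv_eq_of_mul_eq_one_right hb
  rw [pow_two] at h
  have h1 : SemiconjBy b a a⁻¹ := by
    change b * a = a⁻¹ * b
    refine mul_left_cancel (a := a) ?_
    rw [mul_inv_cancel_left, ← mul_assoc]
    calc a * b * a = (b : G)⁻¹ := eq_inv_of_mul_eq_one_left (by rw [← h]; simp [mul_assoc])
      _ = b := hb'
  have := h1.zpow_right (-e)
  simp [SemiconjBy, inv_zpow] at this
  simpa using this.symm

/-- The four rewriting rules `b a^e b = a^(-e) b a^(-e)` for `e = ±1`. -/
theorem triangle {a b : G} (hb : b * b = 1) (h : (a * b) ^ 3 = 1) :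
    b * a * b = a⁻¹ * b * a⁻¹ ∧ b * a⁻¹ * b = a * b * a := by
  have hb' : b⁻¹ = b := inv_eq_of_mul_eq_one_right hb
  have h1 : b * a * b = a⁻¹ * b * a⁻¹ := by
    have h' : (a * b * a) * (b * a * b) = 1 := by rw [← h]; simp [pow_succ, mul_assoc]
    calc b * a * b = (a * b * a)⁻¹ := eq_inv_of_mul_eq_one_right h'
      _ = a⁻¹ * b * a⁻¹ := by simp [mul_inv_rev, hb', mul_assoc]
  refine ⟨h1, ?_⟩
  have := congrArg (·⁻¹) h1
  simpa [mul_inv_rev, hb', mul_assoc] using this

/-- Moving a power of `x 0` to the left through a word in `x_j`, `j ≥ 2`. -/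
theorem word_zero {x : ℕ → G} {m : ℕ}
    (h2 : ∀ i, 1 ≤ i → i ≤ m → x i * x i = 1)
    (hc : ∀ b, 2 ≤ b → b ≤ m → (x 0 * x b) ^ 2 = 1) :
    ∀ j, j < m → ∀ e : ℤ, ∃ e' : ℤ, word x m j * x 0 ^ e = x 0 ^ e' * word x m j := by
  intro j
  induction j with
  | zero => intro _ e; exact ⟨e, by simp [word]⟩
  | succ j ih =>
    intro hj e
    have h := inverts_of_pow_two (h2 (m - j) (by omega) (by omega))
      (hc (m - j) (by omega) (by omega)) (-e)
    rw [neg_neg] at h
    obtain ⟨e', he'⟩ := ih (by omega) (-e)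
    refine ⟨e', ?_⟩
    simp only [word]
    rw [mul_assoc, ← h, ← mul_assoc, he', mul_assoc]

/-- `x i` (`2 ≤ i`) shifts down when moved through the full word. -/
theorem word_shift' {x : ℕ → G} {m : ℕ}
    (h2 : ∀ i, 1 ≤ i → i ≤ m → x i * x i = 1)
    (hb : ∀ a, 1 ≤ a → a + 1 ≤ m → x a * x (a + 1) * x a = x (a + 1) * x a * x (a + 1))
    (hc : ∀ a b, 1 ≤ a → a + 2 ≤ b → b ≤ m → x a * x b = x b * x a) :
    ∀ j, j ≤ m → ∀ i, 1 ≤ i → i ≤ m →
      (m + 2 ≤ i + j → word x m j * x i = x (i - 1) * word x m j) ∧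
      (i + j < m → word x m j * x i = x i * word x m j) := by
  intro j
  induction j with
  | zero => intro _ i hi1 hi; exact ⟨fun h => by omega, fun _ => by simp [word]⟩
  | succ j ih =>
    intro hj i hi1 hi
    refine ⟨fun h => ?_, fun h => ?_⟩
    · simp only [word]
      rcases Nat.lt_or_ge (m + 1) (i + j) with h' | h'
      · have hcm := hc (m - j) i (by omega) (by omega) hi
        rw [mul_assoc, hcm, ← mul_assoc, (ih (by omega) i hi1 hi).1 (by omega), mul_assoc]
      · obtain ⟨k, rfl⟩ : ∃ k, j = k + 1 := ⟨j - 1, by omega⟩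
        obtain ⟨a, rfl⟩ : ∃ a, i = a + 1 := ⟨i - 1, by omega⟩
        have e1 : m - (k + 1) = a := by omega
        have e2 : m - k = a + 1 := by omega
        simp only [word, e1, e2, Nat.add_sub_cancel]
        have hk : word x m k * x a = x a * word x m k := by
          clear ih
          have key : ∀ l, l ≤ k → word x m l * x a = x a * word x m l := by
            intro l
            induction l with
            | zero => simp [word]
            | succ l ihl =>
              intro hl
              have hcm := hc a (m - l) (by omega) (by omega) (by omega)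
              simp only [word]
              rw [mul_assoc, ← hcm, ← mul_assoc, ihl (by omega), mul_assoc]
          exact key k le_rfl
        calc word x m k * x (a + 1) * x a * x (a + 1)
            = word x m k * (x (a + 1) * x a * x (a + 1)) := by simp [mul_assoc]
          _ = word x m k * (x a * x (a + 1) * x a) := by rw [hb a (by omega) (by omega)]
          _ = x a * (word x m k * x (a + 1) * x a) := by
              rw [← mul_assoc, ← mul_assoc, hk]; simp [mul_assoc]
    · have hcm := hc i (m - j) hi1 (by omega) (by omega)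
      simp only [word]
      rw [mul_assoc, ← hcm, ← mul_assoc, (ih (by omega) i hi1 hi).2 (by omega), mul_assoc]

theorem gen_bound {x : ℕ → G} : ∀ n, AltRel n x →
    Finite (gen x n) ∧ 2 * Nat.card (gen x n) ≤ (n + 2).factorial := by
  intro n
  induction n with
  | zero =>
    intro _
    have h : gen x 0 = ⊥ := by simp [gen]
    refine ⟨by rw [h]; infer_instance, ?_⟩
    rw [h]; simp
  | succ m ih =>
    intro hr
    obtain ⟨h03, h2, h3, hc2⟩ := hr
    obtain ⟨hfin, hcard⟩ := ih ⟨fun h => h03 (by omega), fun i hi hi' => h2 i hi (by omega),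
      fun i hi => h3 i (by omega), fun i j h hj => hc2 i j h (by omega)⟩
    have h03 := h03 (Nat.succ_pos m)
    have hx0 : ∀ e : ℤ, x 0 ^ e = 1 ∨ x 0 ^ e = x 0 ∨ x 0 ^ e = (x 0)⁻¹ := by
      intro e
      have h3z : x 0 ^ (3 : ℤ) = 1 := by exact_mod_cast h03
      have he : e = 3 * (e / 3) + e % 3 := (Int.mul_ediv_add_emod e 3).symm
      rw [he, zpow_add, zpow_mul, h3z, one_zpow, one_mul]
      have : e % 3 = 0 ∨ e % 3 = 1 ∨ e % 3 = 2 := by omega
      rcases this with h | h | h <;> rw [h]
      · simp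
      · simp
      · right; right
        rw [show (2 : ℤ) = 3 + -1 from rfl, zpow_add, h3z]; simp
    have h2' : ∀ i, 1 ≤ i → i ≤ m → x i * x i = 1 := fun i h h' => h2 i h (by omega)
    have hb : ∀ a, 1 ≤ a → a + 1 ≤ m → x a * x (a + 1) * x a = x (a + 1) * x a * x (a + 1) :=
      fun a ha ham => braid_of_pow_three (h2' a ha (by omega)) (h2' _ (by omega) ham)
        (h3 a (by omega))
    have hc : ∀ a b, 1 ≤ a → a + 2 ≤ b → b ≤ m → x a * x b = x b * x a :=
      fun a b ha hab hb => comm_of_pow_two (h2' a ha (by omega)) (h2' b (by omega) hb)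
        (hc2 a b hab (by omega))
    have hc0 : ∀ b, 2 ≤ b → b ≤ m → (x 0 * x b) ^ 2 = 1 :=
      fun b hb hbm => hc2 0 b (by omega) (by omega)
    let f : gen x m × (Fin (m + 1) ⊕ Fin 2) → G := fun p => (p.1 : G) *
      Sum.elim (fun j => word x m j.val)
        (fun e => if e.val = 0 then word x m m * x 0 else word x m m * (x 0)⁻¹) p.2
    have hW : ∀ k ∈ gen x m, ∀ j, j ≤ m → k * word x m j ∈ Set.range f :=
      fun k hk j hj => ⟨(⟨k, hk⟩, .inl ⟨j, by omega⟩), rfl⟩
    have hD : ∀ k ∈ gen x m, ∀ e : ℤ, k * (word x m m * x 0 ^ e) ∈ Set.range f := by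
      intro k hk e
      rcases hx0 e with h | h | h <;> rw [h]
      · simpa using hW k hk m le_rfl
      · exact ⟨(⟨k, hk⟩, .inr 0), by simp [f]⟩
      · exact ⟨(⟨k, hk⟩, .inr 1), by simp [f]⟩
    have hR : ∀ y ∈ Set.range f, (∃ k ∈ gen x m, ∃ j, j ≤ m ∧ y = k * word x m j) ∨
        ∃ k ∈ gen x m, ∃ e : ℤ, (e = 1 ∨ e = -1) ∧ y = k * (word x m m * x 0 ^ e) := by
      rintro _ ⟨⟨⟨k, hk⟩, j | e⟩, rfl⟩
      · exact .inl ⟨k, hk, j, by omega, rfl⟩
      · by_cases he : e.val = 0
        · exact .inr ⟨k, hk, 1, .inl rfl, by simp only [f, Sum.elim_inr, if_pos he, zpow_one]⟩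
        · exact .inr ⟨k, hk, -1, .inr rfl, by simp only [f, Sum.elim_inr, if_neg he, zpow_neg_one]⟩
    have hzero : ∀ y ∈ Set.range f, ∀ e : ℤ, y * x 0 ^ e ∈ Set.range f := by
      intro y hy e
      rcases hR y hy with ⟨k, hk, j, hj, rfl⟩ | ⟨k, hk, e', -, rfl⟩
      · rcases Nat.lt_or_ge j m with hj' | hj'
        · obtain ⟨e', he'⟩ := word_zero h2' hc0 j hj' e
          rw [mul_assoc, he', ← mul_assoc]
          refine hW _ (Subgroup.mul_mem _ hk (Subgroup.zpow_mem _ (mem_gen (by omega)) _)) j hj
        · obtain rfl : j = m := by omega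
          rw [mul_assoc]; exact hD k hk e
      · have : k * (word x m m * x 0 ^ e') * x 0 ^ e = k * (word x m m * x 0 ^ (e' + e)) := by
          rw [zpow_add]; simp [mul_assoc]
        rw [this]; exact hD k hk _
    have hpos : ∀ y ∈ Set.range f, ∀ i, 1 ≤ i → i ≤ m → y * x i ∈ Set.range f := by
      intro y hy i hi1 hi
      rcases hR y hy with ⟨k, hk, j, hj, rfl⟩ | ⟨k, hk, e, he, rfl⟩
      · rcases lt_trichotomy (i + j) m with h | h | h
        · rw [mul_assoc, (word_shift' h2' hb hc j hj i hi1 hi).2 h, ← mul_assoc]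
          exact hW _ (Subgroup.mul_mem _ hk (mem_gen (by omega))) j hj
        · have : word x m j * x i = word x m (j + 1) := by
            simp only [word]; rw [show m - j = i by omega]
          rw [mul_assoc, this]; exact hW k hk (j + 1) (by omega)
        · rcases Nat.lt_or_ge (m + 1) (i + j) with h' | h'
          · rw [mul_assoc, (word_shift' h2' hb hc j hj i hi1 hi).1 (by omega), ← mul_assoc]
            exact hW _ (Subgroup.mul_mem _ hk (mem_gen (by omega))) j hj
          · obtain ⟨l, rfl⟩ : ∃ l, j = l + 1 := ⟨j - 1, by omega⟩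
            have : word x m (l + 1) * x i = word x m l := by
              simp only [word]; rw [show m - l = i by omega, mul_assoc, h2' i hi1 hi, mul_one]
            rw [mul_assoc, this]; exact hW k hk l (by omega)
      · rcases Nat.lt_or_ge 1 i with hi2 | hi2
        · have h := inverts_of_pow_two (h2' i hi1 hi) (hc0 i hi2 hi) e
          have : k * (word x m m * x 0 ^ e) * x i =
              k * x (i - 1) * (word x m m * x 0 ^ (-e)) := by
            simp only [mul_assoc]
            rw [h, ← mul_assoc (word x m m), (word_shift' h2' hb hc m le_rfl i hi1 hi).1 (by omega)]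
            simp [mul_assoc]
          rw [this]
          exact hD _ (Subgroup.mul_mem _ hk (mem_gen (by omega))) _
        · obtain rfl : i = 1 := by omega
          obtain ⟨l, hl⟩ : ∃ l, m = l + 1 := ⟨m - 1, by omega⟩
          have hw : word x m m = word x m l * x 1 := by
            subst hl; simp [word]
          have ht := triangle (h2' 1 le_rfl hi) (h3 0 (by omega))
          have ht' : x 1 * x 0 ^ e * x 1 = x 0 ^ (-e) * x 1 * x 0 ^ (-e) := by
            rcases he with rfl | rfl
            · simpa using ht.1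
            · simpa using ht.2
          obtain ⟨e', he'⟩ := word_zero h2' hc0 l (by omega) (-e)
          have : k * (word x m m * x 0 ^ e) * x 1 =
              k * x 0 ^ e' * (word x m m * x 0 ^ (-e)) := by
            rw [hw]
            calc k * (word x m l * x 1 * x 0 ^ e) * x 1
                = k * (word x m l * (x 1 * x 0 ^ e * x 1)) := by simp [mul_assoc]
              _ = k * (word x m l * x 0 ^ (-e) * (x 1 * x 0 ^ (-e))) := by
                  rw [ht']; simp [mul_assoc]
              _ = _ := by rw [he']; simp [mul_assoc]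
          rw [this]
          exact hD _ (Subgroup.mul_mem _ hk (Subgroup.zpow_mem _ (mem_gen (by omega)) _)) _
    have hone : (1 : G) ∈ Set.range f := by
      simpa [word] using hW 1 (Subgroup.one_mem _) 0 (Nat.zero_le m)
    have hsub : ((gen x (m + 1) : Subgroup G) : Set G) ⊆ Set.range f := by
      intro z hz
      refine Subgroup.closure_induction_right (p := fun z _ => z ∈ Set.range f) hone ?_ ?_ hz
      · rintro y _ _ ⟨i, hi, rfl⟩ hy
        rcases Nat.eq_zero_or_pos i with rfl | hi0
        · simpa using hzero y hy 1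
        · exact hpos y hy i hi0 (by simp at hi; omega)
      · rintro y _ _ ⟨i, hi, rfl⟩ hy
        rcases Nat.eq_zero_or_pos i with rfl | hi0
        · simpa using hzero y hy (-1)
        · rw [inv_eq_of_mul_eq_one_right (h2 i hi0 hi)]
          exact hpos y hy i hi0 (by simp at hi; omega)
    have hfin' : Finite (gen x m) := hfin
    refine ⟨((Set.finite_range f).subset hsub).to_subtype, ?_⟩
    have hle : Nat.card (gen x (m + 1)) ≤ Nat.card (gen x m) * (m + 3) := by
      calc Nat.card (gen x (m + 1)) = Set.ncard (gen x (m + 1) : Set G) :=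
            (Nat.card_coe_set_eq _)
        _ ≤ (Set.range f).ncard := Set.ncard_le_ncard hsub (Set.finite_range f)
        _ = Nat.card (Set.range f) := (Nat.card_coe_set_eq _).symm
        _ ≤ Nat.card (gen x m × (Fin (m + 1) ⊕ Fin 2)) := Nat.card_le_card_of_surjective _
              Set.rangeFactorization_surjective
        _ = _ := by rw [Nat.card_prod, Nat.card_sum, Nat.card_fin, Nat.card_fin]
    calc 2 * Nat.card (gen x (m + 1)) ≤ (2 * Nat.card (gen x m)) * (m + 3) := by
          rw [mul_assoc]; exact Nat.mul_le_mul_left _ hle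
      _ ≤ (m + 2).factorial * (m + 3) := Nat.mul_le_mul_right _ hcard
      _ = (m + 1 + 2).factorial := by rw [Nat.factorial_succ (m + 2)]; ring

/-- Images of Moore's generators in `Perm (Fin (k+2))`. -/
def altGen {k : ℕ} (i : Fin k) : Equiv.Perm (Fin (k + 2)) :=
  if i.val = 0 then Equiv.swap 0 1 * Equiv.swap 1 2
  else Equiv.swap 0 1 * Equiv.swap (⟨i.val + 1, by omega⟩ : Fin (k + 2)) ⟨i.val + 2, by omega⟩

/-- The adjacent transpositions of `Perm (Fin (k+2))`, indexed by `ℕ`. -/
def sAdj (k : ℕ) (i : ℕ) : Equiv.Perm (Fin (k + 2)) :=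
  if h : i < k + 1 then adj (⟨i, h⟩ : Fin (k + 1)) else 1

theorem symRel_sAdj (k : ℕ) : SymRel (k + 1) (sAdj k) := by
  have h := symRel_pgen (k + 1)
  have e : ∀ i, sAdj k i = toPerm (k + 1) (pgen (k + 1) i) := by
    intro i
    by_cases hi : i < k + 1
    · simp [sAdj, pgen, hi, toPerm]
    · simp [sAdj, pgen, hi]
  refine ⟨fun i hi => ?_, fun i hi => ?_, fun i j hij hj => ?_⟩
  · simp [e, ← map_mul, h.1 i hi]
  · simp [e, ← map_mul, h.2.1 i hi]
  · simp [e, ← map_mul, h.2.2 i j hij hj]

theorem altGen_eq {k : ℕ} (i : Fin k) :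
    altGen i = sAdj k 0 * sAdj k (i.val + 1) := by
  have hk := i.isLt
  have h0 : sAdj k 0 = Equiv.swap 0 1 := by
    simp only [sAdj, dif_pos (show 0 < k + 1 by omega), adj]
    congr 1 <;> ext <;> simp
  rw [h0]
  simp only [sAdj, dif_pos (show i.val + 1 < k + 1 by omega), altGen, adj]
  by_cases h : i.val = 0
  · rw [if_pos h]
    congr 1
    congr 1 <;> ext <;> simp [h, Nat.mod_eq_of_lt (show 2 < k + 2 by omega)]
  · rw [if_neg h]
    congr 1

theorem altGen_rels (k : ℕ) : ∀ r ∈ rels k, FreeGroup.lift (altGen (k := k)) r = 1 := by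
  obtain ⟨h2, hb, hc⟩ := symRel_sAdj k
  set s := sAdj k with hs
  have b3 : ∀ i, i + 1 < k + 1 → (s i * s (i + 1)) ^ 3 = 1 := by
    intro i hi
    calc (s i * s (i + 1)) ^ 3
        = (s i * s (i + 1) * s i) * (s (i + 1) * s i * s (i + 1)) := by simp [pow_succ, mul_assoc]
      _ = (s i * s (i + 1) * s i) * (s i * s (i + 1) * s i) := by rw [hb i hi]
      _ = s i * (s (i + 1) * ((s i * s i) * s (i + 1)) * s i) := by simp [mul_assoc]
      _ = 1 := by simp [h2 i (by omega), h2 (i + 1) hi]
  rintro r (((⟨i, h, rfl⟩ | ⟨i, h, rfl⟩) | ⟨i, j, h, rfl⟩) | ⟨i, j, h, rfl⟩)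
  · have := i.isLt
    simp only [map_pow, FreeGroup.lift_apply_of, altGen_eq, h]
    exact b3 0 (by omega)
  · have := i.isLt
    simp only [map_pow, FreeGroup.lift_apply_of, altGen_eq, ← hs]
    have hcm : Commute (s 0) (s (i.val + 1)) := hc 0 _ (by omega) (by omega)
    rw [hcm.mul_pow, pow_two, pow_two, h2 0 (by omega), h2 _ (by omega), one_mul]
  · have := j.isLt
    simp only [map_pow, map_mul, FreeGroup.lift_apply_of, altGen_eq, ← hs, h]
    by_cases hi : i.val = 0
    · rw [hi]
      have hcm : s 0 * s 2 = s 2 * s 0 := hc 0 2 le_rfl (by omega)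
      have e : s 0 * s (0 + 1) * (s 0 * s (0 + 1 + 1)) = s 0 * (s 1 * s 2) * (s 0)⁻¹ := by
        rw [inv_eq_of_mul_eq_one_right (h2 0 (by omega)), hcm]; simp [mul_assoc]
      rw [e, conj_pow, b3 1 (by omega)]; simp
    · have hc1 : Commute (s 0) (s (i.val + 1)) := hc 0 _ (by omega) (by omega)
      have e : s 0 * s (i.val + 1) * (s 0 * s (i.val + 1 + 1)) =
          s (i.val + 1) * s (i.val + 1 + 1) := by
        rw [hc1.eq, mul_assoc, ← mul_assoc (s 0), h2 0 (by omega), one_mul]
      rw [e]; exact b3 _ (by omega)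
  · have := j.isLt
    simp only [map_pow, map_mul, FreeGroup.lift_apply_of, altGen_eq, ← hs]
    have c0j : s 0 * s (j.val + 1) = s (j.val + 1) * s 0 := hc 0 _ (by omega) (by omega)
    have e : s 0 * s (i.val + 1) * (s 0 * s (j.val + 1)) =
        s 0 * (s (i.val + 1) * s (j.val + 1)) * s 0 := by
      rw [c0j]; simp [mul_assoc]
    have hcm : Commute (s (i.val + 1)) (s (j.val + 1)) := hc _ _ (by omega) (by omega)
    have e' : s 0 * (s (i.val + 1) * s (j.val + 1)) * s 0 =
        s 0 * (s (i.val + 1) * s (j.val + 1)) * (s 0)⁻¹ := by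
      rw [inv_eq_of_mul_eq_one_right (h2 0 (by omega))]
    rw [e, e', conj_pow, hcm.mul_pow]
    simp [pow_two, h2 _ (show i.val + 1 < k + 1 by omega), h2 _ (show j.val + 1 < k + 1 by omega)]

/-- The map from Moore's presented group to the symmetric group. -/
def toPermAlt (k : ℕ) : PresentedGroup (rels k) →* Equiv.Perm (Fin (k + 2)) :=
  PresentedGroup.toGroup (altGen_rels k)

theorem range_toPermAlt (k : ℕ) :
    (toPermAlt k).range = alternatingGroup (Fin (k + 2)) := by
  obtain ⟨h2, hb, hc⟩ := symRel_sAdj k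
  set s := sAdj k with hs
  set H := (toPermAlt k).range with hH
  have hgen : ∀ i, i < k → s 0 * s (i + 1) ∈ H := by
    intro i hi
    exact ⟨PresentedGroup.of (⟨i, hi⟩ : Fin k), by simp [toPermAlt, altGen_eq, ← hs]⟩
  have hgen' : ∀ i, i < k + 1 → s 0 * s i ∈ H ∧ s i * s 0 ∈ H := by
    intro i hi
    have h1 : s 0 * s i ∈ H := by
      rcases i with _ | i
      · rw [h2 0 (by omega)]; exact Subgroup.one_mem _
      · exact hgen i (by omega)
    refine ⟨h1, ?_⟩
    have := Subgroup.inv_mem _ h1
    rwa [mul_inv_rev, inv_eq_of_mul_eq_one_right (h2 i hi),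
      inv_eq_of_mul_eq_one_right (h2 0 (by omega))] at this
  have hconj : ∀ g ∈ H, s 0 * g * s 0 ∈ H := by
    rintro _ ⟨z, rfl⟩
    have : z ∈ Subgroup.closure (Set.range (PresentedGroup.of (rels := rels k))) := by simp
    have hi0 : (s 0)⁻¹ = s 0 := inv_eq_of_mul_eq_one_right (h2 0 (by omega))
    induction this using Subgroup.closure_induction with
    | mem y hy =>
      obtain ⟨i, rfl⟩ := hy
      simp only [toPermAlt, PresentedGroup.toGroup.of, altGen_eq, ← hs]
      rw [← mul_assoc (s 0), h2 0 (by omega), one_mul]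
      exact (hgen' _ (by omega)).2
    | one => simp [h2 0 (by omega)]
    | mul a b _ _ ha hb =>
      have : s 0 * toPermAlt k (a * b) * s 0 =
          (s 0 * toPermAlt k a * s 0) * (s 0 * toPermAlt k b * s 0) := by
        simp only [map_mul, mul_assoc]
        rw [← mul_assoc (s 0) (s 0), h2 0 (by omega), one_mul]
      rw [this]; exact Subgroup.mul_mem _ ha hb
    | inv a _ ha =>
      have := Subgroup.inv_mem _ ha
      rw [map_inv]
      simpa [mul_inv_rev, hi0, mul_assoc] using this
  have key : ∀ g : Equiv.Perm (Fin (k + 2)), g ∈ H ∨ g * s 0 ∈ H := by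
    intro g
    have hg : g ∈ Submonoid.closure
        (Set.range fun i : Fin (k + 1) => Equiv.swap i.castSucc i.succ) := by
      rw [Equiv.Perm.mclosure_swap_castSucc_succ]; trivial
    induction hg using Submonoid.closure_induction_left with
    | one => exact .inl (Subgroup.one_mem _)
    | mul_left y hy z _ ih =>
      obtain ⟨i, rfl⟩ := hy
      have he : Equiv.swap i.castSucc i.succ = s i := by simp [hs, sAdj, i.isLt, adj]
      change Equiv.swap i.castSucc i.succ * z ∈ H ∨ Equiv.swap i.castSucc i.succ * z * s 0 ∈ H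
      rw [he]
      have ha := (hgen' i i.isLt).2
      rcases ih with ih | ih
      · right
        have := Subgroup.mul_mem _ ha (hconj z ih)
        have e : s i * s 0 * (s 0 * z * s 0) = s i * z * s 0 := by
          simp only [← mul_assoc]; rw [mul_assoc (s i) (s 0) (s 0), h2 0 (by omega), mul_one]
        rwa [e] at this
      · left
        have := Subgroup.mul_mem _ ha (hconj _ ih)
        have e : s i * s 0 * (s 0 * (z * s 0) * s 0) = s i * z := by
          simp only [mul_assoc]; rw [h2 0 (by omega), mul_one, ← mul_assoc (s 0) (s 0),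
            h2 0 (by omega), one_mul]
        rwa [e] at this
  have hs0 : Equiv.Perm.sign (s 0) = -1 := by
    simp only [hs, sAdj, dif_pos (Nat.succ_pos k), adj]
    exact Equiv.Perm.sign_swap (by simp [Fin.ext_iff])
  have hle : H ≤ alternatingGroup (Fin (k + 2)) := by
    rintro _ ⟨z, rfl⟩
    rw [Equiv.Perm.mem_alternatingGroup]
    have : z ∈ Subgroup.closure (Set.range (PresentedGroup.of (rels := rels k))) := by simp
    induction this using Subgroup.closure_induction with
    | mem y hy =>
      obtain ⟨i, rfl⟩ := hy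
      simp only [toPermAlt, PresentedGroup.toGroup.of, altGen_eq, ← hs, map_mul, hs0]
      have : Equiv.Perm.sign (s (i.val + 1)) = -1 := by
        simp only [hs, sAdj, dif_pos (show i.val + 1 < k + 1 by omega), adj]
        exact Equiv.Perm.sign_swap (by simp [Fin.ext_iff])
      rw [this]; decide
    | one => simp
    | mul a b _ _ ha hb => simp [map_mul, ha, hb]
    | inv a _ ha => simp [map_inv, ha]
  refine le_antisymm hle fun g hg => ?_
  rcases key g with h | h
  · exact h
  · have := hle h
    rw [Equiv.Perm.mem_alternatingGroup] at hg this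
    rw [map_mul, hg, hs0] at this
    exact absurd this (by decide)

theorem toPermAlt_injective (k : ℕ) : Function.Injective (toPermAlt k) := by
  let x : ℕ → PresentedGroup (rels k) := fun i =>
    if h : i < k then PresentedGroup.of (⟨i, h⟩ : Fin k) else 1
  have hx : AltRel k x := by
    refine ⟨fun h => ?_, fun i hi h => ?_, fun i h => ?_, fun i j h hj => ?_⟩
    · simp only [x, dif_pos h, PresentedGroup.of, ← map_pow]
      exact PresentedGroup.one_of_mem (.inl (.inl (.inl ⟨⟨0, h⟩, rfl, rfl⟩)))
    · simp only [x, dif_pos h, PresentedGroup.of, ← map_mul, ← pow_two]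
      exact PresentedGroup.one_of_mem (.inl (.inl (.inr ⟨⟨i, h⟩, hi, rfl⟩)))
    · simp only [x, dif_pos h, dif_pos (show i < k by omega), PresentedGroup.of, ← map_mul,
        ← map_pow]
      exact PresentedGroup.one_of_mem (.inl (.inr ⟨⟨i, by omega⟩, ⟨i + 1, h⟩, rfl, rfl⟩))
    · simp only [x, dif_pos hj, dif_pos (show i < k by omega), PresentedGroup.of, ← map_mul,
        ← map_pow]
      exact PresentedGroup.one_of_mem (.inr ⟨⟨i, by omega⟩, ⟨j, hj⟩, (by simp only; omega), rfl⟩)
  have htop : gen x k = ⊤ := by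
    rw [eq_top_iff, ← PresentedGroup.closure_range_of (rels k), Subgroup.closure_le]
    rintro _ ⟨i, rfl⟩
    have := mem_gen (s := x) i.isLt
    simpa [x] using this
  obtain ⟨hf, hc⟩ := gen_bound k hx
  rw [htop] at hf hc
  have : Finite (PresentedGroup (rels k)) := Finite.of_equiv _ Subgroup.topEquiv.toEquiv
  rw [Subgroup.card_top] at hc
  have hr : 2 * Nat.card (toPermAlt k).range = (k + 2).factorial := by
    rw [range_toPermAlt, Nat.card_eq_fintype_card, two_mul_card_alternatingGroup,
      Fintype.card_perm, Fintype.card_fin]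
  have hb := (toPermAlt k).rangeRestrict_surjective.bijective_of_nat_card_le (by omega)
  exact MonoidHom.rangeRestrict_injective_iff.1 hb.1

/-- Moore's presentation. -/
noncomputable def presentedAltEquiv (k : ℕ) :
    PresentedGroup (rels k) ≃* alternatingGroup (Fin (k + 2)) :=
  (MonoidHom.ofInjective (toPermAlt_injective k)).trans
    (MulEquiv.subgroupCongr (range_toPermAlt k))

end Cfsg.Agent.Lib.Spectrum.CoxeterAlt
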