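import Cfsg.Agent.Lib.Spectrum.HuppertStructure

/-!
# Fixed spaces in primitive soluble linear groups

For a primitive irreducible group every normal abelian subgroup spans a field; this forces
`dim Fix g ≤ 3n/4` in the soluble case.
-/

set_option autoImplicit false
set_option linter.unusedSectionVars false
set_option linter.style.haveILetI false

namespace Cfsg.Agent.Lib.Spectrum.PrimitiveSoluble

open Module

variable {F : Type*} [Field F] {V : Type*} [AddCommGroup V] [Module F V] [Finite V]
variable {G : Type*} [Group G] [Finite G] (e : G →* Module.End F V)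

theorem apply_inv_self (g : G) (v : V) : e g (e g⁻¹ v) = v := by
  rw [← Module.End.mul_apply, ← map_mul, mul_inv_cancel, map_one, Module.End.one_apply]

theorem inv_apply_self (g : G) (v : V) : e g⁻¹ (e g v) = v := by
  rw [← Module.End.mul_apply, ← map_mul, inv_mul_cancel, map_one, Module.End.one_apply]

theorem inj (g : G) : Function.Injective (e g) := fun a b h => by
  rw [← inv_apply_self e g a, h, inv_apply_self]

/-- The subring generated by `A`. -/
def span (A : Subgroup G) : Subring (Module.End F V) := Subring.closure (e '' (A : Set G))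

theorem span_comm {A : Subgroup G} (hA : ∀ a ∈ A, ∀ b ∈ A, a * b = b * a)
    {r s : Module.End F V} (hr : r ∈ span e A) (hs : s ∈ span e A) : Commute r s := by
  induction hr using Subring.closure_induction with
  | mem x hx =>
    obtain ⟨a, ha, rfl⟩ := hx
    induction hs using Subring.closure_induction with
    | mem y hy =>
      obtain ⟨b, hb, rfl⟩ := hy
      show e a * e b = e b * e a
      rw [← map_mul, ← map_mul, hA a ha b hb]
    | zero => exact Commute.zero_right _
    | one => exact Commute.one_right _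
    | add x y _ _ hx hy => exact hx.add_right hy
    | neg x _ hx => exact hx.neg_right
    | mul x y _ _ hx hy => exact hx.mul_right hy
  | zero => exact Commute.zero_left _
  | one => exact Commute.one_left _
  | add x y _ _ hx hy => exact hx.add_left hy
  | neg x _ hx => exact hx.neg_left
  | mul x y _ _ hx hy => exact hx.mul_left hy

theorem conj_mem_span {A : Subgroup G} (hA : A.Normal) (g : G) {r : Module.End F V}
    (hr : r ∈ span e A) : e g * r * e g⁻¹ ∈ span e A := by
  have hgg' : e g * e g⁻¹ = 1 := by rw [← map_mul, mul_inv_cancel, map_one]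
  have hgg : e g⁻¹ * e g = 1 := by rw [← map_mul, inv_mul_cancel, map_one]
  induction hr using Subring.closure_induction with
  | mem x hx =>
    obtain ⟨a, ha, rfl⟩ := hx
    rw [← map_mul, ← map_mul]
    exact Subring.subset_closure ⟨_, hA.conj_mem a ha g, rfl⟩
  | zero => simp
  | one => rw [mul_one, hgg']; exact one_mem _
  | add x y _ _ hx hy => rw [mul_add, add_mul]; exact add_mem hx hy
  | neg x _ hx => rw [mul_neg, neg_mul]; exact neg_mem hx
  | mul x y _ _ hx hy =>
    have : e g * (x * y) * e g⁻¹ = (e g * x * e g⁻¹) * (e g * y * e g⁻¹) := by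
      simp only [mul_assoc]
      rw [← mul_assoc (e g⁻¹) (e g), hgg, one_mul]
    rw [this]; exact mul_mem hx hy

variable [Nontrivial V]

/-- For a primitive irreducible group the span of a normal abelian subgroup has no nonzero
element with a nonzero kernel. -/
theorem eq_zero_of_apply_eq_zero
    (hirr : ∀ W : Submodule F V, (∀ g, ∀ w ∈ W, e g w ∈ W) → W = ⊥ ∨ W = ⊤)
    (hprim : ∀ (t m : ℕ) (D : Fin t → Submodule F V), 2 ≤ t → 0 < m →
      (∀ i, finrank F (D i) = m) → iSupIndep D → iSup D = ⊤ →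
      ¬ ∀ g : G, ∃ σ : Equiv.Perm (Fin t), ∀ i, (D i).map (e g) = D (σ i))
    {A : Subgroup G} (hA : A.Normal) (hAc : ∀ a ∈ A, ∀ b ∈ A, a * b = b * a)
    {r : Module.End F V} (hr : r ∈ span e A) {v : V} (hv : v ≠ 0) (h0 : r v = 0) : r = 0 := by
  classical
  haveI : Finite (Module.End F V) :=
    Finite.of_injective (fun f => (f : V → V)) DFunLike.coe_injective
  haveI : Finite (Submodule F V) :=
    Finite.of_injective (fun W => (W : Set V)) SetLike.coe_injective
  haveI : Module.Finite F V := Module.Finite.of_finite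
  obtain ⟨W, ⟨hW0, hWinv⟩, hWmin⟩ := Set.Finite.exists_minimal
    (s := {W : Submodule F V | W ≠ ⊥ ∧ ∀ x ∈ span e A, ∀ w ∈ W, x w ∈ W}) (Set.toFinite _)
    ⟨⊤, top_ne_bot, fun _ _ _ _ => Submodule.mem_top⟩
  -- the annihilator of `W` and its common kernel
  let M : Set (Module.End F V) := {x | x ∈ span e A ∧ ∀ w ∈ W, x w = 0}
  let D₀ : Submodule F V := ⨅ x ∈ M, LinearMap.ker x
  have hD₀ : ∀ u, u ∈ D₀ ↔ ∀ x ∈ M, x u = 0 := fun u => by
    simp [D₀, Submodule.mem_iInf, LinearMap.mem_ker]
  have hWD : W ≤ D₀ := fun w hw => (hD₀ w).2 fun x hx => hx.2 w hw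
  have hinj : ∀ x ∈ span e A, x ∉ M → ∀ u ∈ D₀, x u = 0 → u = 0 := by
    intro x hx hxM u hu hxu
    obtain ⟨w₀, hw₀, hxw₀⟩ : ∃ w ∈ W, x w ≠ 0 := by
      by_contra hall; push Not at hall; exact hxM ⟨hx, hall⟩
    have hker : ∀ w ∈ W, x w = 0 → w = 0 := by
      have hle : W ⊓ LinearMap.ker x = ⊥ := by
        by_contra hne
        have hinv : ∀ y ∈ span e A, ∀ w ∈ W ⊓ LinearMap.ker x, y w ∈ W ⊓ LinearMap.ker x := by
          intro y hy w hw
          refine ⟨hWinv y hy w hw.1, ?_⟩
          show x (y w) = 0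
          rw [← Module.End.mul_apply, (span_comm e hAc hx hy).eq, Module.End.mul_apply,
            show x w = 0 from hw.2, map_zero]
        exact hxw₀ ((hWmin ⟨hne, hinv⟩ inf_le_left hw₀).2)
      intro w hw hxw
      have : w ∈ W ⊓ LinearMap.ker x := ⟨hw, hxw⟩
      rwa [hle, Submodule.mem_bot] at this
    let p : W → W := fun w => ⟨x w, hWinv x hx w w.2⟩
    have hp : Function.Injective p := fun a b h => by
      have h1 : x ((a : V) - b) = 0 := by rw [map_sub, sub_eq_zero]; exact congrArg Subtype.val h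
      exact Subtype.ext (sub_eq_zero.1 (hker _ (W.sub_mem a.2 b.2) h1))
    haveI : Fintype W := Fintype.ofFinite W
    let σ : Equiv.Perm W := Equiv.ofBijective p ⟨hp, Finite.injective_iff_surjective.1 hp⟩
    have hpow : ∀ (n : ℕ) (w : W), ((σ ^ n) w : V) = (x ^ n) w := by
      intro n
      induction n with
      | zero => intro w; rfl
      | succ n ih =>
        intro w
        rw [pow_succ', pow_succ', Equiv.Perm.mul_apply, Module.End.mul_apply, ← ih]
        rfl
    obtain ⟨N, hN, hNσ⟩ := isOfFinOrder_iff_pow_eq_one.1 (isOfFinOrder_of_finite σ)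
    have hmem : x ^ N - 1 ∈ M := by
      refine ⟨sub_mem (pow_mem hx N) (one_mem _), fun w hw => ?_⟩
      have := hpow N ⟨w, hw⟩
      rw [hNσ] at this
      rw [LinearMap.sub_apply, Module.End.one_apply, ← this]
      exact sub_self w
    have h1 := (hD₀ u).1 hu _ hmem
    rw [LinearMap.sub_apply, Module.End.one_apply, sub_eq_zero] at h1
    rw [← h1, show N = (N - 1) + 1 by omega, pow_succ, Module.End.mul_apply, hxu, map_zero]
  let S : Finset (Submodule F V) := (Set.toFinite (Set.range fun g => D₀.map (e g))).toFinset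
  have hS : ∀ D, D ∈ S ↔ ∃ g, D₀.map (e g) = D := fun D => by simp [S]
  have hDg : ∀ g u, u ∈ D₀.map (e g) ↔ e g⁻¹ u ∈ D₀ := by
    intro g u
    constructor
    · rintro ⟨w, hw, rfl⟩; rwa [inv_apply_self]
    · intro h; exact ⟨_, h, apply_inv_self e g u⟩
  -- separation of two different members
  have hsep : ∀ g h, D₀.map (e g) ≠ D₀.map (e h) →
      ∃ x ∈ span e A, (∀ u ∈ D₀.map (e g), x u = 0) ∧ ∀ u ∈ D₀.map (e h), x u = 0 → u = 0 := by
    intro g h hne
    obtain ⟨x, hx, hxh⟩ : ∃ x, (e g⁻¹ * x * e g ∈ M) ∧ ¬ (e h⁻¹ * x * e h ∈ M) := by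
      by_contra hall
      push Not at hall
      -- then the conjugation by `h⁻¹ g` maps `M` onto itself
      set k := h⁻¹ * g with hk
      have hMk : ∀ m ∈ M, e k * m * e k⁻¹ ∈ M := by
        intro m hm
        have h1 : e g⁻¹ * (e g * m * e g⁻¹) * e g = m := by
          simp only [mul_assoc]
          rw [← mul_assoc (e g⁻¹) (e g), ← map_mul, inv_mul_cancel, map_one, one_mul, mul_one]
        have h2 := hall (e g * m * e g⁻¹) (by rw [h1]; exact hm)
        rw [hk, map_mul, mul_inv_rev, inv_inv, map_mul]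
        simpa only [mul_assoc] using h2
      have hMfin : M.Finite := Set.toFinite _
      apply hne
      have hinjk : Set.InjOn (fun m => e k * m * e k⁻¹) M := by
        intro a _ b _ hab
        have := congrArg (fun z => e k⁻¹ * z * e k) hab
        simp only [← mul_assoc] at this
        simpa [mul_assoc, ← map_mul, ← mul_assoc (e k⁻¹) (e k)] using this
      haveI : Finite M := hMfin.to_subtype
      have hsurjk : ∀ m ∈ M, ∃ m' ∈ M, e k * m' * e k⁻¹ = m := by
        intro m hm
        obtain ⟨⟨m', hm'⟩, hh⟩ := (Finite.injective_iff_surjective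
          (f := fun a : M => (⟨_, hMk a a.2⟩ : M))).1
          (fun a b hab => Subtype.ext (hinjk a.2 b.2 (congrArg Subtype.val hab))) ⟨m, hm⟩
        exact ⟨m', hm', congrArg Subtype.val hh⟩
      have hDk : ∀ u, e k u ∈ D₀ ↔ u ∈ D₀ := by
        intro u
        rw [hD₀, hD₀]
        constructor
        · intro hu m hm
          have := hu _ (hMk m hm)
          rw [Module.End.mul_apply, Module.End.mul_apply, inv_apply_self] at this
          exact inj e k (this.trans (map_zero _).symm)
        · intro hu m hm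
          obtain ⟨m', hm', rfl⟩ := hsurjk m hm
          rw [Module.End.mul_apply, Module.End.mul_apply, inv_apply_self, hu m' hm', map_zero]
      ext u
      rw [hDg, hDg, ← hDk (e g⁻¹ u), hk, map_mul, Module.End.mul_apply, apply_inv_self]
    have hback : e g * (e g⁻¹ * x * e g) * e g⁻¹ = x := by
      simp only [mul_assoc]
      rw [← map_mul, mul_inv_cancel, map_one, mul_one, ← mul_assoc, ← map_mul, mul_inv_cancel,
        map_one, one_mul]
    have hxR : x ∈ span e A := hback ▸ conj_mem_span e hA g hx.1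
    refine ⟨x, hxR, fun u hu => ?_, fun u hu hxu => ?_⟩
    · have := (hD₀ _).1 ((hDg g u).1 hu) _ hx
      rw [Module.End.mul_apply, Module.End.mul_apply, apply_inv_self] at this
      exact inj e g⁻¹ (this.trans (map_zero _).symm)
    · refine inj e h⁻¹ (Eq.trans ?_ (map_zero _).symm)
      refine hinj _ ?_ hxh _ ((hDg h u).1 hu) ?_
      · have := conj_mem_span e hA h⁻¹ hxR
        rwa [inv_inv] at this
      · rw [Module.End.mul_apply, Module.End.mul_apply, apply_inv_self, hxu, map_zero]
  -- the members are independent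
  let D : Fin S.card → Submodule F V := fun i => (S.equivFin.symm i).1
  have hDS : ∀ i, ∃ g, D₀.map (e g) = D i := fun i => (hS _).1 (S.equivFin.symm i).2
  have hDinj : Function.Injective D := fun i j h => S.equivFin.symm.injective (Subtype.ext h)
  have hkill : ∀ i, ∀ T : Finset (Fin S.card), i ∉ T → ∃ x ∈ span e A,
      (∀ j ∈ T, ∀ u ∈ D j, x u = 0) ∧ ∀ u ∈ D i, x u = 0 → u = 0 := by
    intro i T
    induction T using Finset.induction with
    | empty => intro _; exact ⟨1, one_mem _, by simp, fun u _ h => by simpa using h⟩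
    | insert j T hj ih =>
      intro hi
      rw [Finset.mem_insert, not_or] at hi
      obtain ⟨x, hx, hxT, hxi⟩ := ih hi.2
      obtain ⟨g, hg⟩ := hDS j
      obtain ⟨h, hh⟩ := hDS i
      obtain ⟨y, hy, hyj, hyi⟩ := hsep g h (by rw [hg, hh]; exact fun he => hi.1 (hDinj he).symm)
      rw [hg] at hyj
      rw [hh] at hyi
      refine ⟨x * y, mul_mem hx hy, fun l hl u hu => ?_, fun u hu hxy => ?_⟩
      · rcases Finset.mem_insert.1 hl with rfl | hl
        · rw [Module.End.mul_apply, hyj u hu, map_zero]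
        · rw [(span_comm e hAc hx hy).eq, Module.End.mul_apply, hxT l hl u hu, map_zero]
      · refine hyi u hu (hxi _ ?_ hxy)
        -- `y` preserves `D i`
        obtain ⟨w, hw, rfl⟩ := hh ▸ hu
        rw [← hh, hDg]
        refine (hD₀ _).2 fun m hm => ?_
        have hy' : e h⁻¹ * y * e h ∈ span e A := by
          have := conj_mem_span e hA h⁻¹ hy
          rwa [inv_inv] at this
        show m ((e h⁻¹ * y * e h) w) = 0
        rw [← Module.End.mul_apply, (span_comm e hAc hm.1 hy').eq, Module.End.mul_apply,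
          (hD₀ w).1 hw m hm, map_zero]
  have hind : iSupIndep D := by
    intro i
    rw [Submodule.disjoint_def]
    intro u hu hu'
    obtain ⟨x, -, hxT, hxi⟩ := hkill i (Finset.univ.erase i) (Finset.notMem_erase i _)
    refine hxi u hu ?_
    have : (⨆ (j : Fin S.card) (_ : j ≠ i), D j) ≤ LinearMap.ker x :=
      iSup₂_le fun j hj w hw => hxT j (Finset.mem_erase.2 ⟨hj, Finset.mem_univ _⟩) w hw
    exact this hu'
  have hperm : ∀ g : G, ∀ i, ∃ j, (D i).map (e g) = D j := by
    intro g i
    obtain ⟨h, hh⟩ := hDS i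
    have hmem : D₀.map (e (g * h)) ∈ S := (hS _).2 ⟨_, rfl⟩
    refine ⟨S.equivFin ⟨_, hmem⟩, ?_⟩
    rw [← hh]
    show _ = (S.equivFin.symm _).1
    rw [Equiv.symm_apply_apply, ← Submodule.map_comp]
    show _ = Submodule.map (e (g * h)) D₀
    rw [map_mul]
    rfl
  have hD₀0 : D₀ ≠ ⊥ := fun h => hW0 (eq_bot_iff.2 (h ▸ hWD))
  have htop : iSup D = ⊤ := by
    refine (hirr _ fun g w hw => ?_).resolve_left ?_
    · have : (iSup D).map (e g) ≤ iSup D := by
        rw [Submodule.map_iSup]
        refine iSup_le fun i => ?_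
        obtain ⟨j, hj⟩ := hperm g i
        rw [hj]
        exact le_iSup D j
      exact this (Submodule.mem_map_of_mem hw)
    · intro h
      obtain ⟨i, hi⟩ : ∃ i, D i = D₀.map (e 1) :=
        ⟨S.equivFin ⟨_, (hS _).2 ⟨1, rfl⟩⟩, by simp [D]⟩
      have hbot : D i = ⊥ := eq_bot_iff.2 (h ▸ le_iSup D i)
      rw [hi, map_one, Module.End.one_eq_id, Submodule.map_id] at hbot
      exact hD₀0 hbot
  by_cases hcard : 2 ≤ S.card
  · exfalso
    refine hprim S.card (finrank F D₀) D hcard ?_ (fun i => ?_) hind htop fun g => ?_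
    · exact Nat.pos_of_ne_zero fun h => hD₀0 (Submodule.finrank_eq_zero.1 h)
    · obtain ⟨h, hh⟩ := hDS i
      rw [← hh]
      exact (Submodule.equivMapOfInjective (e h) (inj e h) D₀).finrank_eq.symm
    · choose σ hσ using hperm g
      have hinjσ : Function.Injective σ := fun i j hij => hDinj
        (Submodule.map_injective_of_injective (inj e g) ((hσ i).trans (hij ▸ (hσ j).symm)))
      exact ⟨Equiv.ofBijective σ ⟨hinjσ, Finite.injective_iff_surjective.1 hinjσ⟩, hσ⟩
  -- a single member: `D₀` is the whole space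
  have h1 : D₀.map (e 1) = ⊤ := by
    rw [← htop]
    refine le_antisymm ?_ (iSup_le fun i => ?_)
    · obtain ⟨i, hi⟩ : ∃ i, D i = D₀.map (e 1) :=
        ⟨S.equivFin ⟨_, (hS _).2 ⟨1, rfl⟩⟩, by simp [D]⟩
      exact hi ▸ le_iSup D i
    · have heq : (S.equivFin.symm i) = ⟨_, (hS _).2 ⟨1, rfl⟩⟩ := by
        apply Subtype.ext
        exact Finset.card_le_one.1 (by omega) _ (S.equivFin.symm i).2 _ ((hS _).2 ⟨1, rfl⟩)
      exact (congrArg Subtype.val heq).le
  rw [map_one, Module.End.one_eq_id, Submodule.map_id] at h1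
  by_contra hr0
  by_cases hrM : r ∈ M
  · refine hr0 (LinearMap.ext fun u => ?_)
    exact (hD₀ u).1 (h1 ▸ Submodule.mem_top) r hrM
  · exact hv (hinj r hr hrM v (h1 ▸ Submodule.mem_top) h0)

theorem two_mul_finrank_fix_le {g b : G} :
    2 * finrank F (Module.End.eigenspace (e g) 1) ≤
      finrank F V + finrank F (Module.End.eigenspace (e (g * b * g⁻¹ * b⁻¹)) 1) := by
  haveI : Module.Finite F V := Module.Finite.of_finite
  set X := Module.End.eigenspace (e g) 1 with hX
  set Y := X.map (e b) with hY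
  have hYc : finrank F Y = finrank F X := (Submodule.equivMapOfInjective (e b) (inj e b) X).finrank_eq.symm
  have hle : X ⊓ Y ≤ Module.End.eigenspace (e (g * b * g⁻¹ * b⁻¹)) 1 := by
    rintro u ⟨hu, w, hw, rfl⟩
    rw [SetLike.mem_coe, hX, Module.End.mem_eigenspace_iff, one_smul] at hw hu
    rw [Module.End.mem_eigenspace_iff, one_smul, show g * b * g⁻¹ * b⁻¹ = g * (b * (g⁻¹ * b⁻¹)) by
      group]
    simp only [map_mul, Module.End.mul_apply]
    rw [inv_apply_self]
    have : e g⁻¹ w = w := by conv_lhs => rw [← hw, inv_apply_self]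
    rw [this]
    exact hu
  have h1 := Submodule.finrank_sup_add_finrank_inf_eq X Y
  have h2 := Submodule.finrank_le (X ⊔ Y)
  have h3 := Submodule.finrank_mono hle
  omega

theorem fix_bound (hsol : Group.IsSolvable G) (he : Function.Injective e)
    (hirr : ∀ W : Submodule F V, (∀ g, ∀ w ∈ W, e g w ∈ W) → W = ⊥ ∨ W = ⊤)
    (hprim : ∀ (t m : ℕ) (D : Fin t → Submodule F V), 2 ≤ t → 0 < m →
      (∀ i, finrank F (D i) = m) → iSupIndep D → iSup D = ⊤ →
      ¬ ∀ g : G, ∃ σ : Equiv.Perm (Fin t), ∀ i, (D i).map (e g) = D (σ i))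
    (g : G) (hg : g ≠ 1) :
    4 * finrank F (Module.End.eigenspace (e g) 1) ≤ 3 * finrank F V := by
  classical
  haveI : Module.Finite F V := Module.Finite.of_finite
  obtain ⟨A, ⟨hA, hAc⟩, hAmax⟩ := Set.Finite.exists_maximal
    (s := {A : Subgroup G | A.Normal ∧ ∀ a ∈ A, ∀ b ∈ A, a * b = b * a}) (Set.toFinite _)
    ⟨⊥, inferInstance, fun a ha b hb => by
      rw [Subgroup.mem_bot] at ha hb; rw [ha, hb]⟩
  haveI := hA
  have hsemi : ∀ a ∈ A, a ≠ 1 → finrank F (Module.End.eigenspace (e a) 1) = 0 := by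
    intro a ha ha1
    rw [Submodule.finrank_eq_zero, Submodule.eq_bot_iff]
    intro u hu
    by_contra hu0
    rw [Module.End.mem_eigenspace_iff, one_smul] at hu
    have := eq_zero_of_apply_eq_zero e hirr hprim hA hAc
      (r := e a - 1) (sub_mem (Subring.subset_closure ⟨a, ha, rfl⟩) (one_mem _)) hu0
      (by rw [LinearMap.sub_apply, Module.End.one_apply, hu, sub_self])
    exact ha1 (he (by rw [map_one, ← sub_eq_zero]; exact this))
  set C := Subgroup.centralizer (A : Set G) with hCdef
  haveI hC : C.Normal := Subgroup.normal_centralizer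
  have hcen : ∀ c ∈ C, ∀ a ∈ A, c * a = a * c := fun c hc a ha =>
    ((Subgroup.mem_centralizer_iff.1 hc) a ha).symm
  have hAC : A ≤ C := fun a ha => Subgroup.mem_centralizer_iff.2 fun b hb => hAc b hb a ha
  have hred : ∀ y b : G, y * b * y⁻¹ * b⁻¹ ∈ A → y * b * y⁻¹ * b⁻¹ ≠ 1 →
      2 * finrank F (Module.End.eigenspace (e y) 1) ≤ finrank F V := by
    intro y b hm h1
    have := two_mul_finrank_fix_le e (g := y) (b := b)
    rw [hsemi _ hm h1] at this
    omega
  obtain ⟨B, ⟨hB, hAB, hBC, hBcomm⟩, hBmax⟩ := Set.Finite.exists_maximal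
    (s := {B : Subgroup G | B.Normal ∧ A ≤ B ∧ B ≤ C ∧
      ∀ x ∈ B, ∀ y ∈ B, x * y * x⁻¹ * y⁻¹ ∈ A}) (Set.toFinite _)
    ⟨A, hA, le_rfl, hAC, fun x hx y hy => by
      exact A.mul_mem (A.mul_mem (A.mul_mem hx hy) (A.inv_mem hx)) (A.inv_mem hy)⟩
  haveI := hB
  haveI : (Subgroup.centralizer (B : Set G)).Normal := Subgroup.normal_centralizer
  have hcentre : ∀ x ∈ B, (∀ y ∈ B, x * y = y * x) → x ∈ A := by
    intro x hx hxy
    set Z := B ⊓ Subgroup.centralizer (B : Set G)
    have hZ : Z.Normal := by infer_instance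
    have hxZ : x ∈ Z := ⟨hx, Subgroup.mem_centralizer_iff.2 fun y hy => (hxy y hy).symm⟩
    have hAZ : A ≤ Z := fun a ha => ⟨hAB ha, Subgroup.mem_centralizer_iff.2 fun y hy =>
      hcen y (hBC hy) a ha⟩
    exact hAmax ⟨hZ, fun a ha b hb => (Subgroup.mem_centralizer_iff.1 ha.2 b hb.1).symm⟩ hAZ hxZ
  have hcentB : C ⊓ Subgroup.centralizer (B : Set G) ≤ A := by
    by_contra hne
    set D := C ⊓ Subgroup.centralizer (B : Set G) with hDdef
    have hDn : D.Normal := by infer_instance
    have hAD : A ≤ D := fun a ha => ⟨hAC ha, Subgroup.mem_centralizer_iff.2 fun y hy =>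
      hcen y (hBC hy) a ha⟩
    obtain ⟨D₁, hD₁, hAD₁, hD₁D, hD₁comm⟩ :=
      Huppert.exists_commutative_step hsol hA hDn (lt_of_le_of_ne hAD fun h => hne h.ge)
    have hcomm : ∀ x ∈ B ⊔ D₁, ∀ y ∈ B ⊔ D₁, x * y * x⁻¹ * y⁻¹ ∈ A := by
      intro x hx y hy
      haveI := hD₁
      obtain ⟨b, hb, a, ha, rfl⟩ := Subgroup.mem_sup_of_normal_right.1 hx
      obtain ⟨b', hb', a', ha', rfl⟩ := Subgroup.mem_sup_of_normal_right.1 hy
      rw [← QuotientGroup.eq_one_iff]
      have c1 := (QuotientGroup.eq_one_iff (N := A) _).2 (hBcomm b hb b' hb')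
      have c2 := (QuotientGroup.eq_one_iff (N := A) _).2 (hD₁comm a ha a' ha')
      have c3 : b * a' = a' * b := (Subgroup.mem_centralizer_iff.1 (hD₁D ha').2 b hb)
      have c4 : b' * a = a * b' := (Subgroup.mem_centralizer_iff.1 (hD₁D ha).2 b' hb')
      have e1 : Commute (b : G ⧸ A) b' := by
        simp only [QuotientGroup.mk_mul, QuotientGroup.mk_inv] at c1
        exact mul_inv_eq_iff_eq_mul.1 (mul_inv_eq_one.1 c1)
      have e2 : Commute (a : G ⧸ A) a' := by
        simp only [QuotientGroup.mk_mul, QuotientGroup.mk_inv] at c2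
        exact mul_inv_eq_iff_eq_mul.1 (mul_inv_eq_one.1 c2)
      have e3 : Commute (b : G ⧸ A) a' := congrArg (QuotientGroup.mk' A) c3
      have e4 : Commute (a : G ⧸ A) b' := (congrArg (QuotientGroup.mk' A) c4).symm
      have : Commute ((b : G ⧸ A) * a) (b' * a') :=
        (e1.mul_right e3).mul_left (e4.mul_right e2)
      simp only [QuotientGroup.mk_mul, QuotientGroup.mk_inv]
      rw [this.eq]
      group
    haveI := hD₁
    have hle : D₁ ≤ B := le_sup_right.trans (hBmax
      ⟨inferInstance, hAB.trans le_sup_left, sup_le hBC (hD₁D.trans inf_le_left), hcomm⟩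
      le_sup_left)
    refine hAD₁.not_ge fun x hx => hcentre x (hle hx) fun y hy => ?_
    exact (Subgroup.mem_centralizer_iff.1 (hD₁D hx).2 y hy).symm
  have hAbound : g ∈ A → 4 * finrank F (Module.End.eigenspace (e g) 1) ≤ 3 * finrank F V := by
    intro h; rw [hsemi g h hg]; omega
  by_cases hgC : g ∈ C
  · by_cases hgA : g ∈ A
    · exact hAbound hgA
    obtain ⟨b, hb, hgb⟩ : ∃ b ∈ B, g * b ≠ b * g := by
      by_contra hall
      push Not at hall
      exact hgA (hcentB ⟨hgC, Subgroup.mem_centralizer_iff.2 fun y hy => (hall y hy).symm⟩)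
    set y := g * b * g⁻¹ * b⁻¹ with hy
    have hy1 : y ≠ 1 := fun h => hgb (mul_inv_eq_iff_eq_mul.1 (mul_inv_eq_one.1 h))
    have hyB : y ∈ B := B.mul_mem (hB.conj_mem b hb g) (B.inv_mem hb)
    have hy2 : 2 * finrank F (Module.End.eigenspace (e y) 1) ≤ finrank F V := by
      by_cases hyA : y ∈ A
      · rw [hsemi y hyA hy1]; omega
      obtain ⟨c, hc, hyc⟩ : ∃ c ∈ B, y * c ≠ c * y := by
        by_contra hall
        push Not at hall
        exact hyA (hcentre y hyB hall)
      exact hred y c (hBcomm y hyB c hc)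
        (fun h => hyc (mul_inv_eq_iff_eq_mul.1 (mul_inv_eq_one.1 h)))
    have h5 : 2 * finrank F (Module.End.eigenspace (e g) 1) ≤
        finrank F V + finrank F (Module.End.eigenspace (e y) 1) := two_mul_finrank_fix_le e
    omega
  · obtain ⟨a, ha, hga⟩ : ∃ a ∈ A, g * a ≠ a * g := by
      by_contra hall
      push Not at hall
      exact hgC (Subgroup.mem_centralizer_iff.2 fun a ha => (hall a ha).symm)
    have h5 := hred g a (A.mul_mem (hA.conj_mem a ha g) (A.inv_mem ha))
      (fun h => hga (mul_inv_eq_iff_eq_mul.1 (mul_inv_eq_one.1 h)))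
    omega

end Cfsg.Agent.Lib.Spectrum.PrimitiveSoluble
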