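import Mathlib

/-!
# Linear groups of class two with scalar centre over a finite field

`τ : B →* End_K V` is injective, the centre of `B` acts by scalars and contains all commutators.
* `index_center_le` : `|B : Z(B)| ≤ d²`;
* `exists_root_of_prime_dvd` : primes dividing `|B : Z(B)|` divide `|K| - 1` and `d`;
* `index_center_eq_four` : in the fixed-point-free case `|B : Z(B)| = 4`;
* `count_le` : the bound coming from the noncentral elements having fixed points everywhere.
-/

set_option autoImplicit false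
set_option linter.unusedSectionVars false

namespace Cfsg.Agent.Lib.Spectrum.Huppert

open Module Finset

theorem mul_pow_sub_one_le {Q a h : ℕ} (hah : a ≤ h) (hQ : 1 ≤ Q) :
    h * (Q ^ a - 1) ≤ a * (Q ^ h - 1) := by
  induction h, hah using Nat.le_induction with
  | base => exact le_rfl
  | succ h hah ih =>
    have h1 : Q ^ a - 1 ≤ a * (Q ^ (h + 1) - Q ^ h) := by
      have hmain : ∀ b, b ≤ h → Q ^ b - 1 ≤ b * (Q ^ (h + 1) - Q ^ h) := by
        intro b
        induction b with
        | zero => intro _; simp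
        | succ b ihb =>
          intro hb
          have := ihb (by omega)
          have e : Q ^ (b + 1) - Q ^ b ≤ Q ^ (h + 1) - Q ^ h := by
            rw [pow_succ, pow_succ, ← Nat.mul_sub_one, ← Nat.mul_sub_one]
            exact Nat.mul_le_mul_right _ (Nat.pow_le_pow_right hQ (by omega))
          have e1 : 1 ≤ Q ^ b := Nat.one_le_pow _ _ hQ
          have e2 : Q ^ b ≤ Q ^ (b + 1) := Nat.pow_le_pow_right hQ (by omega)
          rw [Nat.succ_mul]
          omega
      exact hmain a hah
    have h2 : Q ^ h ≤ Q ^ (h + 1) := Nat.pow_le_pow_right hQ (by omega)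
    have h3 : 1 ≤ Q ^ h := Nat.one_le_pow _ _ hQ
    have h4 : a * (Q ^ (h + 1) - 1) = a * (Q ^ h - 1) + a * (Q ^ (h + 1) - Q ^ h) := by
      rw [← Nat.mul_add]; congr 1; omega
    rw [Nat.succ_mul, h4]
    omega

theorem mul_pow_class_two {B : Type*} [Group B] {x y c : B} (hc : c ∈ Subgroup.center B)
    (h : x * y = c * (y * x)) (n : ℕ) :
    (y * x) ^ n = y ^ n * x ^ n * c ^ (n * (n - 1) / 2) := by
  have hcc : ∀ g : B, g * c = c * g := Subgroup.mem_center_iff.1 hc
  have hxn : ∀ k : ℕ, x ^ k * y = c ^ k * (y * x ^ k) := by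
    intro k
    induction k with
    | zero => simp
    | succ k ih =>
      rw [pow_succ' x, mul_assoc x, ih, ← mul_assoc x, ((show Commute x c from hcc x).pow_right k).eq,
        mul_assoc, ← mul_assoc x y, h, pow_succ c]
      simp only [mul_assoc]
  induction n with
  | zero => simp
  | succ n ih =>
    have e : (n + 1) * (n + 1 - 1) / 2 = n * (n - 1) / 2 + n := by
      rw [← Finset.sum_range_id, ← Finset.sum_range_id, Finset.sum_range_succ]
    have hcd : ∀ (g : B) (k : ℕ), g * c ^ k = c ^ k * g := fun g k =>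
      ((show Commute g c from hcc g).pow_right k).eq
    rw [pow_succ, ih, e, pow_succ y, pow_succ x, pow_add]
    calc y ^ n * x ^ n * c ^ (n * (n - 1) / 2) * (y * x)
        = y ^ n * (x ^ n * y) * x * c ^ (n * (n - 1) / 2) := by
          simp only [mul_assoc]
          rw [← hcd (y * x)]
          simp only [mul_assoc]
      _ = y ^ n * y * (x ^ n * x) * (c ^ (n * (n - 1) / 2) * c ^ n) := by
          rw [hxn, ← hcd (y * x ^ n) n]
          simp only [mul_assoc]
          rw [hcd (c ^ (n * (n - 1) / 2)) n, ← mul_assoc (c ^ n) x, ← hcd x n, mul_assoc]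

variable {B : Type*} [Group B] [Finite B] {K : Type*} [Field K] [Finite K]
variable {V : Type*} [AddCommGroup V] [Module K V] [Finite V] [Nontrivial V]

/-- The standing hypotheses. -/
structure ClassTwoRep (τ : B →* Module.End K V) : Prop where
  inj : Function.Injective τ
  scal : ∀ z ∈ Subgroup.center B, ∃ k : K, τ z = k • (1 : Module.End K V)
  comm : ∀ x y : B, x * y * x⁻¹ * y⁻¹ ∈ Subgroup.center B

variable {τ : B →* Module.End K V} (H : ClassTwoRep τ)

theorem smul_one_inj {a b : K} (h : a • (1 : Module.End K V) = b • 1) : a = b := by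
  obtain ⟨v, hv⟩ := exists_ne (0 : V)
  exact smul_left_injective K hv (by simpa using LinearMap.congr_fun h v)

theorem inv_apply_self (b : B) (v : V) : τ b⁻¹ (τ b v) = v := by
  rw [← Module.End.mul_apply, ← map_mul, inv_mul_cancel, map_one, Module.End.one_apply]

include H

/-- Two elements commute up to a scalar. -/
theorem exists_scalar (b x : B) :
    ∃ k : K, τ (b * x * b⁻¹ * x⁻¹) = k • 1 ∧ τ b * τ x = k • (τ x * τ b) := by
  obtain ⟨k, hk⟩ := H.scal _ (H.comm b x)
  refine ⟨k, hk, ?_⟩
  have h1 : b * x = (b * x * b⁻¹ * x⁻¹) * (x * b) := by group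
  rw [← map_mul, h1, map_mul, hk, smul_mul_assoc, one_mul, map_mul]

/-- A noncentral element is moved by some scalar. -/
theorem exists_scalar_ne_one {x : B} (hx : x ∉ Subgroup.center B) :
    ∃ (b : B) (k : K), k ≠ 1 ∧ τ b * τ x = k • (τ x * τ b) := by
  obtain ⟨b, hb⟩ : ∃ b, b * x ≠ x * b := by
    by_contra hall
    push Not at hall
    exact hx (Subgroup.mem_center_iff.2 hall)
  obtain ⟨k, -, hk⟩ := exists_scalar H b x
  refine ⟨b, k, fun h1 => hb (H.inj ?_), hk⟩
  rw [map_mul, map_mul, hk, h1, one_smul]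

theorem pow_finrank_eq_one {b x : B} {k : K} (h : τ b * τ x = k • (τ x * τ b)) :
    k ^ finrank K V = 1 := by
  have h1 := congrArg LinearMap.det h
  rw [map_mul, LinearMap.det_smul, map_mul, mul_comm (LinearMap.det (τ b))] at h1
  have hu : ∀ y, LinearMap.det (τ y) ≠ 0 := by
    intro y
    refine IsUnit.ne_zero ?_
    exact (Group.isUnit y).map (LinearMap.det.comp τ)
  exact (mul_eq_right₀ (mul_ne_zero (hu x) (hu b))).1 h1.symm

/-- `|B : Z(B)| ≤ d²`. -/
theorem index_center_le : (Subgroup.center B).index ≤ finrank K V * finrank K V := by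
  classical
  let rep : B ⧸ Subgroup.center B → B := Quotient.out
  have hrep : ∀ c, (rep c : B ⧸ Subgroup.center B) = c := fun c => QuotientGroup.out_eq' c
  have hli : LinearIndependent K (fun c => τ (rep c)) := by
    rw [linearIndependent_iff']
    intro s
    induction s using Finset.induction with
    | empty => simp
    | insert a s ha ih =>
      intro g hg
      rw [Finset.sum_insert ha] at hg
      have hs : ∀ i ∈ s, g i = 0 := by
        intro i hi
        obtain ⟨b, hb⟩ : ∃ b, b * rep i * b⁻¹ * (rep i)⁻¹ ≠ b * rep a * b⁻¹ * (rep a)⁻¹ := by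
          by_contra hall
          push Not at hall
          apply ha
          have hc : (rep a)⁻¹ * rep i ∈ Subgroup.center B := by
            rw [Subgroup.mem_center_iff]
            intro b
            have e := Subgroup.mem_center_iff.1 (H.comm b (rep a))
            calc b * ((rep a)⁻¹ * rep i)
                = (b * (rep a)⁻¹ * b⁻¹) * (b * rep i * b⁻¹ * (rep i)⁻¹) * rep i * b := by group
              _ = (rep a)⁻¹ * rep i * b := by rw [hall]; group
          have : a = i := by
            rw [← hrep a, ← hrep i]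
            exact QuotientGroup.eq.2 hc
          exact this ▸ hi
        choose kf hkf1 hkf2 using fun j => exists_scalar H b (rep j)
        have hne : kf i - kf a ≠ 0 := sub_ne_zero.2 fun h => hb (H.inj (by
          rw [hkf1 i, hkf1 a, h]))
        have e1 : (∑ j ∈ s, (g j * (kf j - kf a)) • τ (rep j)) * τ b = 0 := by
          have h1 := congrArg (fun M => τ b * M) hg
          have h2 := congrArg (fun M => kf a • (M * τ b)) hg
          simp only [mul_add, Finset.mul_sum, mul_smul_comm, hkf2, smul_smul, mul_zero] at h1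
          simp only [add_mul, Finset.sum_mul, smul_mul_assoc, smul_add, Finset.smul_sum, smul_smul,
            zero_mul, smul_zero] at h2
          rw [Finset.sum_mul]
          simp only [smul_mul_assoc, mul_sub, sub_smul, sub_mul, Finset.sum_sub_distrib]
          rw [sub_eq_zero]
          have h3 := h1.trans h2.symm
          rw [mul_comm (g a) (kf a)] at h3
          have h4 := add_left_cancel h3
          rw [h4]
          exact Finset.sum_congr rfl fun j _ => by rw [mul_comm (kf a)]
        have e2 : ∑ j ∈ s, (g j * (kf j - kf a)) • τ (rep j) = 0 := by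
          have h1 := congrArg (fun M => M * τ b⁻¹) e1
          simpa [mul_assoc, ← map_mul] using h1
        exact (mul_eq_zero.1 (ih _ e2 i hi)).resolve_right hne
      intro i hi
      rcases Finset.mem_insert.1 hi with rfl | hi
      · rw [Finset.sum_eq_zero (fun j hj => by rw [hs j hj, zero_smul]), add_zero] at hg
        refine (smul_eq_zero.1 hg).resolve_right fun h0 => ?_
        obtain ⟨v, hv⟩ := exists_ne (0 : V)
        have := inv_apply_self (τ := τ) (rep i) v
        rw [h0] at this
        simp at this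
        exact hv this.symm
      · exact hs i hi
  haveI : Fintype (B ⧸ Subgroup.center B) := Fintype.ofFinite _
  have := hli.fintype_card_le_finrank
  rwa [Module.finrank_linearMap, ← Nat.card_eq_fintype_card,
    ← Subgroup.index_eq_card] at this

theorem comm_pow_eq_one {b x : B} {k : K} {r : ℕ} (hk : τ b * τ x = k • (τ x * τ b))
    (hx : x ^ r ∈ Subgroup.center B) : k ^ r = 1 := by
  have h : ∀ n : ℕ, τ b * τ (x ^ n) = k ^ n • (τ (x ^ n) * τ b) := by
    intro n
    induction n with
    | zero => simp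
    | succ n ih =>
      rw [pow_succ x, map_mul, ← mul_assoc, ih, smul_mul_assoc, mul_assoc, hk, mul_smul_comm,
        smul_smul, ← mul_assoc, pow_succ k]
  have h1 := h r
  have h2 : τ b * τ (x ^ r) = τ (x ^ r) * τ b := by
    rw [← map_mul, ← map_mul, Subgroup.mem_center_iff.1 hx b]
  rw [h2] at h1
  have h3 := congrArg (fun M => M * (τ (x ^ r * b)⁻¹)) h1
  simp only [smul_mul_assoc, ← map_mul, mul_inv_cancel, map_one] at h3
  exact smul_one_inj (h3.symm.trans (one_smul K _).symm)

/-- Primes dividing `|B : Z(B)|` give nontrivial roots of unity in `K`. -/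
theorem exists_root_of_prime_dvd {r : ℕ} (hr : r.Prime) (hdvd : r ∣ (Subgroup.center B).index) :
    ∃ k : K, k ≠ 1 ∧ k ^ r = 1 ∧ k ^ finrank K V = 1 := by
  haveI : Fact r.Prime := ⟨hr⟩
  rw [Subgroup.index_eq_card] at hdvd
  obtain ⟨c, hc⟩ := exists_prime_orderOf_dvd_card' r hdvd
  obtain ⟨x, rfl⟩ := QuotientGroup.mk_surjective c
  have hx : x ∉ Subgroup.center B := fun h => by
    rw [(QuotientGroup.eq_one_iff x).2 h, orderOf_one] at hc
    exact hr.ne_one hc.symm
  have hxr : x ^ r ∈ Subgroup.center B := by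
    rw [← QuotientGroup.eq_one_iff, QuotientGroup.mk_pow, ← hc, pow_orderOf_eq_one]
  obtain ⟨b, k, hk1, hk⟩ := exists_scalar_ne_one H hx
  exact ⟨k, hk1, comm_pow_eq_one H hk hxr, pow_finrank_eq_one H hk⟩

/-- In the fixed-point-free case an element of prime order `r` is central. -/
theorem mem_center_of_pow_eq_one
    (hsr : ∀ x ∉ Subgroup.center B, ∀ v : V, v ≠ 0 → τ x v ≠ v)
    {r : ℕ} (hr : r.Prime) {u z : B} (hz : z ∈ Subgroup.center B) (hz1 : z ≠ 1) (hzr : z ^ r = 1)
    (hu : u ^ r = 1) : u ∈ Subgroup.center B := by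
  haveI : Fact r.Prime := ⟨hr⟩
  obtain ⟨k, hk⟩ := H.scal z hz
  have hkr : k ^ r = 1 := by
    apply smul_one_inj (V := V)
    have := map_pow τ z r
    rw [hzr, map_one, hk, smul_pow, one_pow] at this
    simpa using this.symm
  have hk1 : k ≠ 1 := fun h => hz1 (H.inj (by rw [hk, h, one_smul, map_one]))
  have hrK : (r : K) ≠ 0 := by
    intro h0
    haveI := (CharP.charP_iff_prime_eq_zero hr).2 h0
    refine hk1 (sub_eq_zero.1 (pow_eq_zero_iff hr.ne_zero |>.1 ?_))
    rw [sub_pow_char, hkr, one_pow, sub_self]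
  obtain ⟨v, hv⟩ := exists_ne (0 : V)
  set S : ℕ → Module.End K V := fun i => ∑ n ∈ range r, (τ (u * z ^ i)) ^ n
  have hsum : ∑ i ∈ range r, S i v = (r : K) • v := by
    have e : ∀ i n : ℕ, (τ (u * z ^ i)) ^ n = (k ^ n) ^ i • (τ u) ^ n := by
      intro i n
      rw [map_mul, map_pow, hk, smul_pow, one_pow, mul_smul_comm, mul_one, smul_pow, ← pow_mul,
        ← pow_mul, mul_comm i]
    simp only [S, e, LinearMap.sum_apply, LinearMap.smul_apply]
    rw [Finset.sum_comm, Finset.sum_eq_single_of_mem 0 (mem_range.2 hr.pos)]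
    · simp [Finset.sum_const, ← Nat.cast_smul_eq_nsmul K]
    · intro n hn hn0
      rw [← Finset.sum_smul]
      have hne : k ^ n ≠ 1 := by
        intro h
        have hord : orderOf k = r := orderOf_eq_prime hkr hk1
        have := Nat.le_of_dvd (Nat.pos_of_ne_zero hn0) (hord ▸ orderOf_dvd_of_pow_eq_one h)
        have := mem_range.1 hn
        omega
      have hg := geom_sum_mul (k ^ n) r
      rw [← pow_mul, mul_comm n r, pow_mul, hkr, one_pow, sub_self] at hg
      rw [(mul_eq_zero.1 hg).resolve_right (sub_ne_zero.2 hne), zero_smul]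
  obtain ⟨i, hi⟩ : ∃ i, S i v ≠ 0 := by
    by_contra hall
    push Not at hall
    rw [Finset.sum_eq_zero (fun i _ => hall i), eq_comm, smul_eq_zero] at hsum
    exact hsum.elim hrK hv
  by_contra hun
  have hn : u * z ^ i ∉ Subgroup.center B := fun h =>
    hun (by simpa using (Subgroup.center B).mul_mem h ((Subgroup.center B).inv_mem
      ((Subgroup.center B).pow_mem hz i)))
  refine hsr _ hn _ hi ?_
  have hpow : τ (u * z ^ i) ^ r = 1 := by
    rw [← map_pow, (show Commute u (z ^ i) from
      (Subgroup.mem_center_iff.1 ((Subgroup.center B).pow_mem hz i) u)).mul_pow, hu, ← pow_mul,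
      mul_comm, pow_mul, hzr, one_pow, one_mul, map_one]
  have hg := mul_geom_sum (τ (u * z ^ i)) r
  rw [hpow, sub_self] at hg
  have := LinearMap.congr_fun hg v
  rwa [Module.End.mul_apply, LinearMap.sub_apply, Module.End.one_apply, LinearMap.zero_apply,
    sub_eq_zero] at this

/-- The centre is cyclic. -/
theorem isCyclic_center : IsCyclic (Subgroup.center B) := by
  choose f hf using fun z : Subgroup.center B => H.scal z.1 z.2
  have hinj : Function.Injective f := fun a b h => Subtype.ext (H.inj (by rw [hf a, hf b, h]))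
  let φ : Subgroup.center B →* K :=
    { toFun := f
      map_one' := smul_one_inj (V := V) (by rw [← hf 1, one_smul]; exact map_one τ)
      map_mul' := fun a b => smul_one_inj (V := V) (by
        rw [← hf (a * b), Subgroup.coe_mul, map_mul, hf a, hf b, smul_mul_smul_comm, one_mul]) }
  exact isCyclic_of_subgroup_isDomain φ hinj

/-- Elements with `r`th power central in a commuting pair are dependent modulo the centre. -/
theorem exists_mul_pow_mem_center
    (hsr : ∀ x ∉ Subgroup.center B, ∀ v : V, v ≠ 0 → τ x v ≠ v)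
    {r : ℕ} (hr : r.Prime) {x y z : B} (hz : z ∈ Subgroup.center B) (hz1 : z ≠ 1) (hzr : z ^ r = 1)
    (hx : x ∉ Subgroup.center B) (hxr : x ^ r ∈ Subgroup.center B)
    (hyr : y ^ r ∈ Subgroup.center B)
    (hpow : ∀ k : ℕ, (y * x ^ k) ^ r = y ^ r * (x ^ r) ^ k) :
    ∃ k : ℕ, y * x ^ k ∈ Subgroup.center B := by
  haveI : Fact r.Prime := ⟨hr⟩
  haveI := isCyclic_center H
  obtain ⟨a, ha⟩ := IsCyclic.exists_monoid_generator (α := Subgroup.center B)
  obtain ⟨i, hi⟩ := Submonoid.mem_powers_iff _ _ |>.1 (ha ⟨_, hxr⟩)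
  obtain ⟨j, hj⟩ := Submonoid.mem_powers_iff _ _ |>.1 (ha ⟨_, hyr⟩)
  replace hi : a.1 ^ i = x ^ r := congrArg Subtype.val hi
  replace hj : a.1 ^ j = y ^ r := congrArg Subtype.val hj
  have hac : ∀ (g : B) (n : ℕ), g * a.1 ^ n = a.1 ^ n * g := fun g n =>
    Subgroup.mem_center_iff.1 ((Subgroup.center B).pow_mem a.2 n) g
  have key : ∀ (w : B) (n : ℕ), r ∣ n → a.1 ^ n = w ^ r → w ∈ Subgroup.center B := by
    rintro w n ⟨t, rfl⟩ hn
    have hu : (w * (a.1 ^ t)⁻¹) ^ r = 1 := by
      rw [(show Commute w (a.1 ^ t)⁻¹ from Commute.inv_right (hac w t)).mul_pow, inv_pow, ← pow_mul,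
        mul_comm t r, hn, mul_inv_cancel]
    have := mem_center_of_pow_eq_one H hsr hr hz hz1 hzr hu
    simpa using (Subgroup.center B).mul_mem this ((Subgroup.center B).pow_mem a.2 t)
  have hir : ¬ r ∣ i := fun h => hx (key x i h hi)
  obtain ⟨k, hk⟩ : ∃ k : ℕ, r ∣ j + i * k := by
    have hi0 : (i : ZMod r) ≠ 0 := by rwa [Ne, ZMod.natCast_eq_zero_iff]
    refine ⟨(-(j : ZMod r) / i).val, ?_⟩
    rw [← ZMod.natCast_eq_zero_iff]
    push_cast
    rw [ZMod.natCast_zmod_val]
    field_simp
    ring
  exact ⟨k, key _ _ hk (by rw [pow_add, pow_mul, hj, hi, hpow])⟩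

/-- Class two power formula for a pair whose commutator has order dividing the exponent. -/
theorem mul_pow_of_commute_or_odd {r : ℕ} {x y : B} (hxr : x ^ r ∈ Subgroup.center B)
    (h : Commute x y ∨ Odd r) (k : ℕ) : (y * x ^ k) ^ r = y ^ r * (x ^ r) ^ k := by
  have hx : (x ^ k) ^ r = (x ^ r) ^ k := by rw [← pow_mul, ← pow_mul, mul_comm]
  rcases h with h | h
  · rw [((h.pow_left k).symm).mul_pow, hx]
  set w := x ^ k with hw
  set c := w * y * w⁻¹ * y⁻¹ with hcdef
  have hc : c ∈ Subgroup.center B := H.comm w y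
  obtain ⟨t, ht, ht'⟩ := exists_scalar H y w
  have hcomm : w * y = c * (y * w) := by rw [hcdef]; group
  rw [mul_pow_class_two hc hcomm, hx]
  have hwr : w ^ r ∈ Subgroup.center B := by
    rw [hw, hx]; exact (Subgroup.center B).pow_mem hxr k
  have hcr : c ^ r = 1 := by
    have e : (y * w * y⁻¹ * w⁻¹) = c⁻¹ := by rw [hcdef]; group
    apply inv_injective
    rw [← inv_pow, ← e, inv_one]
    apply H.inj
    rw [map_pow, ht, map_one, smul_pow, one_pow, comm_pow_eq_one H ht' hwr, one_smul]
  obtain ⟨m, hm⟩ := h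
  have : r * (r - 1) / 2 = r * m := by
    rw [hm, show 2 * m + 1 - 1 = 2 * m by omega, ← mul_assoc, mul_comm _ 2, mul_assoc,
      Nat.mul_div_cancel_left _ two_pos]
  rw [this, pow_mul, hcr, one_pow, mul_one]

/-- The commutator scalar is multiplicative. -/
theorem scalar_mul {b x y : B} {k l : K} (hk : τ b * τ x = k • (τ x * τ b))
    (hl : τ b * τ y = l • (τ y * τ b)) : τ b * τ (x * y) = (k * l) • (τ (x * y) * τ b) := by
  rw [map_mul, ← mul_assoc, hk, smul_mul_assoc, mul_assoc, hl, mul_smul_comm, smul_smul,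
    ← mul_assoc]

theorem scalar_pow {b x : B} {k : K} (hk : τ b * τ x = k • (τ x * τ b)) (n : ℕ) :
    τ b * τ (x ^ n) = k ^ n • (τ (x ^ n) * τ b) := by
  induction n with
  | zero => simp
  | succ n ih => rw [pow_succ x, pow_succ k]; exact scalar_mul H ih hk

theorem commute_of_scalar {b x : B} {k : K} (hk : τ b * τ x = k • (τ x * τ b)) (h1 : k = 1) :
    Commute b x := by
  apply H.inj
  rw [map_mul, map_mul, hk, h1, one_smul]

theorem scalar_unique {b x : B} {k l : K} (hk : τ b * τ x = k • (τ x * τ b))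
    (hl : τ b * τ x = l • (τ x * τ b)) : k = l := by
  have h := hk.symm.trans hl
  have h2 := congrArg (fun M => M * τ (x * b)⁻¹) h
  simp only [smul_mul_assoc, ← map_mul, mul_inv_cancel, map_one] at h2
  exact smul_one_inj h2

theorem scalar_symm {b x : B} {k : K} (hk : τ b * τ x = k • (τ x * τ b)) (hk0 : k ≠ 0) :
    τ x * τ b = k⁻¹ • (τ b * τ x) := by
  rw [hk, smul_smul, inv_mul_cancel₀ hk0, one_smul]

/-- The fixed-point-free case. -/
theorem index_center_eq_four (hne : Subgroup.center B ≠ ⊤)
    (hsr : ∀ x ∉ Subgroup.center B, ∀ v : V, v ≠ 0 → τ x v ≠ v) :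
    (Subgroup.center B).index = 4 := by
  classical
  set Z := Subgroup.center B
  have step : ∀ r : ℕ, r.Prime → ∀ x, x ∉ Z → x ^ r ∈ Z →
      ∃ b, b ^ r ∈ Z ∧ ¬ Commute b x ∧
        (∀ y, y ^ r ∈ Z → (Commute x y ∨ Odd r) → ∃ k : ℕ, y * x ^ k ∈ Z) := by
    intro r hr x hx hxr
    haveI : Fact r.Prime := ⟨hr⟩
    obtain ⟨b0, k, hk1, hk⟩ := exists_scalar_ne_one H hx
    have hkr := comm_pow_eq_one H hk hxr
    obtain ⟨z, hz, hzk⟩ : ∃ z ∈ Z, τ z = k • 1 := by
      obtain ⟨k', h', h''⟩ := exists_scalar H b0 x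
      exact ⟨_, H.comm b0 x, by rw [h', scalar_unique H hk h'']⟩
    have hz1 : z ≠ 1 := fun h => hk1 (smul_one_inj (V := V)
      (by rw [← hzk, h, map_one, one_smul]))
    have hzr : z ^ r = 1 := H.inj (by rw [map_pow, hzk, smul_pow, one_pow, hkr, one_smul, map_one])
    have hCL : ∀ y, y ^ r ∈ Z → (Commute x y ∨ Odd r) → ∃ k : ℕ, y * x ^ k ∈ Z :=
      fun y hy hcy => exists_mul_pow_mem_center H hsr hr hz hz1 hzr hx hxr hy
        (mul_pow_of_commute_or_odd H hxr hcy)
    set n := orderOf ((b0 : B ⧸ Z)) with hn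
    obtain ⟨i, u, hu, hiu⟩ := Nat.exists_eq_pow_mul_and_not_dvd
      (show n ≠ 0 from (orderOf_pos _).ne') r hr.ne_one
    refine ⟨b0 ^ u, ?_, fun hc => ?_, hCL⟩
    · by_contra hb
      -- some proper power of `b0 ^ u` of order `r` modulo the centre commutes with `x`
      have hi2 : 2 ≤ i := by
        by_contra hlt
        refine hb ?_
        rw [← QuotientGroup.eq_one_iff, QuotientGroup.mk_pow, QuotientGroup.mk_pow, ← pow_mul]
        refine orderOf_dvd_iff_pow_eq_one.1 ?_
        rw [← hn, hiu, mul_comm]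
        exact Nat.mul_dvd_mul_left _ (dvd_trans (pow_dvd_pow r (by omega : i ≤ 1)) (by rw [pow_one]))
      set y := b0 ^ (u * r ^ (i - 1)) with hy
      have hyr : y ^ r ∈ Z := by
        rw [hy, ← pow_mul, mul_assoc, ← pow_succ, show i - 1 + 1 = i by omega,
          ← QuotientGroup.eq_one_iff, QuotientGroup.mk_pow]
        exact orderOf_dvd_iff_pow_eq_one.1 (by rw [← hn, hiu, mul_comm])
      have hyx : Commute x y := by
        have e := scalar_pow H (scalar_symm H hk (fun h0 => by
          rw [h0, zero_pow hr.ne_zero] at hkr; exact zero_ne_one hkr)) (u * r ^ (i - 1))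
        refine commute_of_scalar H e ?_
        obtain ⟨j, hj⟩ : ∃ j, i - 1 = j + 1 := ⟨i - 2, by omega⟩
        rw [inv_pow, hj, pow_succ, ← mul_assoc, mul_comm _ r, pow_mul, hkr, one_pow, inv_one]
      obtain ⟨l, hl⟩ := hCL y hyr (Or.inl hyx)
      have h1 : Commute b0 (y * x ^ l) := Subgroup.mem_center_iff.1 hl b0
      have h2 : k ^ l = 1 := by
        have e1 : τ b0 * τ y = (1 : K) • (τ y * τ b0) := by
          rw [one_smul, ← map_mul, ← map_mul, hy]
          exact congrArg τ ((Commute.refl b0).pow_right _).eq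
        have e2 := scalar_mul H e1 (scalar_pow H hk l)
        have e3 : τ b0 * τ (y * x ^ l) = (1 : K) • (τ (y * x ^ l) * τ b0) := by
          rw [one_smul, ← map_mul, ← map_mul, h1.eq]
        simpa using scalar_unique H e2 e3
      have hlr : r ∣ l := (orderOf_eq_prime hkr hk1) ▸ orderOf_dvd_of_pow_eq_one h2
      obtain ⟨t, rfl⟩ := hlr
      have hyZ : y ∈ Z := by
        rw [pow_mul] at hl
        simpa using Z.mul_mem hl (Z.inv_mem (Z.pow_mem hxr t))
      rw [hy, ← QuotientGroup.eq_one_iff, QuotientGroup.mk_pow] at hyZ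
      have hd := orderOf_dvd_of_pow_eq_one hyZ
      rw [← hn, hiu, mul_comm u] at hd
      have hpos : 0 < u := Nat.pos_of_ne_zero fun h => hu (h ▸ dvd_zero r)
      have h1 := (Nat.pow_dvd_pow_iff_le_right hr.one_lt).1
        (Nat.dvd_of_mul_dvd_mul_right hpos hd)
      omega
    · have e := scalar_pow H (scalar_symm H hk (fun h0 => by
        rw [h0, zero_pow hr.ne_zero] at hkr; exact zero_ne_one hkr)) u
      have e3 : τ x * τ (b0 ^ u) = (1 : K) • (τ (b0 ^ u) * τ x) := by
        rw [one_smul, ← map_mul, ← map_mul, hc.eq]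
      have h2 := scalar_unique H e e3
      rw [inv_pow, inv_eq_one] at h2
      exact hu ((orderOf_eq_prime hkr hk1) ▸ orderOf_dvd_of_pow_eq_one h2)
  have hodd : ∀ r : ℕ, r.Prime → r ∣ Z.index → r = 2 := by
    intro r hr hd
    by_contra h2
    haveI : Fact r.Prime := ⟨hr⟩
    rw [Subgroup.index_eq_card] at hd
    obtain ⟨c, hc⟩ := exists_prime_orderOf_dvd_card' r hd
    obtain ⟨x, rfl⟩ := QuotientGroup.mk_surjective c
    have hx : x ∉ Z := fun h => by
      rw [(QuotientGroup.eq_one_iff x).2 h, orderOf_one] at hc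
      exact hr.ne_one hc.symm
    have hxr : x ^ r ∈ Z := by
      rw [← QuotientGroup.eq_one_iff, QuotientGroup.mk_pow, ← hc, pow_orderOf_eq_one]
    obtain ⟨b, hb, hbx, hCL⟩ := step r hr x hx hxr
    obtain ⟨k, hk⟩ := hCL b hb (Or.inr (hr.odd_of_ne_two h2))
    refine hbx ?_
    have h1 : Commute x (b * x ^ k) := Subgroup.mem_center_iff.1 hk x
    have h2' := h1.mul_right ((Commute.refl x).pow_right k).inv_right
    rw [mul_inv_cancel_right] at h2'
    exact h2'.symm
  have h2dvd : 2 ∣ Z.index := by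
    have hidx : Z.index ≠ 1 := fun h => hne (Subgroup.index_eq_one.1 h)
    obtain ⟨p, hp, hpd⟩ := Nat.exists_prime_and_dvd hidx
    exact hodd p hp hpd ▸ hpd
  rw [Subgroup.index_eq_card] at h2dvd
  obtain ⟨c, hc⟩ := exists_prime_orderOf_dvd_card' 2 h2dvd
  obtain ⟨x, rfl⟩ := QuotientGroup.mk_surjective c
  have hx : x ∉ Z := fun h => by
    rw [(QuotientGroup.eq_one_iff x).2 h, orderOf_one] at hc
    omega
  have hxr : x ^ 2 ∈ Z := by
    rw [← QuotientGroup.eq_one_iff, QuotientGroup.mk_pow, ← hc, pow_orderOf_eq_one]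
  obtain ⟨b, hb, hbx, hCL⟩ := step 2 Nat.prime_two x hx hxr
  -- scalars of involutory pairs are `±1`
  obtain ⟨ε, hε, hεsq⟩ : ∃ ε : K, ε ≠ 1 ∧ τ b * τ x = ε • (τ x * τ b) := by
    obtain ⟨e, -, he⟩ := exists_scalar H b x
    exact ⟨e, fun h => hbx (commute_of_scalar H he h), he⟩
  have hpm : ∀ {u v : B} {l : K}, τ u * τ v = l • (τ v * τ u) → v ^ 2 ∈ Z → l = 1 ∨ l = ε := by
    intro u v l h hv
    have h1 := sq_eq_one_iff.1 (comm_pow_eq_one H h hv)
    have h2 := (sq_eq_one_iff.1 (comm_pow_eq_one H hεsq hxr)).resolve_left hε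
    rwa [← h2] at h1
  have hε2 : ε * ε = 1 := by rw [← sq]; exact comm_pow_eq_one H hεsq hxr
  have hεx : τ x * τ b = ε • (τ b * τ x) := by
    rw [hεsq, smul_smul, hε2, one_smul]
  have cover : ∀ y, y ^ 2 ∈ Z → ∃ i j : ℕ, i < 2 ∧ j < 2 ∧ y * b ^ i * x ^ j ∈ Z := by
    intro y hy
    obtain ⟨l, -, hl⟩ := exists_scalar H x y
    obtain ⟨i, hi, hy1⟩ : ∃ i < 2, Commute x (y * b ^ i) := by
      rcases hpm hl hy with h | h
      · exact ⟨0, two_pos, by simpa using commute_of_scalar H hl h⟩
      · refine ⟨1, one_lt_two, commute_of_scalar H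
          (scalar_mul H hl (show τ x * τ (b ^ 1) = ε • (τ (b ^ 1) * τ x) by
            rw [pow_one]; exact hεx)) ?_⟩
        rw [h, hε2]
    have hy2 : (y * b ^ i) ^ 2 ∈ Z := by
      have hc := H.comm y (b ^ i)
      have hcomm : y * b ^ i = (y * b ^ i * y⁻¹ * (b ^ i)⁻¹) * (b ^ i * y) := by group
      have e := mul_pow_class_two (H.comm (b ^ i) y)
        (show b ^ i * y = (b ^ i * y * (b ^ i)⁻¹ * y⁻¹) * (y * b ^ i) by group) 2
      rw [e]
      refine Z.mul_mem (Z.mul_mem hy ?_) (Z.pow_mem (H.comm _ _) _)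
      rw [← pow_mul, mul_comm, pow_mul]
      exact Z.pow_mem hb i
    obtain ⟨k, hk⟩ := hCL _ hy2 (Or.inl hy1)
    refine ⟨i, k % 2, hi, Nat.mod_lt _ two_pos, ?_⟩
    have hxk : x ^ k = (x ^ 2) ^ (k / 2) * x ^ (k % 2) := by
      rw [← pow_mul, ← pow_add, Nat.div_add_mod]
    rw [hxk, ← mul_assoc, mul_assoc (y * b ^ i), ((Commute.refl x).pow_pow 2 (k % 2)
      |>.pow_left (k / 2)).eq, ← mul_assoc] at hk
    simpa using Z.mul_mem hk (Z.inv_mem (Z.pow_mem hxr (k / 2)))
  have hsq : ∀ y : B, y ^ 2 ∈ Z := by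
    have h2sq : ∀ w : B, (w ^ 2) ^ 2 ∈ Z → w ^ 2 ∈ Z := by
      intro w hw
      have hcom : ∀ c : B, c ^ 2 ∈ Z → Commute c (w ^ 2) := by
        intro c hc
        obtain ⟨l, -, hl⟩ := exists_scalar H c w
        refine commute_of_scalar H (scalar_pow H hl 2) ?_
        have hl0 : l ≠ 0 := fun h0 => by
          rw [h0, zero_smul, ← map_mul] at hl
          obtain ⟨v, hv⟩ := exists_ne (0 : V)
          have := inv_apply_self (τ := τ) (c * w) v
          rw [hl] at this
          exact hv (by simpa using this.symm)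
        have := comm_pow_eq_one H (scalar_symm H hl hl0) hc
        rwa [inv_pow, inv_eq_one] at this
      obtain ⟨i, j, hi, hj, hij⟩ := cover _ hw
      have cb : Commute b (w ^ 2 * b ^ i * x ^ j) := Subgroup.mem_center_iff.1 hij b
      have cx : Commute x (w ^ 2 * b ^ i * x ^ j) := Subgroup.mem_center_iff.1 hij x
      have bw := hcom b hb
      have xw := hcom x hxr
      rcases Nat.lt_succ_iff.1 hj |>.eq_or_lt with rfl | hj0
      · exfalso
        have h1 : Commute b (w ^ 2 * b ^ i) := bw.mul_right ((Commute.refl b).pow_right i)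
        have := (h1.inv_right).mul_right cb
        rw [inv_mul_cancel_left, pow_one] at this
        exact hbx this
      · obtain rfl : j = 0 := by omega
        rcases Nat.lt_succ_iff.1 hi |>.eq_or_lt with rfl | hi0
        · exfalso
          have := (xw.inv_right).mul_right cx
          rw [pow_one, pow_zero, mul_one, inv_mul_cancel_left] at this
          exact hbx this.symm
        · obtain rfl : i = 0 := by omega
          simpa using hij
    intro y
    have htwo : ∃ n, y ^ 2 ^ n ∈ Z := by
      have hP : IsPGroup 2 (B ⧸ Z) := by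
        refine IsPGroup.of_card (n := (Nat.card (B ⧸ Z)).primeFactorsList.length) ?_
        exact Nat.eq_prime_pow_of_unique_prime_dvd Nat.card_pos.ne' fun {d} hd hdd => by
          exact hodd d hd (by rw [Subgroup.index_eq_card]; exact hdd)
      obtain ⟨n, hn⟩ := hP (y : B ⧸ Z)
      exact ⟨n, by rw [← QuotientGroup.eq_one_iff, QuotientGroup.mk_pow]; exact hn⟩
    obtain ⟨n, hn⟩ := htwo
    induction n generalizing y with
    | zero => rw [pow_zero, pow_one] at hn; exact Z.pow_mem hn 2
    | succ n ih => exact h2sq y (ih (y ^ 2) (by rwa [← pow_mul, ← pow_succ']))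
  have hbij : Function.Bijective (fun p : Fin 2 × Fin 2 =>
      ((b ^ p.1.1 * x ^ p.2.1 : B) : B ⧸ Z)) := by
    constructor
    · rintro ⟨i, j⟩ ⟨i', j'⟩ h
      have cx : ∀ p q : ℕ, τ x * τ (b ^ p * x ^ q) = ε ^ p • (τ (b ^ p * x ^ q) * τ x) := by
        intro p q
        have e1 : τ x * τ (x ^ q) = (1 : K) • (τ (x ^ q) * τ x) := by
          rw [one_smul, ← map_mul, ← map_mul]; exact congrArg τ ((Commute.refl x).pow_right q).eq
        simpa using scalar_mul H (scalar_pow H hεx p) e1
      have cb : ∀ p q : ℕ, τ b * τ (b ^ p * x ^ q) = ε ^ q • (τ (b ^ p * x ^ q) * τ b) := by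
        intro p q
        have e1 : τ b * τ (b ^ p) = (1 : K) • (τ (b ^ p) * τ b) := by
          rw [one_smul, ← map_mul, ← map_mul]; exact congrArg τ ((Commute.refl b).pow_right p).eq
        simpa using scalar_mul H e1 (scalar_pow H hεsq q)
      obtain ⟨z, hz, hzz⟩ : ∃ z ∈ Z, b ^ i.1 * x ^ j.1 * z = b ^ i'.1 * x ^ j'.1 :=
        ⟨_, QuotientGroup.eq.1 h, by group⟩
      have hceq : ∀ (c : B) (k k' : K), τ c * τ (b ^ i.1 * x ^ j.1) = k • (τ (b ^ i.1 * x ^ j.1) * τ c) →
          τ c * τ (b ^ i'.1 * x ^ j'.1) = k' • (τ (b ^ i'.1 * x ^ j'.1) * τ c) → k = k' := by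
        intro c k k' hk hk'
        have e1 : τ c * τ z = (1 : K) • (τ z * τ c) := by
          rw [one_smul, ← map_mul, ← map_mul, Subgroup.mem_center_iff.1 hz c]
        have := scalar_mul H hk e1
        rw [hzz, mul_one] at this
        exact scalar_unique H this hk'
      have hp := hceq x _ _ (cx i.1 j.1) (cx i'.1 j'.1)
      have hq := hceq b _ _ (cb i.1 j.1) (cb i'.1 j'.1)
      have hinj2 : ∀ u w : Fin 2, ε ^ u.1 = ε ^ w.1 → u = w := by
        intro u w he
        fin_cases u <;> fin_cases w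
        · rfl
        · exact absurd (by simpa using he.symm) hε
        · exact absurd (by simpa using he) hε
        · rfl
      rw [hinj2 i i' hp, hinj2 j j' hq]
    · intro c
      obtain ⟨y, rfl⟩ := QuotientGroup.mk_surjective c
      obtain ⟨i, j, hi, hj, hij⟩ := cover y (hsq y)
      refine ⟨(⟨i, hi⟩, ⟨j, hj⟩), ?_⟩
      have e : ∀ w : B, (w : B ⧸ Z) * (w : B ⧸ Z) = 1 := fun w => by
        rw [← QuotientGroup.mk_mul, ← sq]; exact (QuotientGroup.eq_one_iff _).2 (hsq w)
      have h1 : (y : B ⧸ Z) * (b ^ i * x ^ j : B) = 1 := by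
        rw [← QuotientGroup.mk_mul, ← mul_assoc]; exact (QuotientGroup.eq_one_iff _).2 hij
      show ((b ^ i * x ^ j : B) : B ⧸ Z) = y
      calc ((b ^ i * x ^ j : B) : B ⧸ Z)
          = (y : B ⧸ Z) * y * (b ^ i * x ^ j : B) := by rw [e, one_mul]
        _ = y := by rw [mul_assoc, h1, mul_one]
  rw [Subgroup.index_eq_card, ← Nat.card_congr (Equiv.ofBijective _ hbij)]
  simp

/-- The counting bound when noncentral elements cover all vectors by fixed points. -/
theorem count_le {t : ℕ} (h : ℕ)
    (hcover : ∀ v : V, v ≠ 0 → ∃ x ∉ Subgroup.center B, τ x v = v)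
    (ht : ∀ (x : B), x ∉ Subgroup.center B → ∀ (k : K),
      t * finrank K (Module.End.eigenspace (τ x) k) ≤ finrank K V)
    (ht0 : 0 < t) (hh : h = finrank K V / t) :
    h * (Nat.card K ^ finrank K V - 1) ≤
      ((Subgroup.center B).index - 1) * (finrank K V * (Nat.card K ^ h - 1)) := by
  classical
  set Z := Subgroup.center B
  haveI : Fintype V := Fintype.ofFinite V
  haveI : Fintype K := Fintype.ofFinite K
  haveI : Fintype (B ⧸ Z) := Fintype.ofFinite _
  set W : B → K → Submodule K V := fun x k => Module.End.eigenspace (τ x) k with hW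
  set F : B → K → Finset V := fun x k => ((W x k : Set V).toFinset).erase 0
  have hsub : (univ : Finset V).erase 0 ⊆
      ((univ : Finset (B ⧸ Z)).erase 1).biUnion
        (fun c => (univ : Finset K).biUnion (fun k => F c.out k)) := by
    intro v hv
    obtain ⟨hv0, -⟩ := Finset.mem_erase.1 hv
    obtain ⟨x, hx, hxv⟩ := hcover v hv0
    obtain ⟨z, hz, hzx⟩ : ∃ z ∈ Z, z * x = ((x : B ⧸ Z)).out := by
      refine ⟨(x : B ⧸ Z).out * x⁻¹, ?_, by group⟩
      rw [← QuotientGroup.eq_one_iff, QuotientGroup.mk_mul, QuotientGroup.out_eq',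
        ← QuotientGroup.mk_mul, mul_inv_cancel, QuotientGroup.mk_one]
    obtain ⟨k, hk⟩ := H.scal z hz
    refine Finset.mem_biUnion.2 ⟨(x : B ⧸ Z), ?_, Finset.mem_biUnion.2 ⟨k, Finset.mem_univ _, ?_⟩⟩
    · simp only [Finset.mem_erase, Finset.mem_univ, and_true, ne_eq, QuotientGroup.eq_one_iff]
      exact hx
    · simp only [F, Finset.mem_erase, Set.mem_toFinset, SetLike.mem_coe, hW,
        Module.End.mem_eigenspace_iff]
      refine ⟨hv0, ?_⟩
      rw [← hzx, map_mul, Module.End.mul_apply, hxv, hk, LinearMap.smul_apply,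
        Module.End.one_apply]
  have hF : ∀ x k, (F x k).card = Nat.card K ^ finrank K (W x k) - 1 := by
    intro x k
    simp only [F]
    rw [Finset.card_erase_of_mem (by simp), Set.toFinset_card, ← Nat.card_eq_fintype_card]
    congr 1
    exact Module.natCard_eq_pow_finrank
  have hQ : 1 ≤ Nat.card K := Nat.card_pos
  have hrow : ∀ x ∉ Z, h * (∑ k, (F x k).card) ≤ finrank K V * (Nat.card K ^ h - 1) := by
    intro x hx
    rw [Finset.mul_sum]
    have h1 : ∀ k, h * (F x k).card ≤ finrank K (W x k) * (Nat.card K ^ h - 1) := by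
      intro k
      rw [hF]
      refine mul_pow_sub_one_le ?_ hQ
      rw [hh, Nat.le_div_iff_mul_le ht0, mul_comm]
      exact ht x hx k
    refine (Finset.sum_le_sum fun k _ => h1 k).trans ?_
    rw [← Finset.sum_mul]
    refine Nat.mul_le_mul_right _ ?_
    have hind : iSupIndep (W x) := Module.End.eigenspaces_iSupIndep (τ x)
    have hinj := hind.dfinsupp_lsum_injective
    calc ∑ k, finrank K (W x k) = finrank K (DirectSum K fun k => W x k) :=
          (Module.finrank_directSum K (fun k => W x k)).symm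
      _ ≤ finrank K V := LinearMap.finrank_le_finrank_of_injective hinj
  have hcard : ((univ : Finset V).erase 0).card = Nat.card K ^ finrank K V - 1 := by
    rw [Finset.card_erase_of_mem (Finset.mem_univ _), Finset.card_univ, ← Nat.card_eq_fintype_card]
    congr 1
    exact Module.natCard_eq_pow_finrank
  calc h * (Nat.card K ^ finrank K V - 1)
      ≤ h * ∑ c ∈ (univ : Finset (B ⧸ Z)).erase 1, ∑ k, (F c.out k).card := by
        rw [← hcard]
        exact Nat.mul_le_mul_left _ ((Finset.card_le_card hsub).trans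
          (Finset.card_biUnion_le.trans (Finset.sum_le_sum fun c _ => Finset.card_biUnion_le)))
    _ ≤ ∑ _c ∈ (univ : Finset (B ⧸ Z)).erase 1, finrank K V * (Nat.card K ^ h - 1) := by
        rw [Finset.mul_sum]
        refine Finset.sum_le_sum fun c hc => hrow _ fun hmem => (Finset.mem_erase.1 hc).1 ?_
        rw [← QuotientGroup.out_eq' c]
        exact (QuotientGroup.eq_one_iff _).2 hmem
    _ = _ := by
        rw [Finset.sum_const, Finset.card_erase_of_mem (Finset.mem_univ _), Finset.card_univ,
          ← Nat.card_eq_fintype_card, ← Subgroup.index_eq_card, smul_eq_mul]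

/-- Eigenspaces of noncentral elements are small: two translates are independent. -/
theorem eigenspace_bound {x : B} (hx : x ∉ Subgroup.center B) (k : K) :
    2 * finrank K (Module.End.eigenspace (τ x) k) ≤ finrank K V ∧
      (Odd (finrank K V) → 3 * finrank K (Module.End.eigenspace (τ x) k) ≤ finrank K V) := by
  classical
  obtain ⟨b, l, hl1, hl⟩ := exists_scalar_ne_one H hx
  have hl0 : l ≠ 0 := fun h0 => by
    have := pow_finrank_eq_one H hl
    rw [h0, zero_pow (Module.finrank_pos).ne'] at this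
    exact zero_ne_one this
  set W : K → Submodule K V := fun k => Module.End.eigenspace (τ x) k with hW
  have hb : Function.Injective (τ b) := fun u v h => by
    rw [← inv_apply_self (τ := τ) b u, h, inv_apply_self]
  have hmono : ∀ k, finrank K (W k) ≤ finrank K (W (l⁻¹ * k)) := by
    intro k
    have hmap : ∀ v ∈ W k, τ b v ∈ W (l⁻¹ * k) := by
      intro v hv
      rw [hW, Module.End.mem_eigenspace_iff] at hv ⊢
      have := LinearMap.congr_fun (scalar_symm H hl hl0) v
      simp only [Module.End.mul_apply, LinearMap.smul_apply, hv, map_smul, smul_smul] at this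
      exact this
    exact LinearMap.finrank_le_finrank_of_injective
      (f := (τ b).restrict hmap) (fun u v h => Subtype.ext (hb (congrArg Subtype.val h)))
  have hW0 : W 0 = ⊥ := by
    rw [eq_bot_iff]
    intro v hv
    rw [hW, Module.End.mem_eigenspace_iff, zero_smul] at hv
    rw [Submodule.mem_bot, ← inv_apply_self (τ := τ) x v, hv, map_zero]
  by_cases hk : k = 0
  · have : finrank K (W k) = 0 := by rw [hk, hW0, finrank_bot]
    exact ⟨by rw [show finrank K (Module.End.eigenspace (τ x) k) = 0 from this]; simp,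
      fun _ => by rw [show finrank K (Module.End.eigenspace (τ x) k) = 0 from this]; simp⟩
  haveI : Fintype K := Fintype.ofFinite K
  have hsum : ∀ S : Finset K, ∑ j ∈ S, finrank K (W j) ≤ finrank K V := by
    intro S
    have hind : iSupIndep W := Module.End.eigenspaces_iSupIndep (τ x)
    refine (Finset.sum_le_sum_of_subset (Finset.subset_univ S)).trans ?_
    calc ∑ k, finrank K (W k) = finrank K (DirectSum K fun k => W k) :=
          (Module.finrank_directSum K (fun k => W k)).symm
      _ ≤ finrank K V := LinearMap.finrank_le_finrank_of_injective hind.dfinsupp_lsum_injective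
  have hne : ∀ j, j ≠ 0 → l⁻¹ * j ≠ j := fun j hj h =>
    hl1 (inv_eq_one.1 ((mul_eq_right₀ hj).1 h))
  constructor
  · have := hsum {k, l⁻¹ * k}
    rw [Finset.sum_pair (hne k hk).symm] at this
    have := hmono k
    show 2 * finrank K (W k) ≤ _
    omega
  · intro hodd
    have hl2 : l⁻¹ * (l⁻¹ * k) ≠ k := by
      intro h
      have h2 : l ^ 2 = 1 := by
        have := (mul_eq_right₀ hk).1 (by rwa [← mul_assoc] at h)
        rw [← mul_inv, inv_eq_one] at this
        rw [sq]; exact this
      obtain ⟨m, hm⟩ := hodd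
      have := pow_finrank_eq_one H hl
      rw [hm, pow_succ, pow_mul, h2, one_pow, one_mul] at this
      exact hl1 this
    have hk1 : l⁻¹ * k ≠ 0 := mul_ne_zero (inv_ne_zero hl0) hk
    have := hsum {k, l⁻¹ * k, l⁻¹ * (l⁻¹ * k)}
    rw [Finset.sum_insert (by simp [(hne k hk).symm, hl2.symm]),
      Finset.sum_pair (hne _ hk1).symm] at this
    have := hmono k
    have := hmono (l⁻¹ * k)
    show 3 * finrank K (W k) ≤ _
    omega

end Cfsg.Agent.Lib.Spectrum.Huppert
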