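import Mathlib

/-!
# The field generated by a commutative normal subgroup of a transitive linear group
-/

set_option autoImplicit false
set_option linter.unusedSectionVars false

namespace Cfsg.Agent.Lib.Spectrum.Huppert

variable {q : ℕ} [Fact q.Prime] {V : Type*} [AddCommGroup V] [Module (ZMod q) V] [Finite V]
variable {G : Type*} [Group G] (ρ : G →* (V ≃ₗ[ZMod q] V))

/-- The representation as endomorphisms. -/
def endo : G →* Module.End (ZMod q) V where
  toFun g := (ρ g).toLinearMap
  map_one' := by rw [map_one]; rfl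
  map_mul' a b := by rw [map_mul]; rfl

@[simp] theorem endo_apply (g : G) (v : V) : endo ρ g v = ρ g v := rfl

theorem endo_injective (hρ : Function.Injective ρ) : Function.Injective (endo ρ) :=
  fun a b h => hρ (LinearEquiv.toLinearMap_injective h)

/-- The ring generated by a subgroup. -/
def spanRing (A : Subgroup G) : Subring (Module.End (ZMod q) V) :=
  Subring.closure (endo ρ '' (A : Set G))

theorem endo_mem_spanRing {A : Subgroup G} {a : G} (ha : a ∈ A) : endo ρ a ∈ spanRing ρ A :=
  Subring.subset_closure ⟨a, ha, rfl⟩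

theorem commute_spanRing {A : Subgroup G} {c : G} (hc : ∀ a ∈ A, c * a = a * c)
    {r : Module.End (ZMod q) V} (hr : r ∈ spanRing ρ A) : Commute (endo ρ c) r := by
  induction hr using Subring.closure_induction with
  | mem x hx =>
    obtain ⟨a, ha, rfl⟩ := hx
    show endo ρ c * endo ρ a = endo ρ a * endo ρ c
    rw [← map_mul, ← map_mul, hc a ha]
  | zero => exact Commute.zero_right _
  | one => exact Commute.one_right _
  | add x y _ _ hx hy => exact hx.add_right hy
  | neg x _ hx => exact hx.neg_right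
  | mul x y _ _ hx hy => exact hx.mul_right hy

theorem spanRing_comm {A : Subgroup G} (hA : ∀ a ∈ A, ∀ b ∈ A, a * b = b * a)
    {r s : Module.End (ZMod q) V} (hr : r ∈ spanRing ρ A) (hs : s ∈ spanRing ρ A) :
    Commute r s := by
  induction hr using Subring.closure_induction with
  | mem x hx =>
    obtain ⟨a, ha, rfl⟩ := hx
    exact commute_spanRing ρ (hA a ha) hs
  | zero => exact Commute.zero_left _
  | one => exact Commute.one_left _
  | add x y _ _ hx hy => exact hx.add_left hy
  | neg x _ hx => exact hx.neg_left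
  | mul x y _ _ hx hy => exact hx.mul_left hy

theorem conj_mem_spanRing {A : Subgroup G} (hA : A.Normal) (g : G)
    {r : Module.End (ZMod q) V} (hr : r ∈ spanRing ρ A) :
    endo ρ g * r * endo ρ g⁻¹ ∈ spanRing ρ A := by
  have hgg : endo ρ g⁻¹ * endo ρ g = 1 := by rw [← map_mul, inv_mul_cancel, map_one]
  have hgg' : endo ρ g * endo ρ g⁻¹ = 1 := by rw [← map_mul, mul_inv_cancel, map_one]
  induction hr using Subring.closure_induction with
  | mem x hx =>
    obtain ⟨a, ha, rfl⟩ := hx
    rw [← map_mul, ← map_mul]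
    exact endo_mem_spanRing ρ (hA.conj_mem a ha g)
  | zero => simp
  | one => rw [mul_one, hgg']; exact one_mem _
  | add x y _ _ hx hy => rw [mul_add, add_mul]; exact add_mem hx hy
  | neg x _ hx => rw [mul_neg, neg_mul]; exact neg_mem hx
  | mul x y _ _ hx hy =>
    have : endo ρ g * (x * y) * endo ρ g⁻¹ =
        (endo ρ g * x * endo ρ g⁻¹) * (endo ρ g * y * endo ρ g⁻¹) := by
      simp only [mul_assoc]
      rw [← mul_assoc (endo ρ g⁻¹) (endo ρ g), hgg, one_mul]
    rw [this]; exact mul_mem hx hy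

/-- In a transitive group nothing nonzero in the ring kills a nonzero vector. -/
theorem eq_zero_of_apply_eq_zero
    (htrans : ∀ v w : V, v ≠ 0 → w ≠ 0 → ∃ g : G, ρ g v = w)
    {A : Subgroup G} (hA : A.Normal) (hAc : ∀ a ∈ A, ∀ b ∈ A, a * b = b * a)
    {r : Module.End (ZMod q) V} (hr : r ∈ spanRing ρ A) {v : V} (hv : v ≠ 0) (h0 : r v = 0) :
    r = 0 := by
  classical
  haveI : Finite (Module.End (ZMod q) V) :=
    Finite.of_injective (fun f => (f : V → V)) DFunLike.coe_injective
  set R := spanRing ρ A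
  let Ann : V → Set (Module.End (ZMod q) V) := fun v => {r | r ∈ R ∧ r v = 0}
  have hfin : ∀ v, (Ann v).Finite := fun v => Set.toFinite _
  have hle : ∀ u w : V, u ≠ 0 → w ≠ 0 → (Ann u).ncard ≤ (Ann w).ncard := by
    intro u w hu hw
    obtain ⟨g, hg⟩ := htrans u w hu hw
    have hgg : endo ρ g⁻¹ * endo ρ g = 1 := by rw [← map_mul, inv_mul_cancel, map_one]
    refine Set.ncard_le_ncard_of_injOn (fun r => endo ρ g * r * endo ρ g⁻¹) ?_ ?_ (hfin w)
    · rintro s ⟨hs, hs0⟩
      refine ⟨conj_mem_spanRing ρ hA g hs, ?_⟩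
      have : endo ρ g⁻¹ w = u := by
        rw [← hg, ← endo_apply, ← Module.End.mul_apply, hgg, Module.End.one_apply]
      simp only [Module.End.mul_apply, this, hs0, map_zero]
    · intro x _ y _ hxy
      have := congrArg (fun M => endo ρ g⁻¹ * M * endo ρ g) hxy
      simp only [← mul_assoc, hgg, one_mul] at this
      simpa [mul_assoc, hgg] using this
  have heq : ∀ u w : V, u ≠ 0 → w ≠ 0 → Ann u ⊆ Ann w → Ann u = Ann w := fun u w hu hw h =>
    Set.eq_of_subset_of_ncard_le h (hle w u hw hu) (hfin w)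
  have hprime : ∀ s ∈ R, ∀ w : V, w ≠ 0 → s w ≠ 0 → Ann w = Ann (s w) := by
    intro s hs w hw hsw
    refine heq w (s w) hw hsw ?_
    rintro t ⟨ht, ht0⟩
    refine ⟨ht, ?_⟩
    rw [← Module.End.mul_apply, (spanRing_comm ρ hAc ht hs).eq, Module.End.mul_apply, ht0, map_zero]
  have hall : ∀ u w : V, u ≠ 0 → w ≠ 0 → Ann u = Ann w := by
    intro u w hu hw
    by_contra hne
    obtain ⟨m, hm, hmw⟩ : ∃ m ∈ Ann u, m ∉ Ann w :=
      Set.not_subset.1 fun h => hne (heq u w hu hw h)
    have huw : u + w ≠ 0 := by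
      intro h
      apply hne
      rw [add_eq_zero_iff_eq_neg] at h
      ext t
      simp [Ann, h]
    have hmw' : m w ≠ 0 := fun h => hmw ⟨hm.1, h⟩
    have hsub : Ann (u + w) ⊆ Ann w := by
      rintro t ⟨ht, ht0⟩
      refine hprime m hm.1 w hw hmw' ▸ ⟨ht, ?_⟩
      rw [← Module.End.mul_apply, (spanRing_comm ρ hAc ht hm.1).eq, Module.End.mul_apply]
      have := congrArg m ht0
      rw [map_add, map_add, map_zero, ← Module.End.mul_apply, ← (spanRing_comm ρ hAc ht hm.1).eq,
        Module.End.mul_apply, hm.2, map_zero, zero_add] at this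
      exact this
    have hsub2 : Ann (u + w) ⊆ Ann u := by
      intro t ht
      refine ⟨ht.1, ?_⟩
      have h2 := ht.2
      rw [map_add, (hsub ht).2, add_zero] at h2
      exact h2
    exact hne ((heq _ _ huw hu hsub2).symm.trans (heq _ _ huw hw hsub))
  ext w
  by_cases hw : w = 0
  · simp [hw]
  · have : r ∈ Ann w := hall v w hv hw ▸ (⟨hr, h0⟩ : r ∈ Ann v)
    exact this.2

end Cfsg.Agent.Lib.Spectrum.Huppert
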