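import Cfsg.Agent.Lib.Spectrum.HuppertArith
import Cfsg.Agent.Lib.PGroups.SLTwoThree
import Cfsg.Agent.Lib.TwoGroups.Recognition

/-! Regular solvable linear groups: normal subgroups of index two. -/

set_option autoImplicit false
set_option linter.unusedSectionVars false
set_option linter.style.haveILetI false

namespace Cfsg.Agent.Lib.Spectrum.Huppert

open Subgroup

variable {q : ℕ} [Fact q.Prime] {V : Type*} [AddCommGroup V] [Module (ZMod q) V] [Finite V]
  [Nontrivial V]
variable {G : Type*} [Group G] [Finite G] {ρ : G →* (V ≃ₗ[ZMod q] V)}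

theorem card_eq_of_regular (htrans : ∀ v w : V, v ≠ 0 → w ≠ 0 → ∃ g : G, ρ g v = w)
    (hreg : ∀ v : V, v ≠ 0 → ∀ g : G, ρ g v = v → g = 1) : Nat.card G = Nat.card V - 1 := by
  classical
  obtain ⟨v, hv⟩ := exists_ne (0 : V)
  haveI : Fintype V := Fintype.ofFinite V
  let f : G → {w : V // w ≠ 0} := fun g => ⟨ρ g v, fun h => hv ((ρ g).map_eq_zero_iff.1 h)⟩
  have hf : Function.Bijective f := by
    refine ⟨fun a b h => ?_, fun w => ?_⟩
    · have h' : ρ a v = ρ b v := congrArg Subtype.val h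
      have : ρ (b⁻¹ * a) v = v := by
        rw [map_mul, map_inv]
        show (ρ b).symm (ρ a v) = v
        rw [h']; exact (ρ b).symm_apply_apply v
      exact (inv_mul_eq_one.1 (hreg v hv _ this)).symm
    · obtain ⟨g, hg⟩ := htrans v w.1 hv w.2
      exact ⟨g, Subtype.ext hg⟩
  rw [Nat.card_congr (Equiv.ofBijective f hf), Nat.card_eq_fintype_card, Nat.card_eq_fintype_card,
    Fintype.card_subtype_compl, Fintype.card_subtype_eq]

theorem semilinear_index_two (hq : q ≠ 2) (htrans : ∀ v w : V, v ≠ 0 → w ≠ 0 → ∃ g : G, ρ g v = w)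
    (h : IsSemilinear ρ) : ∃ N : Subgroup G, N.Normal ∧ N.index = 2 := by
  classical
  obtain ⟨F, _, _, e, he⟩ := h
  set a : G → F := fun g => e (ρ g (e.symm 1)) with ha
  choose a' σ hσ using he
  have haa : ∀ g, a' g = a g := fun g => by
    rw [ha]
    simp only
    rw [hσ g (e.symm 1), AddEquiv.apply_symm_apply, map_one, mul_one]
  have key : ∀ g v, e (ρ g v) = a g * σ g (e v) := fun g v => by rw [← haa]; exact hσ g v
  have hchar : ringChar F ≠ 2 := by
    intro h2
    have h0 : ((q : ℕ) : F) = 0 := by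
      have h1 := congrArg e (show q • (e.symm (1 : F)) = 0 by
        rw [← Nat.cast_smul_eq_nsmul (ZMod q), ZMod.natCast_self, zero_smul])
      rwa [map_nsmul, map_zero, AddEquiv.apply_symm_apply, nsmul_one] at h1
    have := ringChar.dvd h0
    rw [h2] at this
    exact hq ((Nat.prime_dvd_prime_iff_eq Nat.prime_two Fact.out).1 this).symm
  have hχσ : ∀ g x, quadraticChar F (σ g x) = quadraticChar F x := by
    intro g x
    have hsq : IsSquare (σ g x) ↔ IsSquare x :=
      ⟨fun ⟨r, hr⟩ => ⟨(σ g).symm r, (σ g).injective (by simp [hr])⟩,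
        fun ⟨r, hr⟩ => ⟨σ g r, by rw [hr, map_mul]⟩⟩
    simp only [quadraticChar_apply, quadraticCharFun, map_eq_zero_iff _ (σ g).injective]
    split_ifs <;> simp_all
  let θ : G →* ℤ :=
    { toFun := fun g => quadraticChar F (a g)
      map_one' := by simp [ha]
      map_mul' := fun g h => by
        have : a (g * h) = a g * σ g (a h) := by
          rw [ha]
          simp only
          rw [map_mul]
          exact key g _
        rw [this, map_mul, hχσ] }
  obtain ⟨c, hc⟩ := quadraticChar_exists_neg_one hchar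
  have hc0 : c ≠ 0 := by rintro rfl; simp at hc
  obtain ⟨g, hg⟩ := htrans (e.symm 1) (e.symm c) (by simp) (by simp [hc0])
  have hsurj : Function.Surjective θ.toHomUnits := by
    intro u
    rcases Int.units_eq_one_or u with rfl | rfl
    · exact ⟨1, map_one _⟩
    · refine ⟨g, Units.ext ?_⟩
      rw [MonoidHom.coe_toHomUnits]
      show quadraticChar F (e (ρ g (e.symm 1))) = -1
      rw [hg, AddEquiv.apply_symm_apply, hc]
  refine ⟨θ.toHomUnits.ker, inferInstance, ?_⟩
  rw [Subgroup.index_ker, MonoidHom.range_eq_top_of_surjective _ hsurj, Subgroup.card_top,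
    Nat.card_eq_fintype_card, Fintype.card_units_int]

theorem involution_unique (hρ : Function.Injective ρ)
    (hreg : ∀ v : V, v ≠ 0 → ∀ g : G, ρ g v = v → g = 1) {u w : G}
    (hu : u * u = 1) (hu1 : u ≠ 1) (hw : w * w = 1) (hw1 : w ≠ 1) : u = w := by
  have neg : ∀ x : G, x * x = 1 → x ≠ 1 → ∀ v, ρ x v = -v := by
    intro x hx hx1 v
    by_contra hne
    have hs : ρ x v + v ≠ 0 := fun h => hne (eq_neg_of_add_eq_zero_left h)
    refine hx1 (hreg _ hs x ?_)
    have : ρ x (ρ x v) = v := by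
      have h := congrArg (fun f => f v) (congrArg ρ hx)
      rw [map_mul, map_one] at h
      exact h
    rw [map_add, this, add_comm]
  exact hρ (LinearEquiv.ext fun v => by rw [neg u hu hu1, neg w hw hw1])

/-- A group of order 8 with one involution which is not abelian is quaternion. -/
theorem quaternion_of_card_eight {P : Type*} [Group P] [Finite P] (h8 : Nat.card P = 8)
    (huniq : ∀ u w : P, u * u = 1 → u ≠ 1 → w * w = 1 → w ≠ 1 → u = w)
    (hnc : ∃ x y : P, x * y ≠ y * x) : Nonempty (P ≃* QuaternionGroup 2) := by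
  haveI : Fact (Nat.Prime 2) := ⟨Nat.prime_two⟩
  have hord : ∀ x : P, orderOf x = 1 ∨ orderOf x = 2 ∨ orderOf x = 4 := by
    intro x
    have hd : orderOf x ∣ 2 ^ 3 := (orderOf_dvd_natCard x).trans (dvd_of_eq h8)
    obtain ⟨k, hk, hkx⟩ := (Nat.dvd_prime_pow Nat.prime_two).1 hd
    interval_cases k <;> simp at hkx
    · exact Or.inl (orderOf_eq_one_iff.2 hkx)
    · exact Or.inr (Or.inl hkx)
    · exact Or.inr (Or.inr hkx)
    · exfalso
      obtain ⟨a, b, hab⟩ := hnc
      have htop : Subgroup.zpowers x = ⊤ :=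
        Subgroup.eq_top_of_card_eq _ (by rw [Nat.card_zpowers, hkx, h8])
      obtain ⟨i, rfl⟩ := Subgroup.mem_zpowers_iff.1 (htop ▸ Subgroup.mem_top a : a ∈ zpowers x)
      obtain ⟨j, rfl⟩ := Subgroup.mem_zpowers_iff.1 (htop ▸ Subgroup.mem_top b : b ∈ zpowers x)
      exact hab ((Commute.refl x).zpow_zpow i j)
  have hinv : ∀ x : P, orderOf x = 2 → x * x = 1 ∧ x ≠ 1 := fun x hx =>
    ⟨by rw [← sq, ← hx, pow_orderOf_eq_one], fun h => by rw [h, orderOf_one] at hx; omega⟩
  obtain ⟨u, hu⟩ := exists_prime_orderOf_dvd_card' (G := P) 2 (by rw [h8]; norm_num)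
  obtain ⟨hu1, hu2⟩ := hinv u hu
  obtain ⟨a, ha⟩ : ∃ a : P, orderOf a = 4 := by
    by_contra hall
    push Not at hall
    obtain ⟨x, y, hxy⟩ := hnc
    have : ∀ z : P, z = 1 ∨ z = u := fun z => by
      rcases hord z with h | h | h
      · exact Or.inl (orderOf_eq_one_iff.1 h)
      · exact Or.inr (huniq z u (hinv z h).1 (hinv z h).2 hu1 hu2)
      · exact absurd h (hall z)
    rcases this x with rfl | rfl <;> rcases this y with rfl | rfl <;> simp at hxy
  obtain ⟨b, hb⟩ : ∃ b, b ∉ zpowers a := by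
    by_contra hall
    push Not at hall
    have := Subgroup.eq_top_iff' _ |>.2 hall
    have h := congrArg (fun H : Subgroup P => Nat.card H) this
    simp only [Nat.card_zpowers, Subgroup.card_top, ha, h8] at h
    omega
  have ha2 : orderOf (a ^ 2) = 2 := by
    rw [orderOf_pow' a two_ne_zero, ha]; decide
  have hb4 : orderOf b = 4 := by
    rcases hord b with h | h | h
    · exact absurd (orderOf_eq_one_iff.1 h ▸ one_mem _) hb
    · refine absurd ?_ hb
      rw [huniq b (a ^ 2) (hinv b h).1 (hinv b h).2 (hinv _ ha2).1 (hinv _ ha2).2]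
      exact Subgroup.pow_mem _ (Subgroup.mem_zpowers a) 2
    · exact h
  have hb2 : orderOf (b ^ 2) = 2 := by
    rw [orderOf_pow' b two_ne_zero, hb4]; decide
  have hbb : b * b = a ^ 2 := by
    rw [← sq]
    exact huniq _ _ (hinv _ hb2).1 (hinv _ hb2).2 (hinv _ ha2).1 (hinv _ ha2).2
  haveI : (zpowers a).Normal := Subgroup.normal_of_index_eq_two (by
    have h := Subgroup.card_mul_index (zpowers a)
    rw [Nat.card_zpowers, ha, h8] at h
    omega)
  have hconj := Subgroup.Normal.conj_mem inferInstance a (Subgroup.mem_zpowers a) b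
  rw [← mem_powers_iff_mem_zpowers, Submonoid.mem_powers_iff] at hconj
  obtain ⟨i, hi⟩ := hconj
  rw [← pow_mod_orderOf, ha] at hi
  have hoc : orderOf (b * a * b⁻¹) = 4 := by
    rw [← MulAut.conj_apply, MulEquiv.orderOf_eq, ha]
  rw [← hi] at hoc
  have hinv' : b * a * b⁻¹ = a⁻¹ := by
    have h4 : i % 4 < 4 := Nat.mod_lt _ (by norm_num)
    generalize i % 4 = n at hi hoc h4
    interval_cases n
    · simp at hoc
    · exfalso
      obtain ⟨x, y, hxy⟩ := hnc
      rw [pow_one, eq_mul_inv_iff_mul_eq] at hi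
      have hab : Commute a b := hi
      have hin : ∀ z : P, ∃ i : ℤ, z = a ^ i ∨ z = b * a ^ i := by
        intro z
        by_cases hz : z ∈ zpowers a
        · obtain ⟨k, hk⟩ := Subgroup.mem_zpowers_iff.1 hz
          exact ⟨k, Or.inl hk.symm⟩
        · have hidx : (zpowers a).index = 2 := by
            have h := Subgroup.card_mul_index (zpowers a)
            rw [Nat.card_zpowers, ha, h8] at h
            omega
          have hm : b⁻¹ * z ∈ zpowers a := by
            rw [Subgroup.mul_mem_iff_of_index_two hidx]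
            simp [hb, hz]
          obtain ⟨k, hk⟩ := Subgroup.mem_zpowers_iff.1 hm
          exact ⟨k, Or.inr (by rw [hk, mul_inv_cancel_left])⟩
      refine hxy ?_
      obtain ⟨k, rfl | rfl⟩ := hin x <;> obtain ⟨l, rfl | rfl⟩ := hin y
      · exact ((Commute.refl a).zpow_zpow k l).eq
      · exact ((hab.zpow_left k).mul_right ((Commute.refl a).zpow_zpow k l)).eq
      · exact (((hab.symm.zpow_right l)).mul_left ((Commute.refl a).zpow_zpow k l)).eq
      · exact (((Commute.refl b).mul_right (hab.symm.zpow_right l)).mul_left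
          ((hab.zpow_left k).mul_right ((Commute.refl a).zpow_zpow k l))).eq
    · rw [ha2] at hoc; omega
    · rw [← hi]
      refine (inv_eq_of_mul_eq_one_right ?_).symm
      rw [← pow_succ', show 3 + 1 = orderOf a by omega, pow_orderOf_eq_one]
  exact Cfsg.Agent.Lib.TwoGroups.Recognition.nonempty_quaternion (m := 2) (by rw [ha]) hbb hinv' hb
    (by rw [h8])

/-- The exceptional groups `SL(2,3)` and `SL(2,3) × C₅`. -/
theorem sl23_sub {A B : Subgroup G} [hB : B.Normal] {k : ℕ} (hk : k = 1 ∨ k = 5)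
    (hG : Nat.card G = 24 * k) (hBc : Nat.card B = 8 * k) (hA : Nat.card A = 2 * k)
    (hAB : A ≤ B) (hcen : ∀ g : G, ∀ a ∈ A, g * a = a * g)
    (hcentre : ∀ x ∈ B, (∀ y ∈ B, x * y = y * x) → x ∈ A)
    (hcentralizer : ∀ c : G, (∀ y ∈ B, c * y = y * c) → c ∈ A)
    (huniq : ∀ u w : G, u * u = 1 → u ≠ 1 → w * w = 1 → w ≠ 1 → u = w) :
    ∃ H : Subgroup G, Nat.card H = 24 ∧
      Nonempty (H ≃* Matrix.SpecialLinearGroup (Fin 2) (ZMod 3)) := by
  classical
  haveI : Fact (Nat.Prime 2) := ⟨Nat.prime_two⟩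
  haveI : Fact (Nat.Prime 3) := ⟨Nat.prime_three⟩
  let S : Sylow 2 G := default
  set P : Subgroup G := (S : Subgroup G) with hP
  have hP8 : Nat.card P = 8 := by
    rw [hP]
    change Nat.card S = 8
    rw [Sylow.card_eq_multiplicity, hG]
    rcases hk with rfl | rfl <;> norm_num [Nat.factorization_def] <;> decide +kernel
  have hBidx : B.index = 3 := by
    have h := Subgroup.card_mul_index B
    rw [hBc, hG] at h
    rcases hk with rfl | rfl <;> omega
  have hPB : P ≤ B := by
    intro x hx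
    rw [← QuotientGroup.eq_one_iff]
    rw [← orderOf_eq_one_iff]
    have h1 : orderOf (x : G ⧸ B) ∣ 8 := by
      refine (orderOf_map_dvd (QuotientGroup.mk' B) x).trans ?_
      rw [← hP8, ← Subgroup.orderOf_mk x hx]
      exact orderOf_dvd_natCard _
    have h2 : orderOf (x : G ⧸ B) ∣ 3 := by
      rw [← hBidx, Subgroup.index_eq_card]; exact orderOf_dvd_natCard _
    have := Nat.dvd_gcd h1 h2
    simpa using this
  have hBPA : ∀ b ∈ B, ∃ p ∈ P, ∃ a ∈ A, b = p * a := by
    intro b hb
    haveI hAn : A.Normal := ⟨fun a ha g => by rw [hcen g a ha, mul_inv_cancel_right]; exact ha⟩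
    have hle : P ⊔ A ≤ B := sup_le hPB hAB
    have h1 : 8 ∣ Nat.card (P ⊔ A : Subgroup G) := hP8 ▸ Subgroup.card_dvd_of_le le_sup_left
    have h2 : 2 * k ∣ Nat.card (P ⊔ A : Subgroup G) := hA ▸ Subgroup.card_dvd_of_le le_sup_right
    have h3 : 8 * k ≤ Nat.card (P ⊔ A : Subgroup G) := by
      have hpos : 0 < Nat.card (P ⊔ A : Subgroup G) := Nat.card_pos
      refine Nat.le_of_dvd hpos ?_
      rcases hk with rfl | rfl
      · exact h1
      · have := Nat.lcm_dvd h1 h2
        rwa [show Nat.lcm 8 (2 * 5) = 8 * 5 by decide] at this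
    have heq : P ⊔ A = B := Subgroup.eq_of_le_of_card_ge hle (hBc ▸ h3)
    obtain ⟨p, hp, a, ha, rfl⟩ := Subgroup.mem_sup_of_normal_right.1 (heq.symm ▸ hb : b ∈ P ⊔ A)
    exact ⟨p, hp, a, ha, rfl⟩
  have hPconj : ∀ g : G, ∀ x ∈ P, g * x * g⁻¹ ∈ P := by
    intro g x hx
    obtain ⟨p, hp, a, ha, hpa⟩ := hBPA _ (hB.conj_mem x (hPB hx) g)
    have hx8 : x ^ 8 = 1 := by
      have := pow_card_eq_one' (x := (⟨x, hx⟩ : P))
      rw [hP8] at this
      exact congrArg Subtype.val this
    have hp8 : p ^ 8 = 1 := by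
      have := pow_card_eq_one' (x := (⟨p, hp⟩ : P))
      rw [hP8] at this
      exact congrArg Subtype.val this
    have ha8 : a ^ 8 = 1 := by
      have h := congrArg (· ^ 8) hpa
      simp only [conj_pow, hx8, mul_one, mul_inv_cancel,
        (show Commute p a from hcen p a ha).mul_pow, hp8, one_mul] at h
      exact h.symm
    have ha2k : a ^ (2 * k) = 1 := by
      have := pow_card_eq_one' (x := (⟨a, ha⟩ : A))
      rw [hA] at this
      exact congrArg Subtype.val this
    have ha2 : a * a = 1 := by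
      have := pow_gcd_eq_one.2 ⟨ha8, ha2k⟩
      rw [← sq]
      rcases hk with rfl | rfl <;> simpa using this
    rw [hpa]
    refine P.mul_mem hp ?_
    by_cases ha1 : a = 1
    · rw [ha1]; exact P.one_mem
    obtain ⟨u, hu⟩ := exists_prime_orderOf_dvd_card' (G := P) 2 (by rw [hP8]; norm_num)
    have hu2 : (u : G) * u = 1 := by
      rw [← sq, ← hu, ← Subgroup.orderOf_coe, pow_orderOf_eq_one]
    have hu1 : (u : G) ≠ 1 := fun h => by
      rw [← Subgroup.orderOf_coe, h, orderOf_one] at hu; omega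
    rw [huniq a u ha2 ha1 hu2 hu1]
    exact u.2
  have hnc : ∃ x y : P, x * y ≠ y * x := by
    by_contra hall
    push Not at hall
    have hcomm : ∀ x ∈ B, ∀ y ∈ B, x * y = y * x := by
      intro x hx y hy
      obtain ⟨p, hp, a, ha, rfl⟩ := hBPA x hx
      obtain ⟨p', hp', a', ha', rfl⟩ := hBPA y hy
      have h1 : Commute p p' := congrArg Subtype.val (hall ⟨p, hp⟩ ⟨p', hp'⟩)
      exact ((h1.mul_right (hcen p a' ha')).mul_left
        ((Commute.symm (hcen p' a ha)).mul_right (hcen a a' ha'))).eq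
    have hle : B ≤ A := fun x hx => hcentre x hx (hcomm x hx)
    have := Subgroup.card_le_of_le hle
    rw [hA, hBc] at this
    rcases hk with rfl | rfl <;> omega
  obtain ⟨eQ⟩ := quaternion_of_card_eight hP8 (fun u w hu hu1 hw hw1 => Subtype.ext
    (huniq u w (congrArg Subtype.val hu) (fun h => hu1 (Subtype.ext h))
      (congrArg Subtype.val hw) (fun h => hw1 (Subtype.ext h)))) hnc
  obtain ⟨g, hg⟩ := exists_prime_orderOf_dvd_card' (G := G) 3 (by rw [hG]; exact ⟨8 * k, by ring⟩)
  let c : MulAut P :=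
    { toFun := fun x => ⟨g * x * g⁻¹, hPconj g x x.2⟩
      invFun := fun x => ⟨g⁻¹ * x * g, by simpa using hPconj g⁻¹ x x.2⟩
      left_inv := fun x => Subtype.ext (by simp [mul_assoc])
      right_inv := fun x => Subtype.ext (by simp [mul_assoc])
      map_mul' := fun x y => Subtype.ext (by simp [mul_assoc]) }
  have hcpow : ∀ (n : ℕ) (x : P), ((c ^ n) x : G) = g ^ n * x * (g ^ n)⁻¹ := by
    intro n
    induction n with
    | zero => intro x; simp
    | succ n ih =>
      intro x
      rw [pow_succ', MulAut.mul_apply]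
      show g * ((c ^ n) x : G) * g⁻¹ = _
      rw [ih, pow_succ']
      simp [mul_assoc]
  let φ : MulAut (QuaternionGroup 2) := MulAut.congr eQ c
  have hg3 : g ^ 3 = 1 := hg ▸ pow_orderOf_eq_one g
  have hc3 : c ^ 3 = 1 := MulEquiv.ext fun x => Subtype.ext (by rw [hcpow, hg3]; simp)
  have hφ3 : φ ^ 3 = 1 := by
    show (MulAut.congr eQ c) ^ 3 = 1
    rw [← map_pow, hc3, map_one]
  have hodd : Odd (orderOf φ) := by
    rcases (Nat.dvd_prime Nat.prime_three).1 (orderOf_dvd_of_pow_eq_one hφ3) with h | h <;>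
      rw [h] <;> decide
  have hφ1 : φ ≠ 1 := by
    intro h
    have hc1 : c = 1 := (MulAut.congr eQ).injective (by rw [map_one]; exact h)
    have hgA : g ∈ A := by
      refine hcentralizer g fun y hy => ?_
      obtain ⟨p, hp, a, ha, rfl⟩ := hBPA y hy
      have h1 : g * p * g⁻¹ = p := congrArg (fun f : MulAut P => ((f ⟨p, hp⟩ : P) : G)) hc1
      exact ((show Commute g p from mul_inv_eq_iff_eq_mul.1 h1).mul_right (hcen g a ha)).eq
    have := orderOf_dvd_natCard (⟨g, hgA⟩ : A)
    rw [← Subgroup.orderOf_coe, hg, hA] at this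
    rcases hk with rfl | rfl <;> norm_num at this
  obtain ⟨-, i, j, hij, hjij, hi4, hjj, hjij', hgen⟩ :=
    Cfsg.Agent.Lib.PGroups.quat_aut_odd φ hodd hφ1
  set I : G := ((eQ.symm i : P) : G) with hI
  set J : G := ((eQ.symm j : P) : G) with hJ
  set H := Subgroup.closure ({I, J, g} : Set G) with hH
  have hIH : I ∈ H := Subgroup.subset_closure (by simp)
  have hJH : J ∈ H := Subgroup.subset_closure (by simp)
  have hgH : g ∈ H := Subgroup.subset_closure (by simp)
  have hrel : Cfsg.Agent.Lib.PGroups.SLRel (⟨I, hIH⟩ : H) ⟨J, hJH⟩ ⟨g, hgH⟩ := by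
    have tr : ∀ {a b : QuaternionGroup 2}, a = b →
        ((eQ.symm a : P) : G) = ((eQ.symm b : P) : G) := fun h => by rw [h]
    have conj_eq : ∀ x, ((eQ.symm (φ x) : P) : G) = g * ((eQ.symm x : P) : G) * g⁻¹ := by
      intro x
      show ((eQ.symm (eQ (c (eQ.symm x))) : P) : G) = _
      rw [MulEquiv.symm_apply_apply]
      rfl
    refine ⟨Subtype.ext ?_, Subtype.ext ?_, Subtype.ext ?_, Subtype.ext hg3, Subtype.ext ?_,
      Subtype.ext ?_⟩
    · have := tr hi4
      simpa [map_pow] using this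
    · have := tr hjj
      simpa [map_mul] using this
    · have := tr hjij'
      simpa [map_mul, map_inv] using this
    · have h := conj_eq i
      rw [hij] at h
      simpa using h.symm
    · have h := conj_eq j
      rw [hjij, map_mul] at h
      simpa using h.symm
  have htopgen : Subgroup.closure ({(⟨I, hIH⟩ : H), ⟨J, hJH⟩, ⟨g, hgH⟩} : Set H) = ⊤ := by
    apply Subgroup.map_injective H.subtype_injective
    rw [MonoidHom.map_closure, ← MonoidHom.range_eq_map, Subgroup.range_subtype]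
    refine congrArg Subgroup.closure ?_
    ext x
    simp [eq_comm]
  have h24 : 24 ∣ Nat.card H := by
    have hPH : P ≤ H := by
      intro x hx
      obtain ⟨a, b, hab⟩ := hgen (eQ ⟨x, hx⟩)
      have : x = I ^ (a : ℕ) * J ^ (b : ℕ) := by
        have h := congrArg (fun y => ((eQ.symm y : P) : G)) hab
        simpa [map_mul, map_pow, hI, hJ] using h
      rw [this]
      exact H.mul_mem (H.pow_mem hIH _) (H.pow_mem hJH _)
    have h1 : 8 ∣ Nat.card H := hP8 ▸ Subgroup.card_dvd_of_le hPH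
    have h2 : 3 ∣ Nat.card H := by
      have := orderOf_dvd_natCard (⟨g, hgH⟩ : H)
      rwa [← Subgroup.orderOf_coe, hg] at this
    have := Nat.Coprime.mul_dvd_of_dvd_of_dvd (by norm_num : Nat.Coprime 8 3) h1 h2
    simpa using this
  obtain ⟨eH⟩ := Cfsg.Agent.Lib.PGroups.nonempty_sl_equiv hrel htopgen
    (Nat.le_of_dvd Nat.card_pos h24)
  refine ⟨H, ?_, ⟨eH⟩⟩
  rw [Nat.card_congr eH.toEquiv]
  exact Cfsg.Agent.Lib.PLocal.SLTwo.card_three

theorem regular_exceptional (hρ : Function.Injective ρ)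
    (htrans : ∀ v w : V, v ≠ 0 → w ≠ 0 → ∃ g : G, ρ g v = w)
    (hreg : ∀ v : V, v ≠ 0 → ∀ g : G, ρ g v = v → g = 1)
    {m d : ℕ} {A B C : Subgroup G} (F : Facts ρ m d A B C) :
    Nat.card V ∈ ({25, 49, 121, 529} : Set ℕ) ∧
    ((∃ N : Subgroup G, N.Normal ∧ N.index = 2) ∨
      (Nat.card V = 25 ∧ Nonempty (G ≃* Matrix.SpecialLinearGroup (Fin 2) (ZMod 3))) ∨
      (Nat.card V = 121 ∧
        Nonempty (G ≃* Matrix.SpecialLinearGroup (Fin 2) (ZMod 3) × Multiplicative (ZMod 5)))) := by
  classical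
  have h4 := F.semiregular hreg
  obtain ⟨hd, hm, hqq⟩ := F.of_four h4
  subst hd hm
  have hV := F.card_V
  rw [pow_one] at hV
  have hC : C = ⊤ := Subgroup.index_eq_one.1 (Nat.dvd_one.1 F.index_C)
  have hG := card_eq_of_regular htrans hreg
  have hBn := F.B_normal
  have hAn := F.A_normal
  have hcard := F.card_eq
  rw [Nat.dvd_one.1 F.index_C, h4, hG, hV, one_mul] at hcard
  have hA1 : 2 ≤ Nat.card A := by
    by_contra hlt
    have hbot : A = ⊥ := Subgroup.card_eq_one.1 (by have := Nat.card_pos (α := A); omega)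
    have hle : B ≤ A := fun x hx => F.centre x hx fun y hy => by
      have := F.comm x hx y hy
      rw [hbot, Subgroup.mem_bot] at this
      exact mul_inv_eq_iff_eq_mul.1 (mul_inv_eq_one.1 this)
    exact F.N_ne_one (Subgroup.relIndex_eq_one.2 hle)
  have hAdvd := F.card_A
  rw [pow_one] at hAdvd
  have hAle : Nat.card A ≤ q - 1 :=
    Nat.le_of_dvd (by rcases hqq with rfl | rfl | rfl | rfl | rfl <;> norm_num) hAdvd
  have hc6 := F.six h4
  have hcle : B.relIndex C ≤ 6 := Nat.le_of_dvd (by norm_num) hc6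
  have hcpos : 0 < B.relIndex C :=
    Nat.pos_of_ne_zero (Subgroup.index_ne_zero_of_finite (H := B.subgroupOf C))
  have hcases : (q = 5 ∧ B.relIndex C = 3 ∧ Nat.card A = 2) ∨
      (q = 11 ∧ B.relIndex C = 3 ∧ Nat.card A = 10) ∨
      (2 ∣ B.relIndex C ∧ q ≠ 3) ∨
      (q = 3 ∧ B.relIndex C = 1 ∧ Nat.card A = 2) := by
    generalize B.relIndex C = c at hcard hc6 hcle hcpos
    generalize Nat.card A = a at hcard hA1 hAdvd hAle
    rcases hqq with rfl | rfl | rfl | rfl | rfl
    all_goals interval_cases c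
    all_goals (try norm_num at hc6)
    all_goals (try norm_num at hcard)
    all_goals (try norm_num at hAdvd)
    all_goals (try norm_num at hAle)
    all_goals (try (interval_cases a))
    all_goals (try norm_num at hcard hAdvd ⊢)
    all_goals (try omega)
  have hcen : ∀ g : G, ∀ a ∈ A, g * a = a * g := fun g => F.central g (hC ▸ Subgroup.mem_top g)
  have hcent : ∀ c : G, (∀ y ∈ B, c * y = y * c) → c ∈ A :=
    fun c => F.centralizer c (hC ▸ Subgroup.mem_top c)
  have huniq := fun u w hu hu1 hw hw1 =>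
    involution_unique (ρ := ρ) hρ hreg (u := u) (w := w) hu hu1 hw hw1
  have hBcard : Nat.card B = 4 * Nat.card A := by
    rw [← Subgroup.card_mul_index (A.subgroupOf B),
      Nat.card_congr (Subgroup.subgroupOfEquivOfLe F.A_le).toEquiv,
      show (A.subgroupOf B).index = 4 from h4, mul_comm]
  rcases hcases with ⟨rfl, hc, hA⟩ | ⟨rfl, hc, hA⟩ | ⟨hc, hq3⟩ | ⟨rfl, hc, hA⟩
  · refine ⟨by rw [hV]; norm_num, Or.inr (Or.inl ⟨by rw [hV]; norm_num, ?_⟩)⟩
    obtain ⟨H, hH, ⟨eH⟩⟩ := sl23_sub (A := A) (B := B) (k := 1) (Or.inl rfl)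
      (by rw [hG, hV]; norm_num) (by rw [hBcard, hA]) (by rw [hA]) F.A_le hcen F.centre hcent huniq
    have hHt : H = ⊤ := Subgroup.eq_top_of_card_eq H (by rw [hH, hG, hV]; norm_num)
    exact ⟨(Subgroup.topEquiv.symm.trans (MulEquiv.subgroupCongr hHt.symm)).trans eH⟩
  · refine ⟨by rw [hV]; norm_num, Or.inr (Or.inr ⟨by rw [hV]; norm_num, ?_⟩)⟩
    obtain ⟨H, hH, ⟨eH⟩⟩ := sl23_sub (A := A) (B := B) (k := 5) (Or.inr rfl)
      (by rw [hG, hV]; norm_num) (by rw [hBcard, hA]) (by rw [hA]) F.A_le hcen F.centre hcent huniq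
    haveI : Fact (Nat.Prime 5) := ⟨by norm_num⟩
    obtain ⟨z, hz⟩ := exists_prime_orderOf_dvd_card' (G := A) 5 (by rw [hA]; norm_num)
    set Z := Subgroup.zpowers (z : G) with hZ
    have hZc : Nat.card Z = 5 := by
      rw [hZ, Nat.card_zpowers, Subgroup.orderOf_coe, hz]
    let f : H × Z →* G := MonoidHom.noncommCoprod H.subtype Z.subtype fun h w =>
      hcen h w (Subgroup.zpowers_le.2 z.2 w.2)
    have hinj : Function.Injective f := by
      rw [injective_iff_map_eq_one]
      rintro ⟨h, w⟩ hw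
      replace hw : (h : G) * w = 1 := hw
      have hh : (h : G) = (w : G)⁻¹ := eq_inv_of_mul_eq_one_left hw
      have h1 : orderOf (h : G) ∣ 24 := by
        rw [Subgroup.orderOf_coe, ← hH]; exact orderOf_dvd_natCard h
      have h2 : orderOf (h : G) ∣ 5 := by
        rw [hh, orderOf_inv, Subgroup.orderOf_coe, ← hZc]; exact orderOf_dvd_natCard w
      have h3 : (h : G) = 1 := orderOf_eq_one_iff.1 (by
        have := Nat.dvd_gcd h1 h2
        simpa using this)
      rw [h3, one_mul] at hw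
      exact Prod.ext (Subtype.ext h3) (Subtype.ext hw)
    have hbij : Function.Bijective f := hinj.bijective_of_nat_card_le (by
      rw [Nat.card_prod, hH, hZc, hG, hV]; norm_num)
    have hm : Nat.card (Multiplicative (ZMod 5)) = 5 := by
      rw [Nat.card_congr Multiplicative.toAdd, Nat.card_zmod]
    exact ⟨(MulEquiv.ofBijective f hbij).symm.trans
      (MulEquiv.prodCongr eH (mulEquivOfPrimeCardEq hZc hm))⟩
  · obtain ⟨N, hN, hN2⟩ := F.halve h4 hc
    refine ⟨?_, Or.inl ?_⟩
    · rw [hV]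
      rcases hqq with rfl | rfl | rfl | rfl | rfl <;> simp at hq3 ⊢
    · subst hC
      exact ⟨N.map (Subgroup.topEquiv : (⊤ : Subgroup G) ≃* G).toMonoidHom,
        hN.map _ (Subgroup.topEquiv : (⊤ : Subgroup G) ≃* G).surjective,
        (Subgroup.index_map_equiv N (Subgroup.topEquiv : (⊤ : Subgroup G) ≃* G)).trans hN2⟩
  · exfalso
    have hBtop : B = ⊤ := Subgroup.eq_top_of_card_eq B (by rw [hBcard, hA, hG, hV]; norm_num)
    obtain ⟨x, -, hxA⟩ : ∃ x ∈ B, x ∉ A :=
      SetLike.not_le_iff_exists.1 fun h => F.N_ne_one (Subgroup.relIndex_eq_one.2 h)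
    set Y := A ⊔ Subgroup.zpowers x with hY
    have hYn : Y.Normal := by
      refine ⟨fun y hy g => ?_⟩
      have h1 : g * y * g⁻¹ * y⁻¹ ∈ A :=
        F.comm g (hBtop ▸ Subgroup.mem_top g) y (hBtop ▸ Subgroup.mem_top y)
      have h2 := Y.mul_mem (le_sup_left (α := Subgroup G) (b := Subgroup.zpowers x) h1) hy
      simpa using h2
    haveI := hAn
    have hYc : ∀ a ∈ Y, ∀ b ∈ Y, a * b = b * a := by
      intro a ha b hb
      obtain ⟨a1, ha1, p1, hp1, rfl⟩ := Subgroup.mem_sup_of_normal_left.1 ha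
      obtain ⟨b1, hb1, p2, hp2, rfl⟩ := Subgroup.mem_sup_of_normal_left.1 hb
      obtain ⟨k, rfl⟩ := Subgroup.mem_zpowers_iff.1 hp1
      obtain ⟨l, rfl⟩ := Subgroup.mem_zpowers_iff.1 hp2
      have e1 : Commute a1 b1 := hcen a1 b1 hb1
      have e2 : Commute a1 (x ^ l) := (hcen (x ^ l) a1 ha1).symm
      have e3 : Commute (x ^ k) b1 := hcen (x ^ k) b1 hb1
      exact ((e1.mul_right e2).mul_left (e3.mul_right ((Commute.refl x).zpow_zpow k l))).eq
    exact hxA (F.maximal Y hYn hYc le_sup_left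
      (le_sup_right (α := Subgroup G) (Subgroup.mem_zpowers x)))

end Cfsg.Agent.Lib.Spectrum.Huppert
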