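import Cfsg.Prelude.Def_Exceptional
import Cfsg.Agent.Lib.Spectrum.EPPO
import Cfsg.Agent.Lib.RecogThree.PSL2Orders
import Cfsg.Agent.Lib.Linear.Order
import Cfsg.Agent.Lib.Hall.Converse
import Cfsg.Agent.Lib.SmallGroups.RecogSmall
import Cfsg.Agent.Lib.Elem70.Lift

/-!
# Groups in which every element order is a power of `2` or a prime other than `5`

With three prime divisors such a group is `PSL₂(7)`, given the classification of the simple groups
with `2`-groups as involution centralizers.
-/

set_option autoImplicit false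
set_option linter.unusedSectionVars false

namespace Cfsg.Agent.Lib.Spectrum.EPPOSeven

open Subgroup EPPO

universe u

/-- Element orders are powers of two or primes other than five. -/
def Good (G : Type*) [Group G] : Prop :=
  ∀ g : G, g ≠ 1 → (∃ k : ℕ, orderOf g = 2 ^ k) ∨ ((orderOf g).Prime ∧ orderOf g ≠ 5)

/-- The simple groups in which the centralizers of involutions are 2-groups. -/
def CITClass : Prop :=
  ∀ (S : Type u) [Group S] [Finite S] [IsSimpleGroup S], (∃ a b : S, a * b ≠ b * a) →
    (∀ t : S, orderOf t = 2 → IsPGroup 2 (Subgroup.centralizer ({t} : Set S))) →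
    (∃ (F : Type) (_ : Field F) (_ : Fintype F),
        (Fintype.card F = 9 ∨ (∃ n : ℕ, Fintype.card F = 2 ^ n) ∨
          ((Fintype.card F).Prime ∧ ∃ k : ℕ, Fintype.card F = 2 ^ k + 1 ∨ Fintype.card F + 1 = 2 ^ k)) ∧
        Nonempty (S ≃* Matrix.ProjectiveSpecialLinearGroup (Fin 2) F)) ∨
    (∃ (F : Type) (_ : Field F) (_ : Fintype F), Fintype.card F = 4 ∧
        Nonempty (S ≃* Matrix.ProjectiveSpecialLinearGroup (Fin 3) F)) ∨
    Cfsg.IsSuzuki S

variable {G : Type*} [Group G] [Finite G]

theorem Good.hyp (h : Good G) : Hyp G := fun g hg => by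
  rcases h g hg with ⟨k, hk⟩ | ⟨hp, -⟩
  · rw [hk]
    exact (Nat.prime_two.isPrimePow).pow fun hk0 => hg (by rwa [hk0, pow_zero, orderOf_eq_one_iff] at hk)
  · exact hp.isPrimePow

theorem Good.subgroup (h : Good G) (H : Subgroup G) : Good H := fun g hg => by
  rw [← Subgroup.orderOf_coe]
  exact h g fun e => hg (Subtype.ext e)

theorem Good.of_surjective (h : Good G) {Q : Type*} [Group Q] (f : G →* Q) (hf : Function.Surjective f) :
    Good Q := fun q hq => by
  obtain ⟨g, rfl⟩ := hf q
  have hd := orderOf_map_dvd f g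
  rcases h g (fun e => hq (by rw [e, map_one])) with ⟨k, hk⟩ | ⟨hp, h5⟩
  · rw [hk] at hd
    obtain ⟨j, -, hj⟩ := (Nat.dvd_prime_pow Nat.prime_two).1 hd
    exact Or.inl ⟨j, hj⟩
  · rcases (Nat.dvd_prime hp).1 hd with e | e
    · exact absurd (orderOf_eq_one_iff.1 e) hq
    · exact Or.inr (e ▸ ⟨hp, h5⟩)

theorem Good.not_five_dvd (h : Good G) : ¬ 5 ∣ Nat.card G := fun hd => by
  haveI : Fact (Nat.Prime 5) := ⟨by norm_num⟩
  obtain ⟨g, hg⟩ := exists_prime_orderOf_dvd_card' (G := G) 5 hd
  rcases h g (fun e => by simp [e] at hg) with ⟨k, hk⟩ | ⟨-, h5⟩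
  · rw [hg] at hk
    have := (Nat.prime_dvd_prime_iff_eq (by norm_num : Nat.Prime 5) Nat.prime_two).1
      ((by norm_num : Nat.Prime 5).dvd_of_dvd_pow (show 5 ∣ 2 ^ k by rw [← hk]))
    omega
  · exact h5 hg

/-- An element order divisible by three is three. -/
theorem Good.eq_three (h : Good G) {g : G} {m : ℕ} (hg : orderOf g = m) (h3 : 3 ∣ m) : m = 3 := by
  have hg1 : g ≠ 1 := fun e => by rw [e, orderOf_one] at hg; omega
  rcases h g hg1 with ⟨k, hk⟩ | ⟨hp, -⟩
  · rw [hg] at hk
    have := (Nat.prime_dvd_prime_iff_eq Nat.prime_three Nat.prime_two).1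
      (Nat.prime_three.dvd_of_dvd_pow (hk ▸ h3))
    omega
  · rw [hg] at hp
    exact ((Nat.prime_dvd_prime_iff_eq Nat.prime_three hp).1 h3).symm

theorem two_pow_mod_three_of_even {n : ℕ} (h : Even n) : 2 ^ n % 3 = 1 := by
  obtain ⟨j, rfl⟩ := h
  rw [← two_mul, pow_mul, Nat.pow_mod]; norm_num

theorem two_pow_mod_three_of_odd {n : ℕ} (h : Odd n) : 2 ^ n % 3 = 2 := by
  obtain ⟨j, rfl⟩ := h
  rw [pow_succ, pow_mul, Nat.mul_mod, Nat.pow_mod]; norm_num

/-- The simple case. -/
theorem card_simple (hcit : CITClass.{u}) {S : Type u} [Group S] [Finite S] [IsSimpleGroup S]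
    (hS : ¬ IsMulCommutative S) (h : Good S) :
    ∃ (F : Type) (_ : Field F) (_ : Fintype F), Fintype.card F = 7 ∧
      Nonempty (S ≃* Matrix.ProjectiveSpecialLinearGroup (Fin 2) F) ∧ Nat.card S = 168 := by
  have hne : ∃ a b : S, a * b ≠ b * a := by
    by_contra hc
    push Not at hc
    exact hS ⟨⟨hc⟩⟩
  have hns : ¬ Group.IsSolvable S := fun hs => hS ⟨⟨IsSimpleGroup.comm_iff_isSolvable.2 hs⟩⟩
  have hthree : 3 ≤ (Nat.card S).primeFactors.card := by
    by_contra hc
    exact hns (Hall.Converse.isSolvable_of_card_primeFactors_le_two (by omega))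
  have hcent : ∀ t : S, orderOf t = 2 → IsPGroup 2 (Subgroup.centralizer ({t} : Set S)) := fun t ht =>
    h.hyp.centralizer_isPGroup (fun e => by simp [e] at ht) Nat.prime_two (by rw [ht])
  have h5 := h.not_five_dvd
  rcases hcit S hne hcent with ⟨F, _, _, hF, ⟨e⟩⟩ | ⟨F, _, _, hF, ⟨e⟩⟩ | hSz
  · have hP : Good (Matrix.ProjectiveSpecialLinearGroup (Fin 2) F) :=
      h.of_surjective e.toMonoidHom e.surjective
    obtain ⟨p, hchar⟩ := CharP.exists F
    haveI : Fact p.Prime := ⟨CharP.char_is_prime F p⟩
    obtain ⟨⟨a, ha⟩, ⟨b, hb⟩, ⟨c, hc⟩⟩ := RecogThree.PSL2Orders.exists_orders (F := F) p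
    have hdvd5 : ∀ g : Matrix.ProjectiveSpecialLinearGroup (Fin 2) F, orderOf g ≠ 5 := fun g hg =>
      h5 (Nat.card_congr e.toEquiv ▸ hg ▸ orderOf_dvd_natCard g)
    have hsmall : ∀ m : ℕ, Nat.card (Matrix.ProjectiveSpecialLinearGroup (Fin 2) F) = m →
        m.primeFactors.card ≤ 2 → False := fun m hm hm2 => by
      rw [Nat.card_congr e.toEquiv, hm] at hthree
      omega
    rcases hF with h9 | ⟨n, hn⟩ | ⟨hpr, k, hk⟩
    · exact absurd (by rw [hb, h9]; rfl) (hdvd5 b)
    · exfalso
      have hq := Fintype.one_lt_card (α := F)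
      have hn0 : n ≠ 0 := fun h0 => by rw [hn, h0] at hq; simp at hq
      have hdd : RecogThree.PSL2Orders.dd (Fintype.card F) = 1 := if_pos (hn ▸ dvd_pow_self 2 hn0)
      rw [hdd, Nat.div_one, hn] at ha hb
      rcases Nat.even_or_odd n with he | ho
      · have h3 := two_pow_mod_three_of_even he
        have := h.of_surjective e.toMonoidHom e.surjective
        have h4 := hP.eq_three ha (by omega)
        exact hdvd5 b (by omega)
      · have h3 := two_pow_mod_three_of_odd ho
        have h4 := hP.eq_three hb (by omega)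
        have h2 : Fintype.card F = 2 := by omega
        have hcard := Linear.card_PSL_two_of_even (F := F) (by rw [h2]; exact even_two)
        rw [h2] at hcard
        exact hsmall _ hcard (by
          rw [show 2 * (2 - 1) * (2 + 1) = 2 * 3 by norm_num, Nat.primeFactors_mul (by norm_num) (by norm_num),
            Nat.prime_two.primeFactors, Nat.prime_three.primeFactors]
          decide)
    · have hp : p = Fintype.card F := by
        have := ringChar.eq F p
        obtain ⟨j, hj, hcard⟩ := FiniteField.card F p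
        rw [hcard] at hpr
        rw [hcard, Nat.Prime.eq_one_of_pow hpr, pow_one]
      rw [hp] at hc
      have hodd3 : Fintype.card F = 3 → False := fun h3 => by
        have hcard := Linear.two_mul_card_PSL_two_of_odd (F := F) (by rw [h3]; decide)
        rw [h3] at hcard
        exact hsmall 12 (by omega) (by
          rw [show (12 : ℕ) = 2 ^ 2 * 3 by norm_num, Nat.primeFactors_mul (by norm_num) (by norm_num),
            Nat.primeFactors_prime_pow (by norm_num) Nat.prime_two, Nat.prime_three.primeFactors]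
          decide)
      have hne5 : Fintype.card F ≠ 5 := fun h5' => hdvd5 c (hc.trans h5')
      rcases k with _ | j
      · exfalso
        rcases hk with hk | hk
        · rw [pow_zero] at hk
          have hcard := Linear.card_PSL_two_of_even (F := F) (by rw [hk]; exact even_two)
          rw [hk] at hcard
          exact hsmall _ hcard (by
            rw [show (1 + 1) * (1 + 1 - 1) * (1 + 1 + 1) = 2 * 3 by norm_num, Nat.primeFactors_mul (by norm_num) (by norm_num),
              Nat.prime_two.primeFactors, Nat.prime_three.primeFactors]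
            decide)
        · have := hpr.two_le
          omega
      have hpow : 2 ^ (j + 1) = 2 * 2 ^ j := by rw [pow_succ]; ring
      have hdd : RecogThree.PSL2Orders.dd (Fintype.card F) = 2 := if_neg (by omega)
      rw [hdd] at ha hb
      rcases Nat.even_or_odd (j + 1) with he | ho
      · have h3 := two_pow_mod_three_of_even he
        rcases hk with hk | hk
        · exfalso
          have h4 := hP.eq_three hb (by omega)
          omega
        · exfalso
          exact hodd3 ((Nat.prime_dvd_prime_iff_eq Nat.prime_three hpr).1 (by omega)).symm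
      · have h3 := two_pow_mod_three_of_odd ho
        rcases hk with hk | hk
        · exfalso
          exact hodd3 ((Nat.prime_dvd_prime_iff_eq Nat.prime_three hpr).1 (by omega)).symm
        · by_cases hj0 : j = 0
          · subst hj0
            exfalso
            have := hpr.two_le
            omega
          have h1 : 2 ≤ 2 ^ j := Nat.le_self_pow hj0 2
          have h4 := hP.eq_three ha (by omega)
          have h7 : Fintype.card F = 7 := by omega
          refine ⟨F, inferInstance, inferInstance, h7, ⟨e⟩, ?_⟩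
          rw [Nat.card_congr e.toEquiv]
          have hcard := Linear.two_mul_card_PSL_two_of_odd (F := F) (by rw [h7]; decide)
          rw [h7] at hcard
          omega
  · exfalso
    apply h5
    rw [Nat.card_congr e.toEquiv]
    have h1 := Linear.sub_one_mul_card_SL (F := F) 3 (by norm_num)
    have h2 := Linear.card_SL_eq_gcd_mul_card_PSL (ι := Fin 3) (F := F)
    rw [hF, Fin.prod_univ_three] at h1
    rw [Fintype.card_fin, Nat.card_eq_fintype_card (α := F), hF, show Nat.gcd 3 (4 - 1) = 3 by decide] at h2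
    norm_num [h2] at h1
    omega
  · exfalso
    obtain ⟨m, -, hm⟩ := hSz.2
    refine h5 ?_
    rw [hm]
    refine Dvd.dvd.mul_right (Dvd.dvd.mul_left ?_ _) _
    rw [← pow_mul, show (2 * m + 1) * 2 = 4 * m + 2 by ring, pow_add, pow_mul]
    have : 16 ^ m % 5 = 1 := by rw [Nat.pow_mod]; norm_num
    norm_num
    omega

/-- Modulo `O₂` the group is its socle, of order `168`. -/
theorem card_eq_of_socle {Q : Type*} [Group Q] [Finite Q] (h : Good Q) (S : Subgroup Q) [hSn : S.Normal]
    (hsim : IsSimpleGroup S) (hC : Subgroup.centralizer (S : Set Q) = ⊥) (hS : Nat.card S = 168) :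
    S = ⊤ := by
  haveI := Fact.mk (show Nat.Prime 7 by norm_num)
  haveI := hsim
  -- the action on the eight Sylow subgroups
  let φ : Q →* Equiv.Perm (Sylow 7 S) := (MulAction.toPermHom (MulAut S) (Sylow 7 S)).comp MulAut.conjNormal
  have hker : φ.ker = ⊥ := by
    have hd : S ⊓ φ.ker = ⊥ := by
      rcases hsim.eq_bot_or_eq_top_of_normal (φ.ker.subgroupOf S) inferInstance with hb | ht
      · rwa [Subgroup.subgroupOf_eq_bot, disjoint_comm, disjoint_iff] at hb
      · exfalso
        have h1 : ∀ P R : Sylow 7 S, P = R := fun P R => by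
          obtain ⟨g, hg⟩ := MulAction.exists_smul_eq S P R
          have hmem : (g : Q) ∈ φ.ker := Subgroup.mem_subgroupOf.1 (ht.symm ▸ Subgroup.mem_top g)
          have := Equiv.ext_iff.1 (MonoidHom.mem_ker.1 hmem) P
          change (MulAut.conjNormal (g : Q) : MulAut S) • P = P at this
          rw [MulAut.conjNormal_val (H := S)] at this
          rw [← hg]
          exact this.symm
        haveI : Subsingleton (Sylow 7 S) := ⟨h1⟩
        have := SmallGroups.Order168.card_sylow7 hS
        rw [Nat.card_of_subsingleton (Classical.arbitrary (Sylow 7 S))] at this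
        omega
    rw [eq_bot_iff, ← hC]
    intro k hk
    refine Subgroup.mem_centralizer_iff.2 fun s hs => ?_
    exact Subgroup.commute_of_normal_of_disjoint S φ.ker hSn inferInstance (disjoint_iff.2 hd) s k hs hk
  have h49 : ¬ 7 ^ 2 ∣ Nat.card Q := by
    have h8 : Nat.card Q ∣ Nat.card (Equiv.Perm (Sylow 7 S)) :=
      Subgroup.card_dvd_of_injective φ ((MonoidHom.ker_eq_bot_iff φ).1 hker)
    rw [Nat.card_perm, SmallGroups.Order168.card_sylow7 hS] at h8
    intro hc
    have := hc.trans h8
    norm_num [Nat.factorial] at this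
  have h7 : 7 ∣ Nat.card S := by rw [hS]; norm_num
  obtain ⟨x, hx⟩ := exists_prime_orderOf_dvd_card' (G := S) 7 h7
  have hxQ : orderOf (x : Q) = 7 := by rw [Subgroup.orderOf_coe, hx]
  set X := Subgroup.zpowers (x : Q)
  have hXc : Nat.card X = 7 := by rw [Nat.card_zpowers, hxQ]
  -- the centralizer has order seven
  have hCX : Subgroup.centralizer ({(x : Q)} : Set Q) = X := by
    refine (Subgroup.eq_of_le_of_card_ge (Subgroup.zpowers_le.2 (Subgroup.mem_centralizer_singleton_iff.2 rfl)) ?_).symm
    obtain ⟨n, hn⟩ := (h.hyp.centralizer_isPGroup (v := (x : Q)) (fun e => by rw [e, orderOf_one] at hxQ; norm_num at hxQ) (p := 7) (by norm_num)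
      (by rw [hxQ])).exists_card_eq
    rw [hn, hXc]
    rcases n with _ | _ | n
    · norm_num
    · norm_num
    · exfalso
      refine h49 (dvd_trans ?_ (hn ▸ Subgroup.card_subgroup_dvd_card _))
      exact pow_dvd_pow 7 (by omega)
  set N := Subgroup.normalizer (X : Set Q)
  -- `N / C` embeds in a cyclic group of order six
  let ψ : N →* MulAut X := Subgroup.normalizerMonoidHom X
  have hψker : ψ.ker = X.subgroupOf N := by
    refine (Subgroup.normalizerMonoidHom_ker X).trans (congrArg (fun C => Subgroup.subgroupOf C N) ?_)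
    refine Eq.trans ?_ hCX
    show Subgroup.centralizer ((Subgroup.zpowers (x : Q) : Subgroup Q) : Set Q) = _
    rw [Subgroup.zpowers_eq_closure, Subgroup.centralizer_closure]
  haveI : IsCyclic X := inferInstance
  have hcyc : IsCyclic (MulAut X) := by
    haveI : IsCyclic (ZMod (Nat.card X))ˣ := by rw [hXc]; infer_instance
    exact isCyclic_of_surjective (IsCyclic.mulAutMulEquiv X).symm.toMonoidHom (MulEquiv.surjective _)
  have hrange : Nat.card ψ.range ∣ 6 := by
    have := Subgroup.card_subgroup_dvd_card ψ.range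
    rwa [IsCyclic.card_mulAut, hXc, Nat.totient_prime (by norm_num)] at this
  haveI := hcyc
  obtain ⟨r, hr⟩ := (inferInstance : IsCyclic ψ.range).exists_ofOrder_eq_natCard
  obtain ⟨n, hn⟩ := r.2
  have hrn : orderOf r ∣ orderOf (n : Q) := by
    rw [← Subgroup.orderOf_coe r, ← hn, Subgroup.orderOf_coe n]
    exact orderOf_map_dvd ψ n
  have hNcard : Nat.card N = 7 * Nat.card ψ.range := by
    rw [← Subgroup.card_mul_index ψ.ker, Subgroup.index_ker, hψker]
    rw [Nat.card_congr (Subgroup.subgroupOfEquivOfLe Subgroup.le_normalizer).toEquiv, hXc]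
  -- Frattini
  let P : Sylow 7 S := ((IsPGroup.of_card (p := 7) (n := 1) (by rw [Nat.card_zpowers, hx, pow_one]) :
    IsPGroup 7 (Subgroup.zpowers x))).toSylow (by
      intro hd
      have h1 := (Subgroup.zpowers x).card_mul_index
      rw [Nat.card_zpowers, hx, hS] at h1
      omega)
  have hsup := Sylow.normalizer_sup_eq_top P
  have hmap : ((P : Subgroup S).map S.subtype) = X := by
    rw [IsPGroup.toSylow_coe, MonoidHom.map_zpowers]
    rfl
  rw [hmap] at hsup
  have h3 : 3 ∣ Nat.card N := by
    have hN21 := SmallGroups.Order168.card_normalizer7 hS P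
    rw [IsPGroup.toSylow_coe] at hN21
    have hle : (Subgroup.normalizer ((Subgroup.zpowers x : Subgroup S) : Set S)).map S.subtype ≤ N := by
      refine (Subgroup.le_normalizer_map _).trans ?_
      rw [MonoidHom.map_zpowers]
      rfl
    have := Subgroup.card_dvd_of_le hle
    rw [Subgroup.card_map_of_injective S.subtype_injective, hN21] at this
    exact (show 3 ∣ 21 by norm_num).trans this
  rw [hNcard] at h3
  have h3r : 3 ∣ Nat.card ψ.range := (Nat.Coprime.dvd_of_dvd_mul_left (by norm_num) h3)
  have hn3 : Nat.card ψ.range = 3 := by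
    by_contra hne
    have hle := Nat.le_of_dvd (by norm_num) hrange
    have hpos : 0 < Nat.card ψ.range := Nat.card_pos
    have h6 : Nat.card ψ.range = 6 := by omega
    rw [hr, h6] at hrn
    have := h.hyp.eq_of_dvd (g := (n : Q)) Nat.prime_two Nat.prime_three
      ((show 2 ∣ 6 by norm_num).trans hrn) ((show 3 ∣ 6 by norm_num).trans hrn)
    omega
  rw [hn3] at hNcard
  -- `S` contains the normalizer
  have hNS : N ≤ S := by
    have hle : (Subgroup.normalizer ((Subgroup.zpowers x : Subgroup S) : Set S)).map S.subtype ≤ N := by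
      refine (Subgroup.le_normalizer_map _).trans ?_
      rw [MonoidHom.map_zpowers]
      rfl
    have hN21 := SmallGroups.Order168.card_normalizer7 hS P
    rw [IsPGroup.toSylow_coe] at hN21
    have := Subgroup.eq_of_le_of_card_ge hle (by
      rw [Subgroup.card_map_of_injective S.subtype_injective, hN21, hNcard])
    rw [← this]
    exact Subgroup.map_subtype_le _
  rw [← top_le_iff, ← hsup]
  exact sup_le hNS le_rfl

/-- The main theorem. -/
theorem main (hcit : CITClass.{u}) {G : Type u} [Group G] [Finite G] {F : Type*} [Field F] [Fintype F]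
    (hF : Fintype.card F = 7) (h3 : 3 ≤ (Nat.card G).primeFactors.card) (hgood : Good G) :
    Nonempty (G ≃* Matrix.ProjectiveSpecialLinearGroup (Fin 2) F) := by
  have h := hgood.hyp
  have hns := not_isSolvable_of_three h h3
  set V := Cfsg.pCore 2 G with hV
  haveI : V.Normal := inferInstance
  have hgQ : Good (G ⧸ V) := hgood.of_surjective _ (QuotientGroup.mk'_surjective V)
  obtain ⟨S, hSn, hsim, hSna, hSC⟩ := exists_socle hgQ.hyp (not_isSolvable_quotient_pCore hns)
    (Cores.pCore_quotient_pCore 2)
  haveI := hSn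
  haveI := hsim
  obtain ⟨F', _, _, hF', ⟨e⟩, hS168⟩ := card_simple hcit hSna (hgQ.subgroup S)
  have hStop := card_eq_of_socle hgQ S hsim hSC hS168
  have hQ168 : Nat.card (G ⧸ V) = 168 := by
    rw [← hS168, hStop, Subgroup.card_top]
  haveI hQsim : IsSimpleGroup (G ⧸ V) := by
    subst hStop
    exact (Subgroup.topEquiv.isSimpleGroup_congr).1 hsim
  -- the core is trivial
  have hV1 : V = ⊥ := by
    by_contra hV1
    haveI := Fact.mk (show Nat.Prime 7 by norm_num)
    have hVp : IsPGroup 2 V := Cores.pCore_isPGroup 2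
    haveI : Fact (Nat.Prime 2) := ⟨Nat.prime_two⟩
    haveI : Nontrivial V := (Subgroup.nontrivial_iff_ne_bot V).2 hV1
    set Z := (Subgroup.center V).map V.subtype
    haveI : Z.Normal := ConjAct.normal_of_characteristic_of_normal
    haveI : IsMulCommutative Z := ⟨⟨by
      rintro ⟨_, a, ha, rfl⟩ ⟨_, b, -, rfl⟩
      exact Subtype.ext (show V.subtype a * V.subtype b = V.subtype b * V.subtype a by rw [← map_mul, ← map_mul, (Subgroup.mem_center_iff.1 ha) b])⟩⟩
    have hZ1 : Z ≠ ⊥ := fun e => by
      haveI := hVp.center_nontrivial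
      exact (Subgroup.nontrivial_iff_ne_bot _).1 ‹_›
        ((Subgroup.map_eq_bot_iff_of_injective _ V.subtype_injective).1 e)
    have hcop : ∀ r : ℕ, r.Prime → r ≠ 2 → r.Coprime (Nat.card V) := by
      intro r hr hr2
      obtain ⟨a, ha⟩ := hVp.exists_card_eq
      rw [ha]
      exact Nat.Coprime.pow_right _ ((Nat.coprime_primes hr Nat.prime_two).2 hr2)
    obtain ⟨P⟩ : Nonempty (Sylow 7 (G ⧸ V)) := inferInstance
    have hPc := SmallGroups.Order168.card_of_sylow7 hQ168 P
    obtain ⟨xb, hxb⟩ := exists_prime_orderOf_dvd_card' (G := (P : Subgroup (G ⧸ V))) 7 (by rw [hPc])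
    obtain ⟨x, hxm, hxo⟩ := Elem70.exists_lift_coprime V (xb : G ⧸ V)
      (by rw [Subgroup.orderOf_coe, hxb]; exact hcop 7 (by norm_num) (by norm_num))
    rw [Subgroup.orderOf_coe, hxb] at hxo
    have hPeq : (P : Subgroup (G ⧸ V)) = Subgroup.zpowers (xb : G ⧸ V) :=
      (Subgroup.eq_of_le_of_card_ge (Subgroup.zpowers_le.2 xb.2)
        (by rw [hPc, Nat.card_zpowers, Subgroup.orderOf_coe, hxb])).symm
    haveI : Fact (Nat.Prime 3) := ⟨Nat.prime_three⟩
    obtain ⟨yb, hyb⟩ := exists_prime_orderOf_dvd_card'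
      (G := Subgroup.normalizer ((P : Subgroup (G ⧸ V)) : Set (G ⧸ V))) 3
      (by rw [SmallGroups.Order168.card_normalizer7 hQ168 P]; norm_num)
    obtain ⟨g, hgm, hgn⟩ := Elem70.exists_lift_normalizer V (x := x) (gb := (yb : G ⧸ V))
      (by rw [hxo]; exact hcop 7 (by norm_num) (by norm_num))
      (by rw [hxm, ← hPeq]; exact (Subgroup.mem_normalizer_iff.1 yb.2 _).1 xb.2)
    have h3g : 3 ∣ orderOf g := by
      have := orderOf_map_dvd (QuotientGroup.mk' V) g
      rwa [hgm, Subgroup.orderOf_coe, hyb] at this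
    have hgN : g ∈ Subgroup.normalizer ((Subgroup.zpowers x : Subgroup G) : Set G) := by
      refine Subgroup.mem_normalizer_iff_map_conj_eq.2 (Subgroup.eq_of_le_of_card_ge ?_ ?_)
      · rw [MonoidHom.map_zpowers, Subgroup.zpowers_le]
        exact hgn
      · rw [Subgroup.card_map_of_injective (MulAut.conj g).injective]
    refine h.no_qr_subgroup Nat.prime_two (show Nat.Prime 7 by norm_num) Nat.prime_three (by norm_num)
      (by norm_num) (by norm_num) (hVp.to_le (Subgroup.map_subtype_le _)) hZ1
      (Subgroup.zpowers x ⊔ Subgroup.zpowers (g ^ (orderOf g / 3))) ?_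
    exact EPPO.card_sup_zpowers_le_normalizer (by norm_num) Nat.prime_three (by norm_num)
      (by rw [Nat.card_zpowers, hxo]) (orderOf_pow_orderOf_div (orderOf_pos g).ne' h3g)
      (Subgroup.pow_mem _ hgN _)
  have e2 : G ⧸ V ≃* G := (QuotientGroup.quotientMulEquivOfEq hV1).trans QuotientGroup.quotientBot
  obtain ⟨e3⟩ := SmallGroups.RecogSmall.psl_seven (G := G ⧸ V) (F := F) hQ168 hF
  exact ⟨e2.symm.trans e3⟩

end Cfsg.Agent.Lib.Spectrum.EPPOSeven
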