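import Cfsg.Agent.Lib.Golay.Simple
import Mathlib.GroupTheory.Transfer

/-!
A group of order 7920 with a self-centralising subgroup of order 11 is simple; `M₁₁` has one.
-/

namespace Cfsg.Agent.Lib.Spectrum.CommM11

open Cfsg.Agent.Lib.Golay Subgroup

variable {H : Type*} [Group H] [Finite H]

theorem eq_bot_of_coprime (hH : Nat.card H = 7920) {x : H} (hx : orderOf x = 11)
    (hC : ∀ y : H, y * x = x * y → y ∈ zpowers x) (N : Subgroup H) [hN : N.Normal]
    (h11 : ¬ 11 ∣ Nat.card N) : N = ⊥ := by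
  have : Fact (Nat.Prime 11) := ⟨by norm_num⟩
  by_contra hne
  have hN1 : Nat.card N ≠ 1 := fun h => hne (N.eq_bot_of_card_eq h)
  obtain ⟨q, hq, hqN⟩ := Nat.exists_prime_and_dvd hN1
  have : Fact q.Prime := ⟨hq⟩
  have hX : IsPGroup 11 (zpowers x) := IsPGroup.of_card (n := 1) (by rw [Nat.card_zpowers, hx, pow_one])
  -- a Sylow subgroup of `N` normalised by `x`
  let act : MulAction (zpowers x) (Sylow q N) :=
    MulAction.compHom _ ((MulAut.conjNormal (H := N)).comp (zpowers x).subtype)
  have hndvd : ¬ 11 ∣ Nat.card (Sylow q N) := fun h => h11 (h.trans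
    ((default : Sylow q N).card_dvd_index.trans (Subgroup.index_dvd_card _)))
  obtain ⟨Q, hQ⟩ := hX.nonempty_fixed_point_of_prime_not_dvd_card (Sylow q N) hndvd
  set Q' : Subgroup H := (Q : Subgroup N).map N.subtype with hQ'
  have hQfix : ∀ u : zpowers x, ∀ v ∈ Q', (u : H) * v * (u : H)⁻¹ ∈ Q' := by
    rintro u _ ⟨v, hv, rfl⟩
    have h1 := hQ u
    refine ⟨MulAut.conjNormal (H := N) (u : H) v, ?_, rfl⟩
    have h2 : MulAut.conjNormal (H := N) (u : H) • Q = Q := h1
    rw [← h2]
    exact Subgroup.mem_map_of_mem _ hv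
  let actQ : MulAction (zpowers x) Q' :=
  { smul := fun u v => ⟨(u : H) * v * (u : H)⁻¹, hQfix u v v.2⟩
    one_smul := fun v => Subtype.ext (show (1 : H) * v * (1 : H)⁻¹ = v by group)
    mul_smul := fun u u' v => Subtype.ext (show ((u * u' : zpowers x) : H) * v * ((u * u' : zpowers x) : H)⁻¹ =
      (u : H) * ((u' : H) * v * (u' : H)⁻¹) * (u : H)⁻¹ by rw [Subgroup.coe_mul]; group) }
  have hfixed : MulAction.fixedPoints (zpowers x) Q' = {1} := by
    ext v
    constructor
    · intro hv
      have h1 : x * (v : H) * x⁻¹ = v := congrArg Subtype.val (hv ⟨x, mem_zpowers x⟩)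
      have h2 := hC v (mul_inv_eq_iff_eq_mul.mp h1).symm
      have hvN : (v : H) ∈ N := Subgroup.map_subtype_le _ v.2
      by_contra hv1
      have hvo : orderOf (v : H) = 11 := by
        rcases (Nat.dvd_prime (by norm_num)).mp (hx ▸ orderOf_dvd_of_mem_zpowers h2) with h | h
        · exact absurd (Subtype.ext (orderOf_eq_one_iff.mp h)) hv1
        · exact h
      exact h11 (hvo ▸ Subgroup.orderOf_dvd_natCard N hvN)
    · rintro rfl u
      exact Subtype.ext (show (u : H) * 1 * (u : H)⁻¹ = 1 by group)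
  have hmod := hX.card_modEq_card_fixedPoints Q'
  rw [hfixed, Nat.card_coe_set_eq, Set.ncard_singleton] at hmod
  have hQc : Nat.card Q' = Nat.card (Q : Subgroup N) :=
    (Nat.card_congr ((Q : Subgroup N).equivMapOfInjective _ N.subtype_injective).toEquiv).symm
  obtain ⟨n, hn⟩ := IsPGroup.iff_card.mp Q.2
  have hn0 : n ≠ 0 := fun h => Q.ne_bot_of_dvd_card hqN (Subgroup.eq_bot_of_card_eq _ (by rw [hn, h, pow_zero]))
  have hdvd : q ^ n ∣ 7920 := by rw [← hn, ← hQc, ← hH]; exact Subgroup.card_subgroup_dvd_card _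
  have hq11 : q ≠ 11 := fun h => h11 (h ▸ hqN)
  rw [hQc, hn] at hmod
  have key : ∀ d ∈ Nat.divisors 7920, IsPrimePow d → d ≡ 1 [MOD 11] → False := by
    have h' : ∀ d ∈ Nat.divisors 7920, d ≡ 1 [MOD 11] → d ∈ ([1, 12, 45, 144] : List ℕ) ∨ ¬ d.primeFactors.card = 1 := by
      decide +kernel
    intro d hd hp hm
    rcases h' d hd hm with h | h
    · simp only [List.mem_cons, List.not_mem_nil, or_false] at h
      rcases h with rfl | rfl | rfl | rfl <;>
        · rw [isPrimePow_iff_card_primeFactors_eq_one] at hp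
          revert hp
          decide +kernel
    · exact h (isPrimePow_iff_card_primeFactors_eq_one.mp hp)
  exact key _ (Nat.mem_divisors.mpr ⟨hdvd, by norm_num⟩)
    ((isPrimePow_nat_iff _).mpr ⟨q, n, hq, Nat.pos_of_ne_zero hn0, rfl⟩) hmod

theorem isSimpleGroup (hH : Nat.card H = 7920) {x : H} (hx : orderOf x = 11)
    (hC : ∀ y : H, y * x = x * y → y ∈ zpowers x) : IsSimpleGroup H := by
  classical
  have : Fact (Nat.Prime 11) := ⟨by norm_num⟩
  have : Nontrivial H := Finite.one_lt_card_iff_nontrivial.mp (by rw [hH]; norm_num)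
  refine ⟨fun N hN => ?_⟩
  by_cases h11 : 11 ∣ Nat.card N
  swap
  · exact Or.inl (eq_bot_of_coprime hH hx hC N h11)
  right
  -- the Sylow subgroup
  have hXc : Nat.card (zpowers x) = 11 := by rw [Nat.card_zpowers, hx]
  let P : Sylow 11 H := Sylow.ofCard (zpowers x) (by
    rw [hXc, hH, Nat.factorization_def _ (by norm_num),
      show (7920 : ℕ) = 11 * 720 by norm_num, padicValNat.mul (by norm_num) (by norm_num),
      padicValNat.self (by norm_num), padicValNat.eq_zero_of_not_dvd (by norm_num), pow_one])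
  have hP : (P : Subgroup H) = zpowers x := rfl
  set M := Subgroup.normalizer ((P : Subgroup H) : Set H) with hMdef
  have hxM : zpowers x ≤ M := hP ▸ Subgroup.le_normalizer
  -- `|M| ≤ 11 * 10`
  have hconj : ∀ m : M, (m : H) * x * (m : H)⁻¹ ∈ zpowers x := fun m => by
    have := (Subgroup.mem_normalizer_iff.mp m.2 x).mp (hP ▸ mem_zpowers x)
    exact hP ▸ this
  have hMle : Nat.card M ≤ 11 * 10 := by
    have h1 : Nat.card {y : zpowers x // y ≠ 1} = 10 := by
      have h := Nat.card_congr (Equiv.sumCompl fun y : zpowers x => y = 1)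
      rw [Nat.card_sum, hXc, Nat.card_unique] at h
      simp only [ne_eq]
      omega
    let g : M → {y : zpowers x // y ≠ 1} := fun m => ⟨⟨_, hconj m⟩, fun h => by
      have : (m : H) * x * (m : H)⁻¹ = 1 := congrArg Subtype.val h
      rw [conj_eq_one_iff] at this
      rw [this, orderOf_one] at hx; norm_num at hx⟩
    have hg : ∀ a b : M, g a = g b → (b : H)⁻¹ * a ∈ zpowers x := fun a b h => by
      refine hC _ ?_
      have h2 : (a : H) * x * (a : H)⁻¹ = (b : H) * x * (b : H)⁻¹ :=
        congrArg (fun y : {y : zpowers x // y ≠ 1} => ((y : zpowers x) : H)) h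
      calc (b : H)⁻¹ * a * x = (b : H)⁻¹ * ((a : H) * x * (a : H)⁻¹) * a := by group
        _ = x * ((b : H)⁻¹ * a) := by rw [h2]; group
    have hinj : Function.Injective fun m : M => ((g m, ⟨((Function.invFun g (g m) : M) : H)⁻¹ * m,
        hg m _ (Function.invFun_eq ⟨m, rfl⟩).symm⟩) : {y : zpowers x // y ≠ 1} × zpowers x) := by
      intro a b h
      simp only [Prod.mk.injEq, Subtype.mk.injEq] at h
      rw [h.1] at h
      exact Subtype.ext (mul_left_cancel h.2)
    have := Nat.card_le_card_of_injective _ hinj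
    rw [Nat.card_prod, h1, hXc] at this
    omega
  have hn : Nat.card (Sylow 11 H) = M.index := P.card_eq_index_normalizer
  have hmod : M.index % 11 = 1 := by
    rw [← hn]; exact card_sylow_modEq_one 11 H
  have hM11 : 11 ∣ Nat.card M := hXc ▸ Subgroup.card_dvd_of_le hxM
  have hMcard : Nat.card M = 55 := by
    have hmul := M.card_mul_index
    rw [hH] at hmul
    obtain ⟨e, he⟩ := hM11
    have he10 : e ≤ 10 := by omega
    rw [he] at hmul
    interval_cases e <;> omega
  have hidx : M.index = 144 := by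
    have hmul := M.card_mul_index
    rw [hH, hMcard] at hmul; omega
  -- every Sylow 11-subgroup lies in `N`
  have hPN : (P : Subgroup H) ≤ N := by
    obtain ⟨⟨y, hyN⟩, hy⟩ := exists_prime_orderOf_dvd_card' (G := N) 11 h11
    rw [← Subgroup.orderOf_coe] at hy
    obtain ⟨Q, hQ⟩ := (IsPGroup.of_card (n := 1)
      (show Nat.card (zpowers y) = 11 ^ 1 by rw [Nat.card_zpowers, hy, pow_one])).exists_le_sylow
    have hQc : Nat.card (Q : Subgroup H) = 11 := by
      rw [Sylow.card_eq_multiplicity, ← Sylow.card_eq_multiplicity P, hP, hXc]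
    have hQN : (Q : Subgroup H) ≤ N := by
      rw [← Subgroup.eq_of_le_of_card_ge hQ (by rw [hQc, Nat.card_zpowers, hy])]
      exact zpowers_le.mpr hyN
    obtain ⟨g, hg⟩ := MulAction.exists_smul_eq H Q P
    rw [← hg]
    rintro _ ⟨v, hv, rfl⟩
    exact hN.conj_mem v (hQN hv) g
  -- Frattini
  have hsup : M ⊔ N = ⊤ := by
    have := Sylow.normalizer_sup_eq_top (P.subtype hPN)
    rwa [show (P.subtype hPN : Subgroup N).map N.subtype = (P : Subgroup H) from
      Subgroup.map_subgroupOf_eq_of_le hPN] at this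
  have hinf : zpowers x ≤ M ⊓ N := le_inf hxM (hP ▸ hPN)
  have hrel : N.index * Nat.card (M ⊓ N : Subgroup H) = 55 := by
    rw [← hMcard, ← Subgroup.relIndex_top_right, ← hsup, Subgroup.relIndex_sup_right,
      ← Subgroup.inf_relIndex_right, inf_comm N M, mul_comm,
      ← Nat.card_congr (Subgroup.subgroupOfEquivOfLe (inf_le_left : M ⊓ N ≤ M)).toEquiv]
    exact Subgroup.card_mul_index _
  have hd : 11 ∣ Nat.card (M ⊓ N : Subgroup H) := hXc ▸ Subgroup.card_dvd_of_le hinf
  have hcases : N.index = 1 ∨ Nat.card (M ⊓ N : Subgroup H) = 11 := by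
    obtain ⟨e, he⟩ := hd
    rw [he] at hrel
    have h5 : N.index * e = 5 := by nlinarith
    rcases (Nat.dvd_prime (by norm_num : Nat.Prime 5)).mp (Dvd.intro _ h5) with h | h
    · exact Or.inl h
    · right; rw [he]; rw [h] at h5; omega
  rcases hcases with h | hMN
  · exact Subgroup.index_eq_one.mp h
  exfalso
  -- normal complement
  let PN : Sylow 11 N := P.subtype hPN
  have hPNc : Nat.card (PN : Subgroup N) = 11 := by
    rw [show (PN : Subgroup N) = (P : Subgroup H).subgroupOf N from rfl,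
      Nat.card_congr (subgroupOfEquivOfLe hPN).toEquiv, hP, hXc]
  have hnormPN : Subgroup.normalizer ((PN : Subgroup N) : Set N) ≤
      Subgroup.centralizer ((PN : Subgroup N) : Set N) := by
    intro v hv
    have hvM : (v : H) ∈ M := by
      rw [hMdef, Subgroup.mem_normalizer_iff]
      intro w
      constructor
      · intro hw
        exact (Subgroup.mem_normalizer_iff.mp hv ⟨w, hPN hw⟩).mp hw
      · intro hw
        have hwN : w ∈ N := by
          have := hN.conj_mem _ (hPN hw) (v : H)⁻¹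
          simpa [mul_assoc] using this
        exact (Subgroup.mem_normalizer_iff.mp hv ⟨w, hwN⟩).mpr hw
    have hv' : (v : H) ∈ zpowers x := by
      rw [Subgroup.eq_of_le_of_card_ge hinf (by rw [hMN, hXc])]
      exact ⟨hvM, v.2⟩
    rw [Subgroup.mem_centralizer_iff]
    intro u hu
    have hu' : (u : H) ∈ zpowers x := hP ▸ hu
    obtain ⟨i, hi⟩ := mem_zpowers_iff.mp hu'
    obtain ⟨j, hj⟩ := mem_zpowers_iff.mp hv'
    refine Subtype.ext ?_
    show (u : H) * v = v * u
    rw [← hi, ← hj]; exact ((Commute.refl x).zpow_zpow i j).eq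
  have hK := MonoidHom.ker_transferSylow_isComplement' PN hnormPN
  set K := (MonoidHom.transferSylow PN hnormPN).ker with hKdef
  have hKc : Nat.card K * 11 = Nat.card N := hPNc ▸ hK.card_mul_card
  have hNc : Nat.card N = 1584 := by
    have h1 := N.card_mul_index
    rw [hH] at h1
    rw [hMN] at hrel
    have : N.index = 5 := by omega
    rw [this] at h1; omega
  have hK144 : Nat.card K = 144 := by omega
  have hKidx : K.index = 11 := by
    have := K.card_mul_index
    rw [hK144, hNc] at this; omega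
  have hmemK : ∀ v : N, v ^ 144 = 1 → v ∈ K := by
    intro v hv
    have h1 : v ^ 11 ∈ K := hKidx ▸ Subgroup.pow_index_mem K v
    have h2 : v = (v ^ 11) ^ 131 * (v ^ 144) ^ (-10 : ℤ) := by group
    rw [hv, one_zpow, mul_one] at h2
    rw [h2]; exact pow_mem h1 _
  have hKn : (K.map N.subtype).Normal := by
    refine ⟨?_⟩
    rintro _ ⟨v, hv, rfl⟩ g
    refine ⟨⟨g * v * g⁻¹, hN.conj_mem _ v.2 g⟩, hmemK _ (Subtype.ext ?_), rfl⟩
    have hv1 : v ^ 144 = 1 := by
      have := pow_card_eq_one' (x := (⟨v, hv⟩ : K))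
      rw [hK144] at this; exact congrArg Subtype.val this
    show (g * (v : H) * g⁻¹) ^ 144 = 1
    rw [conj_pow, show (v : H) ^ 144 = 1 from congrArg Subtype.val hv1]; group
  have hcardK : Nat.card (K.map N.subtype) = 144 := by
    rw [← hK144]
    exact (Nat.card_congr (K.equivMapOfInjective _ N.subtype_injective).toEquiv).symm
  have hbot := eq_bot_of_coprime hH hx hC (K.map N.subtype) (by rw [hcardK]; norm_num)
  rw [hbot, Subgroup.card_bot] at hcardK
  norm_num at hcardK

open Equiv in
theorem exists_self_centralizing_eleven : ∃ x : ↥Cfsg.Spor.M11, orderOf x = 11 ∧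
    ∀ y : ↥Cfsg.Spor.M11, y * x = x * y → y ∈ zpowers x := by
  classical
  have : Fact (Nat.Prime 11) := ⟨by norm_num⟩
  have : Finite ↥Cfsg.Spor.M11 := Subtype.finite
  obtain ⟨x, hx⟩ := exists_prime_orderOf_dvd_card' (G := ↥Cfsg.Spor.M11) 11
    (by rw [card_spor_M11]; norm_num)
  refine ⟨x, hx, fun y hy => ?_⟩
  let S := Cfsg.Spor.squareDodecad.erase (some 0 : GolayPt)
  have h0 : (some 0 : GolayPt) ∈ Cfsg.Spor.squareDodecad := by
    rw [squareDodecad_eq, mem_setOfMask]; decide +kernel
  have hS : Fintype.card S = 11 := by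
    rw [Fintype.card_coe, Finset.card_erase_of_mem h0, squareDodecad_mem.2]
  have hst : ∀ (g : ↥Cfsg.Spor.M11) (s : GolayPt), s ∈ S → (g : Perm GolayPt) s ∈ S :=
    fun g => twoTrans_M11.stable g g.2
  let res : ↥Cfsg.Spor.M11 →* Perm S :=
  { toFun := fun g =>
    { toFun := fun s => ⟨(g : Perm GolayPt) s, hst g s s.2⟩
      invFun := fun s => ⟨((g⁻¹ : ↥Cfsg.Spor.M11) : Perm GolayPt) s, hst g⁻¹ s s.2⟩
      left_inv := fun s => Subtype.ext (by simp)
      right_inv := fun s => Subtype.ext (by simp) }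
    map_one' := Equiv.ext fun s => rfl
    map_mul' := fun a b => Equiv.ext fun s => rfl }
  have hinj : Function.Injective res := by
    rw [injective_iff_map_eq_one]
    intro g hg
    refine Subtype.ext (twoTrans_M11.faithful g g.2 fun s hs => ?_)
    exact congrArg (fun σ : Perm S => ((σ ⟨s, hs⟩ : S) : GolayPt)) hg
  have hσ : orderOf (res x) = 11 := by rw [orderOf_injective res hinj, hx]
  have hcyc : (res x).IsCycle := Perm.isCycle_of_prime_order'' (by rw [hS]; norm_num)
    (by rw [hσ, hS])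
  have hsupp : (res x).support = Finset.univ := by
    refine Finset.eq_univ_of_card _ ?_
    rw [← hcyc.orderOf, hσ, hS]
  have hne : ∀ s : S, res x s ≠ s := fun s => Perm.mem_support.mp (hsupp ▸ Finset.mem_univ s)
  have hnonempty : Nonempty S := Fintype.card_pos_iff.mp (by rw [hS]; norm_num)
  obtain ⟨s₀⟩ := hnonempty
  obtain ⟨k, hk⟩ := hcyc.exists_zpow_eq (hne s₀) (hne (res y s₀))
  refine mem_zpowers_iff.mpr ⟨k, hinj (Equiv.ext fun s => ?_)⟩
  obtain ⟨i, rfl⟩ := hcyc.exists_zpow_eq (hne s₀) (hne s)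
  have hc : Commute (res y) (res x ^ i) := ((show Commute y x from hy).map res).zpow_right i
  have h1 : res y ((res x ^ i) s₀) = (res x ^ i) (res y s₀) :=
    congrArg (fun σ : Perm S => σ s₀) hc.eq
  rw [h1, ← hk, map_zpow, ← Perm.mul_apply, ← Perm.mul_apply, ← zpow_add, ← zpow_add, add_comm]

end Cfsg.Agent.Lib.Spectrum.CommM11
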