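import Cfsg.Agent.Lib.Spectrum.HuppertField
import Cfsg.Agent.Lib.Spectrum.HuppertClassTwo

/-!
# The structure of solvable linear groups transitive on nonzero vectors

Either the group is semilinear over a field of dimension one, or it has the chain
`A < B ≤ C` with the numerical properties recorded in `Facts`.
-/

set_option autoImplicit false
set_option linter.unusedSectionVars false
set_option linter.style.haveILetI false

namespace Cfsg.Agent.Lib.Spectrum.Huppert

open Module

variable {q : ℕ} [Fact q.Prime] {V : Type*} [AddCommGroup V] [Module (ZMod q) V] [Finite V]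
  [Nontrivial V]
variable {G : Type*} [Group G] [Finite G] (ρ : G →* (V ≃ₗ[ZMod q] V))

/-- All elements act as `x ↦ a σ(x)` on a field. -/
def IsSemilinear : Prop :=
  ∃ (F : Type) (_ : Field F) (_ : Fintype F) (e : V ≃+ F),
    ∀ g : G, ∃ (a : F) (σ : F ≃+* F), ∀ v : V, e (ρ g v) = a * σ (e v)

/-- The properties of the chain in the non-semilinear case. -/
structure Facts (m d : ℕ) (A B C : Subgroup G) : Prop where
  pos_m : 0 < m
  two_le_d : 2 ≤ d
  card_V : Nat.card V = (q ^ m) ^ d
  A_le : A ≤ B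
  B_le : B ≤ C
  A_normal : A.Normal
  B_normal : B.Normal
  C_normal : C.Normal
  index_C : C.index ∣ m
  card_A : Nat.card A ∣ q ^ m - 1
  central : ∀ c ∈ C, ∀ a ∈ A, c * a = a * c
  comm : ∀ x ∈ B, ∀ y ∈ B, x * y * x⁻¹ * y⁻¹ ∈ A
  centre : ∀ x ∈ B, (∀ y ∈ B, x * y = y * x) → x ∈ A
  centralizer : ∀ c ∈ C, (∀ y ∈ B, c * y = y * c) → c ∈ A
  maximal : ∀ Y : Subgroup G, Y.Normal → (∀ a ∈ Y, ∀ b ∈ Y, a * b = b * a) → A ≤ Y → Y ≤ A
  N_le : A.relIndex B ≤ d * d
  N_ne_one : A.relIndex B ≠ 1
  N_not_prime : ¬ (A.relIndex B).Prime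
  roots : ∀ r : ℕ, r.Prime → r ∣ A.relIndex B → r ∣ q ^ m - 1 ∧ r ∣ d
  aut : ∀ p : ℕ, p.Prime → p ∣ B.relIndex C →
    ∃ f : ℕ, f ∣ A.relIndex B ∧ f < A.relIndex B ∧ f ≡ A.relIndex B [MOD p]
  six : A.relIndex B = 4 → B.relIndex C ∣ 6
  halve : A.relIndex B = 4 → 2 ∣ B.relIndex C →
    ∃ N : Subgroup C, N.Normal ∧ N.index = 2
  count_even : A.relIndex B ≠ 4 → Even d →
    (q ^ m) ^ (d / 2) + 1 ≤ 2 * (A.relIndex B - 1)
  count_odd : A.relIndex B ≠ 4 → Odd d →
    (d / 3) * ((q ^ m) ^ d - 1) ≤ (A.relIndex B - 1) * (d * ((q ^ m) ^ (d / 3) - 1))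
  semiregular : (∀ v : V, v ≠ 0 → ∀ g : G, ρ g v = v → g = 1) → A.relIndex B = 4
  orbit : (q ^ m) ^ d - 1 ∣ Nat.card G

theorem orbit_dvd (htrans : ∀ v w : V, v ≠ 0 → w ≠ 0 → ∃ g : G, ρ g v = w) :
    Nat.card V - 1 ∣ Nat.card G := by
  classical
  letI : MulAction G V := MulAction.compHom V ρ
  obtain ⟨v, hv⟩ := exists_ne (0 : V)
  have hsm : ∀ (g : G) (w : V), g • w = ρ g w := fun _ _ => rfl
  have horb : MulAction.orbit G v = ({0} : Set V)ᶜ := by
    ext w
    simp only [MulAction.mem_orbit_iff, hsm, Set.mem_compl_iff, Set.mem_singleton_iff]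
    exact ⟨fun ⟨g, hg⟩ h0 => hv ((ρ g).map_eq_zero_iff.1 (hg.trans h0)),
      fun hw => htrans v w hv hw⟩
  haveI : Fintype V := Fintype.ofFinite V
  refine ⟨Nat.card (MulAction.stabilizer G v), ?_⟩
  rw [← Nat.card_congr (MulAction.orbitProdStabilizerEquivGroup G v), Nat.card_prod, horb]
  congr 1
  rw [Nat.card_eq_fintype_card, Nat.card_eq_fintype_card, Fintype.card_compl_set,
    Set.card_singleton]

theorem exists_commutative_step {C A : Subgroup G} (hsol : Group.IsSolvable G) (hA : A.Normal)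
    (hC : C.Normal) (h : A < C) :
    ∃ D : Subgroup G, D.Normal ∧ A < D ∧ D ≤ C ∧
      ∀ x ∈ D, ∀ y ∈ D, x * y * x⁻¹ * y⁻¹ ∈ A := by
  classical
  haveI := hA
  haveI := hC
  let f := QuotientGroup.mk' A
  let D : ℕ → Subgroup (G ⧸ A) := fun n => (fun K => ⁅K, K⁆)^[n] (C.map f)
  have hD : ∀ n, (D n).Normal ∧ D n ≤ C.map f ∧ D n ≤ derivedSeries (G ⧸ A) n := by
    intro n
    induction n with
    | zero =>
      exact ⟨hC.map f (QuotientGroup.mk'_surjective A), le_rfl, le_top⟩
    | succ n ih =>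
      have e : D (n + 1) = ⁅D n, D n⁆ := Function.iterate_succ_apply' _ n _
      rw [e]
      haveI := ih.1
      exact ⟨inferInstance, Subgroup.commutator_le_self _ |>.trans ih.2.1,
        Subgroup.commutator_mono ih.2.2 ih.2.2⟩
  haveI := hsol
  obtain ⟨n, hn⟩ := (Group.isSolvable_def (G ⧸ A)).1 inferInstance
  have hbot : ∃ n, D n = ⊥ := ⟨n, eq_bot_iff.2 (hn ▸ (hD n).2.2)⟩
  have hpos : Nat.find hbot ≠ 0 := by
    intro h0
    have := Nat.find_spec hbot
    rw [h0] at this
    have : C ≤ A := by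
      intro c hc
      have hm : f c ∈ D 0 := Subgroup.mem_map_of_mem f hc
      rw [this] at hm
      exact (QuotientGroup.eq_one_iff c).1 hm
    exact h.not_ge this
  obtain ⟨k, hk⟩ : ∃ k, Nat.find hbot = k + 1 := ⟨Nat.find hbot - 1, by omega⟩
  have hne : D k ≠ ⊥ := Nat.find_min hbot (by omega)
  have hab : ⁅D k, D k⁆ = ⊥ := by
    have := Nat.find_spec hbot
    rw [hk] at this
    rwa [show D (k + 1) = ⁅D k, D k⁆ from Function.iterate_succ_apply' _ k _] at this
  haveI := (hD k).1
  refine ⟨(D k).comap f, inferInstance, lt_of_le_of_ne ?_ ?_, ?_, ?_⟩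
  · intro a ha
    show f a ∈ D k
    rw [show f a = 1 from (QuotientGroup.eq_one_iff a).2 ha]
    exact one_mem _
  · intro he
    refine hne ((Subgroup.eq_bot_iff_forall _).2 fun y hy => ?_)
    obtain ⟨x, rfl⟩ := QuotientGroup.mk'_surjective A y
    exact (QuotientGroup.eq_one_iff x).2 (he ▸ hy)
  · intro x hx
    obtain ⟨c, hc, hcx⟩ := (hD k).2.1 hx
    have : c⁻¹ * x ∈ A := QuotientGroup.eq.1 hcx
    simpa using C.mul_mem hc (h.le this)
  · intro x hx y hy
    have := Subgroup.commutator_mem_commutator (show f x ∈ D k from hx) (show f y ∈ D k from hy)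
    rw [hab, Subgroup.mem_bot, commutatorElement_def] at this
    refine (QuotientGroup.eq_one_iff _).1 ?_
    exact this

theorem dichotomy (hsol : Group.IsSolvable G) (hρ : Function.Injective ρ)
    (htrans : ∀ v w : V, v ≠ 0 → w ≠ 0 → ∃ g : G, ρ g v = w) :
    IsSemilinear ρ ∨ ∃ (m d : ℕ) (A B C : Subgroup G), Facts ρ m d A B C := by
  classical
  -- a maximal abelian normal subgroup
  obtain ⟨A, ⟨hA, hAc⟩, hAmax⟩ := Set.Finite.exists_maximal
    (s := {A : Subgroup G | A.Normal ∧ ∀ a ∈ A, ∀ b ∈ A, a * b = b * a}) (Set.toFinite _)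
    ⟨⊥, inferInstance, fun a ha b hb => by
      rw [Subgroup.mem_bot] at ha hb; rw [ha, hb]⟩
  haveI := hA
  have hz := fun {r} (hr : r ∈ spanRing ρ A) {v : V} (hv : v ≠ 0) (h0 : r v = 0) =>
    eq_zero_of_apply_eq_zero ρ htrans hA hAc hr hv h0
  set R := spanRing ρ A with hRdef
  haveI : Finite (Module.End (ZMod q) V) :=
    Finite.of_injective (fun f => (f : V → V)) DFunLike.coe_injective
  obtain ⟨v₀, hv₀⟩ := exists_ne (0 : V)
  letI : CommRing R :=
    { (inferInstance : Ring R) with
      mul_comm := fun a b => Subtype.ext (spanRing_comm ρ hAc a.2 b.2).eq }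
  haveI : Nontrivial R := ⟨0, 1, fun h => hv₀ (by
    have := congrArg (fun r : R => (r : Module.End (ZMod q) V) v₀) h
    simpa using this.symm)⟩
  haveI : NoZeroDivisors R := ⟨fun {a b} hab => by
    by_contra hne
    obtain ⟨ha, hb⟩ := not_or.1 hne
    obtain ⟨v, hv⟩ : ∃ v, (b : Module.End (ZMod q) V) v ≠ 0 := by
      by_contra hall
      push Not at hall
      exact hb (Subtype.ext (LinearMap.ext hall))
    exact ha (Subtype.ext (hz a.2 hv (LinearMap.congr_fun (congrArg Subtype.val hab) v)))⟩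
  haveI : IsDomain R := NoZeroDivisors.to_isDomain R
  letI : Field R := (Finite.isField_of_domain R).toField
  -- characteristic and degree
  haveI : CharP R q := by
    refine (CharP.charP_iff_prime_eq_zero Fact.out).2 ?_
    apply Subtype.ext
    push_cast
    ext v
    show (q : Module.End (ZMod q) V) v = 0
    rw [Module.End.natCast_apply, ← Nat.cast_smul_eq_nsmul (ZMod q), ZMod.natCast_self, zero_smul]
  letI : Algebra (ZMod q) R := ZMod.algebra R q
  set m := finrank (ZMod q) R with hm
  set d := finrank R V with hd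
  have hQ : Nat.card R = q ^ m := by
    rw [Module.natCard_eq_pow_finrank (K := ZMod q), Nat.card_zmod]
  have hmpos : 0 < m := Module.finrank_pos
  have hV : Nat.card V = (q ^ m) ^ d := by
    rw [Module.natCard_eq_pow_finrank (K := R), hQ]
  have hQ2 : 2 ≤ q ^ m :=
    le_trans (Fact.out (p := q.Prime)).two_le (Nat.le_self_pow hmpos.ne' q)
  have hdpos : 0 < d := Module.finrank_pos
  have horb : (q ^ m) ^ d - 1 ∣ Nat.card G := hV ▸ orbit_dvd ρ htrans
  -- Galois action
  let σR : G → (R ≃+* R) := fun g =>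
    { toFun := fun r => ⟨endo ρ g * r.1 * endo ρ g⁻¹, conj_mem_spanRing ρ hA g r.2⟩
      invFun := fun r => ⟨endo ρ g⁻¹ * r.1 * endo ρ g, by
        simpa using conj_mem_spanRing ρ hA g⁻¹ r.2⟩
      left_inv := fun r => Subtype.ext (by
        show endo ρ g⁻¹ * (endo ρ g * r.1 * endo ρ g⁻¹) * endo ρ g = r.1
        simp only [mul_assoc]
        rw [← mul_assoc (endo ρ g⁻¹) (endo ρ g), ← map_mul, inv_mul_cancel, map_one, one_mul,
          mul_one])
      right_inv := fun r => Subtype.ext (by
        show endo ρ g * (endo ρ g⁻¹ * r.1 * endo ρ g) * endo ρ g⁻¹ = r.1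
        simp only [mul_assoc]
        rw [← mul_assoc (endo ρ g) (endo ρ g⁻¹), ← map_mul, mul_inv_cancel, map_one, one_mul,
          mul_one])
      map_mul' := fun r s => Subtype.ext (by
        show endo ρ g * (r.1 * s.1) * endo ρ g⁻¹ =
          endo ρ g * r.1 * endo ρ g⁻¹ * (endo ρ g * s.1 * endo ρ g⁻¹)
        simp only [mul_assoc]
        rw [← mul_assoc (endo ρ g⁻¹) (endo ρ g), ← map_mul, inv_mul_cancel, map_one, one_mul])
      map_add' := fun r s => Subtype.ext (by
        show endo ρ g * (r.1 + s.1) * endo ρ g⁻¹ =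
          endo ρ g * r.1 * endo ρ g⁻¹ + endo ρ g * s.1 * endo ρ g⁻¹
        rw [mul_add, add_mul]) }
  let σ₀ : G → (R ≃ₐ[ZMod q] R) := fun g => AlgEquiv.ofRingEquiv (f := σR g) fun x => by
    have h := RingHom.ext_zmod
      ((σR g).toRingHom.comp (algebraMap (ZMod q) R)) (algebraMap (ZMod q) R)
    exact congrFun (congrArg DFunLike.coe h) x
  have hσval : ∀ g (r : R), ((σ₀ g r : R) : Module.End (ZMod q) V) =
      endo ρ g * r.1 * endo ρ g⁻¹ := fun g r => rfl
  let σ : G →* (R ≃ₐ[ZMod q] R) := MonoidHom.mk' σ₀ fun g h => by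
    refine AlgEquiv.ext fun r => Subtype.ext ?_
    rw [AlgEquiv.mul_apply, hσval, hσval, hσval, mul_inv_rev, map_mul, map_mul]
    simp only [mul_assoc]
  set C := Subgroup.centralizer (A : Set G) with hCdef
  haveI hC : C.Normal := Subgroup.normal_centralizer
  have hcen : ∀ c ∈ C, ∀ a ∈ A, c * a = a * c := fun c hc a ha =>
    ((Subgroup.mem_centralizer_iff.1 hc) a ha).symm
  have hAC : A ≤ C := fun a ha => Subgroup.mem_centralizer_iff.2 fun b hb => hAc b hb a ha
  have hker : σ.ker = C := by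
    ext g
    constructor
    · intro hg
      refine Subgroup.mem_centralizer_iff.2 fun a ha => (hρ.comp (fun x y h => h) ?_)
      have h1 := congrArg (fun f : R ≃ₐ[ZMod q] R => ((f ⟨_, endo_mem_spanRing ρ ha⟩ : R) :
        Module.End (ZMod q) V)) (MonoidHom.mem_ker.1 hg)
      have h2 : endo ρ g * endo ρ a * endo ρ g⁻¹ = endo ρ a := h1
      rw [← map_mul, ← map_mul] at h2
      have h3 := endo_injective ρ hρ h2
      show ρ (a * g) = ρ (g * a)
      rw [show a * g = g * a * g⁻¹ * g by rw [h3]]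
      group
    · intro hg
      rw [MonoidHom.mem_ker]
      refine AlgEquiv.ext fun r => Subtype.ext ?_
      show endo ρ g * r.1 * endo ρ g⁻¹ = r.1
      rw [(commute_spanRing ρ (hcen g hg) r.2).eq, mul_assoc, ← map_mul, mul_inv_cancel, map_one,
        mul_one]
  have hidx : C.index ∣ m := by
    haveI : Finite R := inferInstance
    rw [← hker, Subgroup.index_ker]
    exact (Subgroup.card_subgroup_dvd_card σ.range).trans
      (dvd_of_eq (by
        rw [IsGalois.card_aut_eq_finrank]
        refine Nat.pow_right_injective (Fact.out (p := q.Prime)).two_le ?_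
        show q ^ _ = q ^ m
        have h := @Module.natCard_eq_pow_finrank (ZMod q) R _ _ Algebra.toModule _
        rw [Nat.card_zmod] at h
        rw [← h, hQ]))
  -- `A` embeds in the units of `R`
  let ψ : A →* Rˣ :=
    { toFun := fun a => ⟨⟨endo ρ a, endo_mem_spanRing ρ a.2⟩,
        ⟨endo ρ (a⁻¹ : A), endo_mem_spanRing ρ (a⁻¹).2⟩,
        Subtype.ext (show endo ρ a * endo ρ (a⁻¹ : A) = 1 by
          rw [← map_mul, ← Subgroup.coe_mul, mul_inv_cancel, Subgroup.coe_one, map_one]),
        Subtype.ext (show endo ρ (a⁻¹ : A) * endo ρ a = 1 by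
          rw [← map_mul, ← Subgroup.coe_mul, inv_mul_cancel, Subgroup.coe_one, map_one])⟩
      map_one' := Units.ext (Subtype.ext (map_one (endo ρ)))
      map_mul' := fun a b => Units.ext (Subtype.ext (map_mul (endo ρ) a.1 b.1)) }
  have hψ : Function.Injective ψ := fun a b h =>
    Subtype.ext (endo_injective ρ hρ (congrArg (fun u : Rˣ => ((u : R) : Module.End (ZMod q) V)) h))
  have hcardA : Nat.card A ∣ q ^ m - 1 := by
    refine (Subgroup.card_dvd_of_injective ψ hψ).trans ?_
    rw [Nat.card_units, hQ]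
  by_cases hd1 : d = 1
  · -- semilinear
    left
    haveI : Fintype R := Fintype.ofFinite R
    letI : Fintype (GaloisField q m) := Fintype.ofFinite _
    have hcardR : Fintype.card R = Fintype.card (GaloisField q m) := by
      rw [← Nat.card_eq_fintype_card, ← Nat.card_eq_fintype_card, hQ, GaloisField.card q m hmpos.ne']
    let ι : R ≃+* GaloisField q m := FiniteField.ringEquivOfCardEq hcardR
    let ev : R →+ V :=
      { toFun := fun r => (r : Module.End (ZMod q) V) v₀
        map_zero' := rfl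
        map_add' := fun r s => rfl }
    have hev : Function.Bijective ev := by
      rw [Nat.bijective_iff_injective_and_card]
      refine ⟨(injective_iff_map_eq_zero ev).2 fun r hr => Subtype.ext (hz r.2 hv₀ hr), ?_⟩
      rw [hV, hd1, pow_one, hQ]
    let e₀ : R ≃+ V := AddEquiv.ofBijective ev hev
    refine ⟨GaloisField q m, inferInstance, inferInstance, e₀.symm.trans ι.toAddEquiv, fun g => ?_⟩
    refine ⟨ι (e₀.symm (ρ g v₀)), ι.symm.trans ((σ g).toRingEquiv.trans ι), fun v => ?_⟩
    obtain ⟨r, rfl⟩ := e₀.surjective v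
    show ι (e₀.symm (ρ g (e₀ r))) =
      ι (e₀.symm (ρ g v₀)) * ι (σ g (ι.symm (ι (e₀.symm (e₀ r)))))
    rw [AddEquiv.symm_apply_apply, RingEquiv.symm_apply_apply, ← map_mul]
    congr 1
    apply e₀.injective
    rw [AddEquiv.apply_symm_apply, mul_comm]
    show ρ g ((r : Module.End (ZMod q) V) v₀) =
      ((σ₀ g r : R) : Module.End (ZMod q) V) ((e₀.symm (ρ g v₀) : R).1 v₀)
    have : (e₀.symm (ρ g v₀) : R).1 v₀ = ρ g v₀ := e₀.apply_symm_apply (ρ g v₀)
    have hinv : endo ρ g⁻¹ (ρ g v₀) = v₀ := by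
      show ρ g⁻¹ (ρ g v₀) = v₀
      rw [map_inv]; exact (ρ g).symm_apply_apply v₀
    rw [this, hσval, Module.End.mul_apply, Module.End.mul_apply, hinv]
    rfl
  right
  have hd2 : 2 ≤ d := by omega
  have hAltC : A < C := by
    refine lt_of_le_of_ne hAC fun he => ?_
    have h1 : Nat.card G ∣ m * (q ^ m - 1) := by
      rw [← Subgroup.card_mul_index C, mul_comm]
      exact Nat.mul_dvd_mul hidx (he ▸ hcardA)
    have h2 : (q ^ m) ^ d - 1 ≤ m * (q ^ m - 1) :=
      Nat.le_of_dvd (Nat.mul_pos hmpos (by omega)) (horb.trans h1)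
    have h3 : (q ^ m) ^ 2 ≤ (q ^ m) ^ d := Nat.pow_le_pow_right (by omega) hd2
    have h4 : m < q ^ m := Nat.lt_pow_self (Fact.out (p := q.Prime)).one_lt
    have h5 : m * (q ^ m - 1) < (q ^ m) ^ 2 - 1 := by
      rw [sq, Nat.mul_sub_one]
      have : m * q ^ m + q ^ m ≤ q ^ m * q ^ m := by
        rw [← Nat.succ_mul]; exact Nat.mul_le_mul_right _ h4
      have : 1 ≤ m * q ^ m := by
        exact Nat.one_le_iff_ne_zero.2 (Nat.mul_ne_zero hmpos.ne' (by omega))
      omega
    omega
  -- the maximal class two normal subgroup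
  obtain ⟨B, ⟨hB, hAB, hBC, hBcomm⟩, hBmax⟩ := Set.Finite.exists_maximal
    (s := {B : Subgroup G | B.Normal ∧ A ≤ B ∧ B ≤ C ∧
      ∀ x ∈ B, ∀ y ∈ B, x * y * x⁻¹ * y⁻¹ ∈ A}) (Set.toFinite _)
    ⟨A, hA, le_rfl, hAC, fun x hx y hy => by
      exact A.mul_mem (A.mul_mem (A.mul_mem hx hy) (A.inv_mem hx)) (A.inv_mem hy)⟩
  haveI := hB
  have hBA : ¬ B ≤ A := by
    intro h
    obtain ⟨D, hD, hAD, hDC, hDcomm⟩ := exists_commutative_step hsol hA hC hAltC
    exact hAD.not_ge ((hBmax ⟨hD, hAD.le, hDC, hDcomm⟩ (h.trans hAD.le)).trans h)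
  have hcentre : ∀ x ∈ B, (∀ y ∈ B, x * y = y * x) → x ∈ A := by
    intro x hx hxy
    set Z := B ⊓ Subgroup.centralizer (B : Set G)
    have hZ : Z.Normal := by
      haveI : (Subgroup.centralizer (B : Set G)).Normal := Subgroup.normal_centralizer
      infer_instance
    have hxZ : x ∈ Z := ⟨hx, Subgroup.mem_centralizer_iff.2 fun y hy => (hxy y hy).symm⟩
    have hAZ : A ≤ Z := fun a ha => ⟨hAB ha, Subgroup.mem_centralizer_iff.2 fun y hy =>
      hcen y (hBC hy) a ha⟩
    exact hAmax ⟨hZ, fun a ha b hb => (Subgroup.mem_centralizer_iff.1 ha.2 b hb.1).symm⟩ hAZ hxZ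
  have hcentB : C ⊓ Subgroup.centralizer (B : Set G) ≤ A := by
    by_contra hne
    set D := C ⊓ Subgroup.centralizer (B : Set G) with hDdef
    have hDn : D.Normal := by
      haveI : (Subgroup.centralizer (B : Set G)).Normal := Subgroup.normal_centralizer
      infer_instance
    have hAD : A ≤ D := fun a ha => ⟨hAC ha, Subgroup.mem_centralizer_iff.2 fun y hy =>
      hcen y (hBC hy) a ha⟩
    obtain ⟨D₁, hD₁, hAD₁, hD₁D, hD₁comm⟩ :=
      exists_commutative_step hsol hA hDn (lt_of_le_of_ne hAD fun e => hne e.ge)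
    have hcomm : ∀ x ∈ B ⊔ D₁, ∀ y ∈ B ⊔ D₁, x * y * x⁻¹ * y⁻¹ ∈ A := by
      intro x hx y hy
      haveI := hD₁
      obtain ⟨b, hb, a, ha, rfl⟩ := Subgroup.mem_sup_of_normal_right.1 hx
      obtain ⟨b', hb', a', ha', rfl⟩ := Subgroup.mem_sup_of_normal_right.1 hy
      rw [← QuotientGroup.eq_one_iff]
      have c1 := (QuotientGroup.eq_one_iff (N := A) _).2 (hBcomm b hb b' hb')
      have c2 := (QuotientGroup.eq_one_iff (N := A) _).2 (hD₁comm a ha a' ha')
      have c3 : b * a' = a' * b := (Subgroup.mem_centralizer_iff.1 (hD₁D ha').2 b hb)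
      have c4 : b' * a = a * b' := (Subgroup.mem_centralizer_iff.1 (hD₁D ha).2 b' hb')
      have e1 : Commute (b : G ⧸ A) b' := by
        simp only [QuotientGroup.mk_mul, QuotientGroup.mk_inv] at c1
        exact mul_inv_eq_iff_eq_mul.1 (mul_inv_eq_one.1 c1)
      have e2 : Commute (a : G ⧸ A) a' := by
        simp only [QuotientGroup.mk_mul, QuotientGroup.mk_inv] at c2
        exact mul_inv_eq_iff_eq_mul.1 (mul_inv_eq_one.1 c2)
      have e3 : Commute (b : G ⧸ A) a' := congrArg (QuotientGroup.mk' A) c3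
      have e4 : Commute (a : G ⧸ A) b' := (congrArg (QuotientGroup.mk' A) c4).symm
      have : Commute ((b : G ⧸ A) * a) (b' * a') :=
        (e1.mul_right e3).mul_left (e4.mul_right e2)
      simp only [QuotientGroup.mk_mul, QuotientGroup.mk_inv]
      rw [this.eq]
      group
    haveI := hD₁
    have hle : D₁ ≤ B := le_sup_right.trans (hBmax
      ⟨inferInstance, hAB.trans le_sup_left, sup_le hBC (hD₁D.trans inf_le_left), hcomm⟩
      le_sup_left)
    refine hAD₁.not_ge fun x hx => hcentre x (hle hx) fun y hy => ?_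
    exact (Subgroup.mem_centralizer_iff.1 (hD₁D hx).2 y hy).symm
  -- the linear representation of `B` over `R`
  let τ : B →* Module.End R V :=
    { toFun := fun b =>
        { toFun := fun v => ρ b v
          map_add' := fun v w => map_add _ v w
          map_smul' := fun r v => by
            show ρ b ((r : Module.End (ZMod q) V) v) = (r : Module.End (ZMod q) V) (ρ b v)
            exact LinearMap.congr_fun (commute_spanRing ρ (hcen b (hBC b.2)) r.2).eq v }
      map_one' := LinearMap.ext fun v => by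
        show ρ ((1 : B) : G) v = v
        rw [Subgroup.coe_one, map_one]; rfl
      map_mul' := fun a b => LinearMap.ext fun v => by
        show ρ ((a * b : B) : G) v = ρ a (ρ b v)
        rw [Subgroup.coe_mul, map_mul]; rfl }
  have hZB : Subgroup.center B = A.subgroupOf B := by
    ext x
    rw [Subgroup.mem_center_iff, Subgroup.mem_subgroupOf]
    exact ⟨fun h => hcentre x x.2 fun y hy => (congrArg Subtype.val (h ⟨y, hy⟩)).symm,
      fun h y => Subtype.ext (hcen y (hBC y.2) x h)⟩
  have hN : (Subgroup.center B).index = A.relIndex B := by rw [hZB]; rfl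
  have H : ClassTwoRep τ :=
    { inj := fun a b h => Subtype.ext (hρ (LinearEquiv.ext fun v => LinearMap.congr_fun h v))
      scal := fun z hz => by
        rw [hZB, Subgroup.mem_subgroupOf] at hz
        exact ⟨⟨_, endo_mem_spanRing ρ hz⟩, LinearMap.ext fun v => rfl⟩
      comm := fun x y => by
        rw [hZB, Subgroup.mem_subgroupOf]
        exact hBcomm x x.2 y y.2 }
  have hZne : Subgroup.center B ≠ ⊤ := by
    rw [hZB, Ne, Subgroup.subgroupOf_eq_top]
    exact hBA
  have hN1 : A.relIndex B ≠ 1 := by rwa [Ne, Subgroup.relIndex_eq_one]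
  -- the action of `C` on `B ⧸ A`
  set AB := A.subgroupOf B with hABdef
  haveI : AB.Normal := hZB ▸ inferInstance
  let cj : C → B → B := fun c b => ⟨c * b * (c : G)⁻¹, hB.conj_mem b b.2 c⟩
  have hcjA : ∀ (c : C) (b b' : B), (b : B ⧸ AB) = b' → (cj c b : B ⧸ AB) = cj c b' := by
    intro c b b' h
    rw [QuotientGroup.eq, Subgroup.mem_subgroupOf] at h ⊢
    have e : (((cj c b)⁻¹ * cj c b' : B) : G) = c * ((b : G)⁻¹ * b') * (c : G)⁻¹ := by
      simp [cj, mul_assoc]
    rw [e]
    exact hA.conj_mem _ h c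
  let act : C →* Equiv.Perm (B ⧸ AB) :=
    { toFun := fun c =>
        { toFun := Quotient.lift (fun b => (cj c b : B ⧸ AB))
            (fun b b' h => hcjA c b b' (Quotient.sound h))
          invFun := Quotient.lift (fun b => (cj c⁻¹ b : B ⧸ AB))
            (fun b b' h => hcjA c⁻¹ b b' (Quotient.sound h))
          left_inv := fun x => by
            obtain ⟨b, rfl⟩ := QuotientGroup.mk_surjective x
            exact congrArg QuotientGroup.mk (Subtype.ext (by simp [cj, mul_assoc]))
          right_inv := fun x => by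
            obtain ⟨b, rfl⟩ := QuotientGroup.mk_surjective x
            exact congrArg QuotientGroup.mk (Subtype.ext (by simp [cj, mul_assoc])) }
      map_one' := Equiv.ext fun x => by
        obtain ⟨b, rfl⟩ := QuotientGroup.mk_surjective x
        exact congrArg QuotientGroup.mk (Subtype.ext (by simp [cj]))
      map_mul' := fun c c' => Equiv.ext fun x => by
        obtain ⟨b, rfl⟩ := QuotientGroup.mk_surjective x
        exact congrArg QuotientGroup.mk (Subtype.ext (by simp [cj, mul_assoc])) }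
  have hact : ∀ (c : C) (b : B), act c (b : B ⧸ AB) = (cj c b : B ⧸ AB) := fun c b => rfl
  have hact1 : ∀ c, act c 1 = 1 := fun c =>
    congrArg QuotientGroup.mk (Subtype.ext (by simp [cj]))
  have hactmul : ∀ c x y, act c (x * y) = act c x * act c y := by
    intro c x y
    obtain ⟨a, rfl⟩ := QuotientGroup.mk_surjective x
    obtain ⟨b, rfl⟩ := QuotientGroup.mk_surjective y
    rw [← QuotientGroup.mk_mul, hact, hact, hact, ← QuotientGroup.mk_mul]
    exact congrArg QuotientGroup.mk (Subtype.ext (by simp [cj, mul_assoc]))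
  have hkeract : act.ker = B.subgroupOf C := by
    -- `⊇`
    have hsup : B.subgroupOf C ≤ act.ker := by
      intro c hc
      rw [MonoidHom.mem_ker]
      refine Equiv.ext fun x => ?_
      obtain ⟨b, rfl⟩ := QuotientGroup.mk_surjective x
      rw [hact, Equiv.Perm.one_apply, eq_comm, QuotientGroup.eq, Subgroup.mem_subgroupOf]
      have := hBcomm _ (B.inv_mem b.2) c hc
      simpa [cj, mul_assoc] using this
    -- counting characters
    let χ : act.ker → (B ⧸ AB → R) := fun c x =>
      ⟨endo ρ ((c.1 : G) * x.out * (c.1 : G)⁻¹ * (x.out : G)⁻¹), endo_mem_spanRing ρ (by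
        have h1 := congrArg (fun f : Equiv.Perm (B ⧸ AB) => f x) (MonoidHom.mem_ker.1 c.2)
        rw [Equiv.Perm.one_apply, ← QuotientGroup.out_eq' x, hact] at h1
        have h2 := QuotientGroup.eq.1 h1.symm
        rw [Subgroup.mem_subgroupOf] at h2
        have h3 := hA.conj_mem _ h2 (x.out : G)
        simpa [cj, mul_assoc, QuotientGroup.out_eq'] using h3)⟩
    have hmul : ∀ (c : act.ker) (b : B), (χ c (b : B ⧸ AB) : Module.End (ZMod q) V) =
        endo ρ ((c.1 : G) * b * (c.1 : G)⁻¹ * (b : G)⁻¹) := by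
      intro c b
      show endo ρ _ = _
      congr 1
      set b' := Quotient.out (b : B ⧸ AB) with hb'
      have hz : (b : G)⁻¹ * b' ∈ A := by
        have := QuotientGroup.eq.1 (QuotientGroup.out_eq' (b : B ⧸ AB)).symm
        rwa [Subgroup.mem_subgroupOf] at this
      obtain ⟨z, hz, hzb⟩ : ∃ z ∈ A, (b' : G) = b * z :=
        ⟨(b : G)⁻¹ * b', hz, by group⟩
      rw [hzb]
      have hcz := hcen _ c.1.2 z hz
      calc (c.1 : G) * (b * z) * (c.1 : G)⁻¹ * (b * z : G)⁻¹
          = (c.1 : G) * b * ((c.1 : G) ⁻¹ * ((c.1 : G) * z)) * (c.1 : G)⁻¹ * (z⁻¹ * (b : G)⁻¹) := by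
            group
        _ = (c.1 : G) * b * (c.1 : G)⁻¹ * (b : G)⁻¹ := by rw [hcz]; group
    let χ' : act.ker → (B ⧸ AB →* R) := fun c =>
      { toFun := χ c
        map_one' := Subtype.ext (by
          show (χ c ((1 : B) : B ⧸ AB) : Module.End (ZMod q) V) = 1
          rw [hmul]; simp)
        map_mul' := fun x y => by
          obtain ⟨a, rfl⟩ := QuotientGroup.mk_surjective x
          obtain ⟨b, rfl⟩ := QuotientGroup.mk_surjective y
          apply Subtype.ext
          rw [← QuotientGroup.mk_mul]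
          show (χ c _ : Module.End (ZMod q) V) = (χ c _ : Module.End (ZMod q) V) * (χ c _ : _)
          rw [hmul, hmul, hmul, ← map_mul]
          congr 1
          have hzb : (c.1 : G) * b * (c.1 : G)⁻¹ * (b : G)⁻¹ ∈ A := by
            have h1 := congrArg (fun f : Equiv.Perm (B ⧸ AB) => f (b : B ⧸ AB))
              (MonoidHom.mem_ker.1 c.2)
            rw [Equiv.Perm.one_apply, hact] at h1
            have h2 := QuotientGroup.eq.1 h1.symm
            rw [Subgroup.mem_subgroupOf] at h2
            have h3 := hA.conj_mem _ h2 (b : G)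
            simpa [cj, mul_assoc] using h3
          have e := hcen a (hBC a.2) _ hzb
          push_cast
          calc (c.1 : G) * (a * b) * (c.1 : G)⁻¹ * (a * b : G)⁻¹
              = (c.1 : G) * a * (c.1 : G)⁻¹ *
                ((c.1 : G) * b * (c.1 : G)⁻¹ * (b : G)⁻¹ * (a : G)⁻¹) := by group
            _ = _ := by
              have e' := hcen _ (inv_mem (hBC a.2)) _ hzb
              rw [← e']
              group }
    haveI : Fintype (B ⧸ AB) := Fintype.ofFinite _
    have hfib : ∀ c c', χ' c = χ' c' → (c.1 : G)⁻¹ * c'.1 ∈ A := by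
      intro c c' h
      refine hcentB ⟨C.mul_mem (C.inv_mem c.1.2) c'.1.2, Subgroup.mem_centralizer_iff.2 fun b hb => ?_⟩
      have h1 := congrArg (fun f : B ⧸ AB →* R => ((f ((⟨b, hb⟩ : B) : B ⧸ AB) : R) :
        Module.End (ZMod q) V)) h
      have h2 := endo_injective ρ hρ ((hmul c ⟨b, hb⟩).symm.trans (h1.trans (hmul c' ⟨b, hb⟩)))
      simp only at h2
      have h3 : (c.1 : G) * b * (c.1 : G)⁻¹ = (c'.1 : G) * b * (c'.1 : G)⁻¹ := mul_right_cancel h2
      calc b * ((c.1 : G)⁻¹ * c'.1)
          = (c.1 : G)⁻¹ * ((c.1 : G) * b * (c.1 : G)⁻¹) * c'.1 := by group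
        _ = (c.1 : G)⁻¹ * c'.1 * b := by rw [h3]; group
    have hhom : Nat.card (B ⧸ AB →* R) ≤ Nat.card (B ⧸ AB) := by
      haveI : Finite (B ⧸ AB →* R) := Finite.of_injective _ DFunLike.coe_injective
      haveI : Fintype (B ⧸ AB →* R) := Fintype.ofFinite _
      have := (linearIndependent_monoidHom (B ⧸ AB) R).fintype_card_le_finrank
      rwa [Module.finrank_fintype_fun_eq_card, ← Nat.card_eq_fintype_card,
        ← Nat.card_eq_fintype_card] at this
    have hle : Nat.card act.ker ≤ Nat.card A * Nat.card (B ⧸ AB) := by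
      let rep : (B ⧸ AB →* R) → act.ker := fun f => if h : ∃ c, χ' c = f then h.choose else 1
      let F : A × (B ⧸ AB →* R) → act.ker := fun p =>
        rep p.2 * ⟨⟨p.1, hAC p.1.2⟩, hsup (hAB p.1.2)⟩
      have hF : Function.Surjective F := by
        intro c
        have hex : ∃ c', χ' c' = χ' c := ⟨c, rfl⟩
        have hmem := hfib (rep (χ' c)) c (by simp only [rep, dif_pos hex]; exact hex.choose_spec)
        refine ⟨(⟨_, hmem⟩, χ' c), Subtype.ext (Subtype.ext ?_)⟩
        show ((rep (χ' c)).1 : G) * (((rep (χ' c)).1 : G)⁻¹ * c.1) = c.1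
        group
      haveI : Finite (B ⧸ AB →* R) := Finite.of_injective _ DFunLike.coe_injective
      refine (Nat.card_le_card_of_surjective F hF).trans ?_
      rw [Nat.card_prod]
      exact Nat.mul_le_mul_left _ hhom
    refine (Subgroup.eq_of_le_of_card_ge hsup ?_).symm
    rw [Nat.card_congr (Subgroup.subgroupOfEquivOfLe hBC).toEquiv]
    refine hle.trans (le_of_eq ?_)
    rw [← Subgroup.index_eq_card, ← Nat.card_congr (Subgroup.subgroupOfEquivOfLe hAB).toEquiv]
    exact Subgroup.card_mul_index AB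
  have haut : ∀ p : ℕ, p.Prime → p ∣ B.relIndex C →
      ∃ f : ℕ, f ∣ A.relIndex B ∧ f < A.relIndex B ∧ f ≡ A.relIndex B [MOD p] := by
    intro p hp hdvd
    haveI : Fact p.Prime := ⟨hp⟩
    haveI : (B.subgroupOf C).Normal := hkeract ▸ inferInstance
    rw [Subgroup.relIndex, Subgroup.index_eq_card] at hdvd
    obtain ⟨x, hx⟩ := exists_prime_orderOf_dvd_card' p hdvd
    obtain ⟨c, rfl⟩ := QuotientGroup.mk_surjective x
    have hc : act c ≠ 1 := by
      intro h
      have : c ∈ B.subgroupOf C := hkeract ▸ (MonoidHom.mem_ker.2 h)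
      rw [(QuotientGroup.eq_one_iff c).2 this, orderOf_one] at hx
      exact hp.ne_one hx.symm
    have hcp : act c ^ p = 1 := by
      rw [← map_pow, ← MonoidHom.mem_ker, hkeract, ← QuotientGroup.eq_one_iff, QuotientGroup.mk_pow,
        ← hx, pow_orderOf_eq_one]
    let Fix : Subgroup (B ⧸ AB) :=
      { carrier := {x | act c x = x}
        one_mem' := hact1 c
        mul_mem' := fun {a b} ha hb => by
          show act c (a * b) = a * b
          rw [hactmul, show act c a = a from ha, show act c b = b from hb]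
        inv_mem' := fun {a} ha => by
          show act c a⁻¹ = a⁻¹
          refine eq_inv_of_mul_eq_one_left ?_
          calc act c a⁻¹ * a = act c a⁻¹ * act c a := by rw [show act c a = a from ha]
            _ = 1 := by rw [← hactmul, inv_mul_cancel, hact1] }
    haveI : Fintype (B ⧸ AB) := Fintype.ofFinite _
    refine ⟨Nat.card Fix, ?_, ?_, ?_⟩
    · rw [Subgroup.relIndex, Subgroup.index_eq_card]
      exact Subgroup.card_subgroup_dvd_card Fix
    · rw [Subgroup.relIndex, Subgroup.index_eq_card]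
      refine lt_of_le_of_ne (Subgroup.card_le_card_group Fix) fun h => hc ?_
      have htop := Subgroup.eq_top_of_card_eq Fix h
      exact Equiv.ext fun x => show x ∈ Fix from htop ▸ Subgroup.mem_top x
    · rw [Subgroup.relIndex, Subgroup.index_eq_card, Nat.card_eq_fintype_card (α := B ⧸ AB)]
      have h1 := Equiv.Perm.card_compl_support_modEq (p := p) (n := 1) (σ := act c)
        (by rw [pow_one]; exact hcp)
      have h2 : Nat.card Fix = ((act c).supportᶜ).card := by
        rw [← Nat.card_eq_finsetCard]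
        exact Nat.card_congr (Equiv.subtypeEquivRight fun x => by
          simp [Equiv.Perm.mem_support, Fix, Subgroup.mem_mk])
      rw [h2]; exact h1
  have hsix : A.relIndex B = 4 → B.relIndex C ∣ 6 ∧
      (2 ∣ B.relIndex C → ∃ N : Subgroup C, N.Normal ∧ N.index = 2) := by
    intro h4
    haveI : Fintype (B ⧸ AB) := Fintype.ofFinite _
    have hc4 : Nat.card (B ⧸ AB) = 4 := by rw [← Subgroup.index_eq_card]; exact h4
    let S : Subgroup (Equiv.Perm (B ⧸ AB)) := MulAction.stabilizer _ (1 : B ⧸ AB)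
    have hS : Nat.card S = 6 := by
      have h1 : (MulAction.stabilizer (Equiv.Perm (B ⧸ AB)) (1 : B ⧸ AB)).index = 4 := by
        rw [MulAction.index_stabilizer_of_transitive, hc4]
      have h2 := Subgroup.card_mul_index S
      rw [h1, Nat.card_perm, hc4] at h2
      norm_num [Nat.factorial] at h2
      rw [Nat.card_eq_fintype_card]
      omega
    have hrange : act.range ≤ S := by
      rintro _ ⟨c, rfl⟩
      exact hact1 c
    have hidxker : B.relIndex C = Nat.card act.range := by
      rw [Subgroup.relIndex, ← hkeract, Subgroup.index_ker]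
    refine ⟨?_, fun h2 => ?_⟩
    · rw [hidxker, ← hS]
      exact Subgroup.card_dvd_of_le hrange
    · haveI : Fact (Nat.Prime 2) := ⟨Nat.prime_two⟩
      rw [hidxker] at h2
      obtain ⟨⟨s, c, hcs⟩, hs⟩ := exists_prime_orderOf_dvd_card' (G := act.range) 2 h2
      have hs2 : orderOf s = 2 := by rw [← hs, ← Subgroup.orderOf_coe]
      have hs1 : s (1 : B ⧸ AB) = 1 := hrange ⟨c, hcs⟩
      have hsupp : s.support.card ≤ 3 := by
        have : s.support ⊆ (Finset.univ : Finset (B ⧸ AB)).erase 1 := fun x hx => by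
          refine Finset.mem_erase.2 ⟨fun h => ?_, Finset.mem_univ _⟩
          rw [h, Equiv.Perm.mem_support] at hx
          exact hx hs1
        refine (Finset.card_le_card this).trans ?_
        rw [Finset.card_erase_of_mem (Finset.mem_univ _), Finset.card_univ,
          ← Nat.card_eq_fintype_card, hc4]
      have hsign : Equiv.Perm.sign s = -1 := by
        have h2' : s.support.card ≠ 0 := by
          rw [Ne, Finset.card_eq_zero, Equiv.Perm.support_eq_empty_iff]
          intro h; rw [h, orderOf_one] at hs2; omega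
        have h3 := Equiv.Perm.card_compl_support_modEq (p := 2) (n := 1) (σ := s)
          (by rw [pow_one, ← hs2, pow_orderOf_eq_one])
        rw [Finset.card_compl, ← Nat.card_eq_fintype_card, hc4] at h3
        have h4' : s.support.card = 2 := by
          have := Equiv.Perm.one_lt_card_support_of_ne_one
            (show s ≠ 1 by intro h; rw [h, orderOf_one] at hs2; omega)
          unfold Nat.ModEq at h3
          omega
        exact (Equiv.Perm.card_support_eq_two.1 h4').sign_eq
      let θ : C →* ℤˣ := Equiv.Perm.sign.comp act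
      have hθ : Function.Surjective θ := by
        intro u
        rcases Int.units_eq_one_or u with rfl | rfl
        · exact ⟨1, map_one θ⟩
        · exact ⟨c, by show Equiv.Perm.sign (act c) = -1; rw [hcs, hsign]⟩
      refine ⟨θ.ker, inferInstance, ?_⟩
      rw [Subgroup.index_ker, MonoidHom.range_eq_top_of_surjective θ hθ, Subgroup.card_top,
        Nat.card_eq_fintype_card, Fintype.card_units_int]
  have hNle : A.relIndex B ≤ d * d := hN ▸ index_center_le H
  have hroots : ∀ r : ℕ, r.Prime → r ∣ A.relIndex B → r ∣ q ^ m - 1 ∧ r ∣ d := by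
    intro r hr hrN
    obtain ⟨k, hk1, hkr, hkd⟩ := exists_root_of_prime_dvd H hr (hN.symm ▸ hrN)
    haveI : Fact r.Prime := ⟨hr⟩
    have hord : orderOf k = r := orderOf_eq_prime hkr hk1
    refine ⟨?_, hord ▸ orderOf_dvd_of_pow_eq_one hkd⟩
    have hk0 : k ≠ 0 := fun h => by rw [h, zero_pow hr.ne_zero] at hkr; exact zero_ne_one hkr
    have h1 : orderOf (Units.mk0 k hk0) ∣ Nat.card Rˣ := orderOf_dvd_natCard _
    rw [← orderOf_units, Units.val_mk0, hord, Nat.card_units, hQ] at h1
    exact h1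
  have hcount : A.relIndex B ≠ 4 → ∀ v : V, v ≠ 0 → ∃ x ∉ Subgroup.center B, τ x v = v := by
    intro h4 v hv
    obtain ⟨x, hx, w, hw, hxw⟩ : ∃ x ∉ Subgroup.center B, ∃ w : V, w ≠ 0 ∧ τ x w = w := by
      by_contra hall
      push Not at hall
      exact h4 (hN ▸ index_center_eq_four H hZne hall)
    obtain ⟨g, hg⟩ := htrans w v hw hv
    refine ⟨⟨g * x * g⁻¹, hB.conj_mem x x.2 g⟩, fun h => hx ?_, ?_⟩
    · rw [hZB, Subgroup.mem_subgroupOf] at h ⊢
      have := hA.conj_mem _ h g⁻¹
      simpa [mul_assoc] using this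
    · show ρ (g * x * g⁻¹) v = v
      rw [← hg, map_mul, map_mul]
      show ρ g (ρ x (ρ g⁻¹ (ρ g w))) = ρ g w
      rw [show ρ g⁻¹ (ρ g w) = w by rw [map_inv]; exact (ρ g).symm_apply_apply w]
      rw [show ρ x w = w from hxw]
  refine ⟨m, d, A, B, C, hmpos, hd2, hV, hAB, hBC, hA, hB, hC, hidx, hcardA, hcen, hBcomm,
    hcentre, fun c hc h => hcentB ⟨hc, Subgroup.mem_centralizer_iff.2 fun y hy => (h y hy).symm⟩,
    fun Y hY hYc hAY => hAmax ⟨hY, hYc⟩ hAY, hNle, hN1, ?_, hroots, haut, fun h => (hsix h).1, fun h => (hsix h).2, ?_, ?_, ?_,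
    horb⟩
  · intro hp
    haveI : IsCyclic (B ⧸ Subgroup.center B) := by
      haveI : Fact (A.relIndex B).Prime := ⟨hp⟩
      exact isCyclic_of_prime_card (p := A.relIndex B) (by rw [← Subgroup.index_eq_card]; exact hN)
    refine hZne (eq_top_iff.2 fun x _ => Subgroup.mem_center_iff.2 fun y => ?_)
    exact commutative_of_cyclic_center_quotient (QuotientGroup.mk' (Subgroup.center B))
      (by rw [QuotientGroup.ker_mk']) y x
  · intro h4 hev
    have hc := count_le H (t := 2) (d / 2) (hcount h4)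
      (fun x hx k => (eigenspace_bound H hx k).1) two_pos rfl
    rw [hN, hQ] at hc
    obtain ⟨h, hh⟩ := hev
    have h2 : d / 2 = h := by omega
    have hpos : 1 < (q ^ m) ^ h := Nat.one_lt_pow (by omega) (by omega)
    rw [← hd, h2] at hc
    rw [h2]
    have e : (q ^ m) ^ d - 1 = ((q ^ m) ^ h + 1) * ((q ^ m) ^ h - 1) := by
      rw [hh, pow_add]
      generalize (q ^ m) ^ h = a at hpos
      obtain ⟨b, rfl⟩ : ∃ b, a = b + 1 := ⟨a - 1, by omega⟩
      rw [Nat.add_sub_cancel, show (b + 1) * (b + 1) = (b + 1 + 1) * b + 1 by ring,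
        Nat.add_sub_cancel]
    rw [e, hh] at hc
    refine Nat.le_of_mul_le_mul_right ?_ (show 0 < h * ((q ^ m) ^ h - 1) from
      Nat.mul_pos (by omega) (by omega))
    calc ((q ^ m) ^ h + 1) * (h * ((q ^ m) ^ h - 1))
        = h * (((q ^ m) ^ h + 1) * ((q ^ m) ^ h - 1)) := by ring
      _ ≤ _ := hc
      _ = _ := by ring
  · intro h4 hodd
    have hc := count_le H (t := 3) (d / 3) (hcount h4)
      (fun x hx k => (eigenspace_bound H hx k).2 (hd ▸ hodd)) (by norm_num) rfl
    rw [hN, hQ] at hc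
    exact hc
  · intro hreg
    refine hN ▸ index_center_eq_four H hZne fun x hx v hv h => hx ?_
    have : (x : G) = 1 := hreg v hv x h
    rw [show x = 1 from Subtype.ext this]
    exact one_mem _

end Cfsg.Agent.Lib.Spectrum.Huppert
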