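import Mathlib

/-!
# Element orders and independent primes in the prime graph
-/

namespace Cfsg.Agent.Lib.Spectrum.Basic

variable {G : Type*} [Group G]

/-- Element-order sets are invariant under isomorphism. -/
theorem range_orderOf_congr {H : Type*} [Group H] (e : G ≃* H) :
    Set.range (orderOf : G → ℕ) = Set.range (orderOf : H → ℕ) := by
  ext k
  refine ⟨fun ⟨g, hg⟩ => ⟨e g, ?_⟩, fun ⟨h, hh⟩ => ⟨e.symm h, ?_⟩⟩
  · rw [MulEquiv.orderOf_eq, hg]
  · rw [MulEquiv.orderOf_eq, hh]

/-- An element of prime order `p` normalising a `q`-subgroup `Q` of order `≢ 1 mod p` centralises a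
nontrivial element of it, giving an element of order `p * q`. -/
theorem exists_orderOf_eq_mul [Finite G] {p q : ℕ} (hp : p.Prime) (hq : q.Prime) (hne : p ≠ q)
    (Q : Subgroup G) (hQ : IsPGroup q Q) (hmod : ¬ Nat.card Q ≡ 1 [MOD p])
    (x : G) (hx : x ∈ Subgroup.normalizer (Q : Set G)) (hxo : orderOf x = p) :
    ∃ g : G, orderOf g = p * q := by
  have : Fact p.Prime := ⟨hp⟩
  have : Fact q.Prime := ⟨hq⟩
  set A := Subgroup.zpowers x
  have hA : IsPGroup p A := IsPGroup.of_card (n := 1) (by rw [Nat.card_zpowers, hxo, pow_one])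
  let act : MulAction A Q :=
    { smul := fun a y => ⟨(a : G) * y * (a : G)⁻¹,
        (Subgroup.mem_normalizer_iff.1 (Subgroup.zpowers_le.2 hx a.2) _).1 y.2⟩
      one_smul := fun y => Subtype.ext (by change (1 : G) * y * (1 : G)⁻¹ = y; simp)
      mul_smul := fun a b y => Subtype.ext (by
        change ((a : G) * b) * y * ((a : G) * b)⁻¹ = (a : G) * ((b : G) * y * (b : G)⁻¹) * (a : G)⁻¹
        group) }
  have h := hA.card_modEq_card_fixedPoints Q
  obtain ⟨y, hy, hy1⟩ : ∃ y ∈ MulAction.fixedPoints A Q, (y : G) ≠ 1 := by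
    by_contra hcon
    push Not at hcon
    have : MulAction.fixedPoints A Q = {1} := by
      ext y
      refine ⟨fun hy => Subtype.ext (hcon y hy), ?_⟩
      rintro rfl a
      exact Subtype.ext (by change (a : G) * (1 : G) * (a : G)⁻¹ = 1; simp)
    rw [this, Nat.card_coe_set_eq, Set.ncard_singleton] at h
    exact hmod h
  obtain ⟨k, hk⟩ := IsPGroup.iff_orderOf.1 hQ y
  rw [← Subgroup.orderOf_coe] at hk
  obtain ⟨j, rfl⟩ : ∃ j, k = j + 1 := by
    refine ⟨k - 1, ?_⟩
    rcases k with _ | k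
    · rw [pow_zero, orderOf_eq_one_iff] at hk; exact absurd hk hy1
    · rfl
  have hc : Commute x ((y : G) ^ q ^ j) := by
    refine Commute.pow_right ?_ _
    have := congrArg Subtype.val (hy ⟨x, Subgroup.mem_zpowers x⟩)
    exact mul_inv_eq_iff_eq_mul.1 this
  have hord : orderOf ((y : G) ^ q ^ j) = q := by
    rw [orderOf_pow' _ (pow_ne_zero _ hq.ne_zero), hk, pow_succ,
      Nat.gcd_eq_right (Dvd.intro _ rfl), Nat.mul_div_cancel_left _ (pow_pos hq.pos _)]
  exact ⟨x * (y : G) ^ q ^ j, by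
    rw [hc.orderOf_mul_eq_mul_orderOf_of_coprime (by rw [hxo, hord]; exact (Nat.coprime_primes hp hq).2 hne),
      hxo, hord]⟩

/-- If `q` divides the index of the normal subgroup `H` and `p` its order, and there is no element
of order `p * q`, then the `p`-part of `|H|` is `≡ 1 mod q`. -/
theorem modEq_one_of_dvd_index [Finite G] {p q : ℕ} (hp : p.Prime) (hq : q.Prime) (hne : p ≠ q)
    (H : Subgroup G) [H.Normal] (hH : q ∣ H.index)
    (hno : ∀ g : G, orderOf g ≠ q * p) :
    p ^ (Nat.card H).factorization p ≡ 1 [MOD q] := by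
  have : Fact p.Prime := ⟨hp⟩
  have : Fact q.Prime := ⟨hq⟩
  obtain ⟨P⟩ := (inferInstance : Nonempty (Sylow p H))
  set Q : Subgroup G := (P : Subgroup H).map H.subtype with hQ
  have hfr : Subgroup.normalizer (Q : Set G) ⊔ H = ⊤ := Sylow.normalizer_sup_eq_top P
  have hdvd : q ∣ Nat.card (Subgroup.normalizer (Q : Set G)) := by
    refine hH.trans ?_
    have h1 : H.relIndex (Subgroup.normalizer (Q : Set G) ⊔ H) =
        H.relIndex (Subgroup.normalizer (Q : Set G)) := Subgroup.relIndex_sup_right _ _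
    rw [hfr, Subgroup.relIndex_top_right] at h1
    rw [h1]
    exact H.relIndex_dvd_card (K := Subgroup.normalizer (Q : Set G))
  obtain ⟨⟨x, hx⟩, hxo⟩ := exists_prime_orderOf_dvd_card' q hdvd
  rw [← Subgroup.orderOf_coe] at hxo
  have hcard : Nat.card Q = p ^ (Nat.card H).factorization p := by
    rw [hQ, Nat.card_congr (Subgroup.equivMapOfInjective _ _ H.subtype_injective).symm.toEquiv,
      P.card_eq_multiplicity]
  by_contra hmod
  rw [← hcard] at hmod
  obtain ⟨g, hg⟩ := exists_orderOf_eq_mul hq hp hne.symm Q (P.2.map _) hmod x hx hxo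
  exact hno g hg

theorem not_dvd_index_of_independent [Finite G] {p q : ℕ} (hp : p.Prime) (hq : q.Prime)
    (hne : p ≠ q) (H : Subgroup G) [H.Normal] (hH : p ∣ Nat.card H)
    (hno : ∀ g : G, orderOf g ≠ p * q)
    (hmod : ∀ j, 1 ≤ j → p ^ j ∣ Nat.card G → ¬ p ^ j ≡ 1 [MOD q]) : ¬ q ∣ H.index := fun h => by
  refine hmod _ (hp.factorization_pos_of_dvd Nat.card_pos.ne' hH) ?_
    (modEq_one_of_dvd_index hp hq hne H h fun g => by rw [mul_comm]; exact hno g)
  exact (Nat.ordProj_dvd _ _).trans H.card_subgroup_dvd_card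

theorem card_sup_dvd [Finite G] {K L : Subgroup G} (h : K ≤ Subgroup.normalizer (L : Set G)) :
    Nat.card (K ⊔ L : Subgroup G) ∣ Nat.card K * Nat.card L := by
  have hn : (L.subgroupOf (K ⊔ L)).Normal :=
    (Subgroup.normal_subgroupOf_iff_le_normalizer le_sup_right).2
      (sup_le h Subgroup.le_normalizer)
  have h2 : L.relIndex (K ⊔ L) ∣ Nat.card K := by
    have hn' : (L.subgroupOf K).Normal := Subgroup.normal_subgroupOf_of_le_normalizer h
    let f : K →* ↥(K ⊔ L) ⧸ L.subgroupOf (K ⊔ L) :=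
      (QuotientGroup.mk' _).comp (Subgroup.inclusion le_sup_left)
    refine Subgroup.card_dvd_of_surjective f fun x => ?_
    obtain ⟨⟨y, hy⟩, rfl⟩ := QuotientGroup.mk'_surjective _ x
    obtain ⟨k, hk, l, hl, rfl⟩ : ∃ k ∈ K, ∃ l ∈ L, k * l = y := by
      have : y ∈ ((K ⊔ L : Subgroup G) : Set G) := hy
      rw [Subgroup.coe_mul_of_left_le_normalizer_right K L h] at this
      obtain ⟨k, hk, l, hl, e⟩ := this
      exact ⟨k, hk, l, hl, e⟩
    refine ⟨⟨k, hk⟩, (QuotientGroup.eq).2 ?_⟩
    simp [Subgroup.mem_subgroupOf, hl]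
  have h3 := Subgroup.card_mul_index (L.subgroupOf (K ⊔ L))
  rw [Nat.card_congr (Subgroup.subgroupOfEquivOfLe (le_sup_right : L ≤ K ⊔ L)).toEquiv] at h3
  rw [← h3, mul_comm (Nat.card K)]
  exact Nat.mul_dvd_mul_left _ h2

/-- A group whose `p`-part has order `p`: there is a chief factor of order divisible by `p` that
is simple and has order divisible by each prime `q` independent of `p`. -/
theorem exists_simple_factor [Finite G] {p : ℕ} (hp : p.Prime) (hpG : p ∣ Nat.card G)
    (hp2 : ¬ p ^ 2 ∣ Nat.card G) :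
    ∃ (N H : Subgroup G) (_ : N.Normal), H.Normal ∧ N < H ∧
      IsSimpleGroup (↥H ⧸ N.subgroupOf H) ∧ p ∣ Nat.card (↥H ⧸ N.subgroupOf H) ∧
      ∀ q : ℕ, q.Prime → q ≠ p → q ∣ Nat.card G → ¬ q ∣ p - 1 →
        (∀ g : G, orderOf g ≠ p * q) →
        (∀ j, 1 ≤ j → q ^ j ∣ Nat.card G → ¬ q ^ j ≡ 1 [MOD p]) →
        q ∣ Nat.card (↥H ⧸ N.subgroupOf H) := by
  classical
  have : Fact p.Prime := ⟨hp⟩
  obtain ⟨H, ⟨hHn, hpH⟩, hHmin⟩ := wellFounded_lt.has_min
    {H : Subgroup G | H.Normal ∧ p ∣ Nat.card H} ⟨⊤, inferInstance, by simpa using hpG⟩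
  let S : Set (Subgroup G) :=
    {M | M ≤ H ∧ H ≤ Subgroup.normalizer (M : Set G) ∧ ¬ p ∣ Nat.card M}
  obtain ⟨N, ⟨hNH, hHN, hpN⟩, hNmax⟩ := wellFounded_gt.has_min S
    ⟨⊥, bot_le, by rw [Subgroup.normalizer_eq_top]; exact le_top, by simpa using hp.ne_one⟩
  have hgreat : ∀ M ∈ S, M ≤ N := by
    rintro M ⟨hMH, hHM, hpM⟩
    have : M ⊔ N ∈ S := by
      refine ⟨sup_le hMH hNH, fun h hh => ?_, fun hd => ?_⟩
      · rw [Subgroup.mem_normalizer_iff_map_conj_eq, Subgroup.map_sup,
          (Subgroup.mem_normalizer_iff_map_conj_eq.1 (hHM hh)),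
          (Subgroup.mem_normalizer_iff_map_conj_eq.1 (hHN hh))]
      · rcases (Nat.Prime.dvd_mul hp).1 (hd.trans (card_sup_dvd (hMH.trans hHN))) with h | h
        exacts [hpM h, hpN h]
    by_contra hc
    exact hNmax _ this (lt_of_le_of_ne le_sup_right fun e => hc (e ▸ le_sup_left))
  have hNn : N.Normal := by
    refine ⟨fun n hn g => ?_⟩
    have hmem : N.map (MulAut.conj g).toMonoidHom ∈ S := by
      refine ⟨?_, ?_, ?_⟩
      · rintro _ ⟨m, hm, rfl⟩; exact hHn.conj_mem m (hNH hm) g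
      · intro h hh
        have hh' : g⁻¹ * h * g ∈ H := by simpa using hHn.conj_mem h hh g⁻¹
        rw [Subgroup.mem_normalizer_iff_map_conj_eq, Subgroup.map_map]
        have e := Subgroup.mem_normalizer_iff_map_conj_eq.1 (hHN hh')
        conv_rhs => rw [← e, Subgroup.map_map]
        congr 1
        ext x
        simp [mul_assoc]
      · rwa [Nat.card_congr (Subgroup.equivMapOfInjective _ _
          (MulAut.conj g).injective).symm.toEquiv]
    exact hgreat _ hmem (Subgroup.mem_map_of_mem _ hn)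
  have hlt : N < H := lt_of_le_of_ne hNH fun e => hpN (e ▸ hpH)
  have hcardq : Nat.card N * Nat.card (↥H ⧸ N.subgroupOf H) = Nat.card H := by
    have h1 := Subgroup.card_mul_index (N.subgroupOf H)
    rwa [Nat.card_congr (Subgroup.subgroupOfEquivOfLe hNH).toEquiv] at h1
  have hpq : p ∣ Nat.card (↥H ⧸ N.subgroupOf H) :=
    ((Nat.Prime.dvd_mul hp).1 (hcardq ▸ hpH)).resolve_left hpN
  refine ⟨N, H, hNn, hHn, hlt, ?_, hpq, ?_⟩
  · have : Nontrivial (↥H ⧸ N.subgroupOf H) := by
      rw [← Finite.one_lt_card_iff_nontrivial]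
      exact hp.one_lt.trans_le (Nat.le_of_dvd Nat.card_pos hpq)
    refine ⟨fun K hK => ?_⟩
    set M : Subgroup G := (K.comap (QuotientGroup.mk' (N.subgroupOf H))).map H.subtype with hM
    have hMH : M ≤ H := Subgroup.map_subtype_le _
    have hHM : H ≤ Subgroup.normalizer (M : Set G) := by
      intro h hh
      rw [Subgroup.mem_normalizer_iff]
      intro y
      simp only [hM, Subgroup.mem_map, Subgroup.mem_comap]
      constructor
      · rintro ⟨z, hz, rfl⟩
        exact ⟨⟨h, hh⟩ * z * ⟨h, hh⟩⁻¹, by simpa using hK.conj_mem _ hz _, rfl⟩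
      · rintro ⟨z, hz, hzy⟩
        refine ⟨⟨h, hh⟩⁻¹ * z * ⟨h, hh⟩, by
          simpa using hK.conj_mem _ hz (QuotientGroup.mk' _ ⟨h, hh⟩)⁻¹, ?_⟩
        rw [map_mul, map_mul, map_inv, hzy]
        simp [mul_assoc]
    have hback : K = (M.subgroupOf H).map (QuotientGroup.mk' (N.subgroupOf H)) := by
      have hb : M.subgroupOf H = K.comap (QuotientGroup.mk' (N.subgroupOf H)) :=
        Subgroup.comap_map_eq_self_of_injective H.subtype_injective _
      rw [hb, Subgroup.map_comap_eq_self_of_surjective (QuotientGroup.mk'_surjective _)]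
    by_cases hpM : p ∣ Nat.card M
    · right
      -- all `p`-elements of `H` lie in `M`
      set E : Subgroup G := Subgroup.closure {g : G | g ∈ H ∧ orderOf g = p}
      have hEn : E.Normal := by
        refine ⟨fun n hn g => ?_⟩
        have h1 : E.map (MulAut.conj g).toMonoidHom ≤ E := by
          rw [MonoidHom.map_closure, Subgroup.closure_le]
          rintro _ ⟨y, ⟨hy, hyo⟩, rfl⟩
          exact Subgroup.subset_closure ⟨hHn.conj_mem y hy g, by
            rw [← hyo]; exact MulEquiv.orderOf_eq (MulAut.conj g) y⟩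
        exact h1 (Subgroup.mem_map_of_mem _ hn)
      have hpE : p ∣ Nat.card E := by
        obtain ⟨⟨y, hy⟩, hyo⟩ := exists_prime_orderOf_dvd_card' p hpH
        rw [← Subgroup.orderOf_coe] at hyo
        have : y ∈ E := Subgroup.subset_closure ⟨hy, hyo⟩
        calc p = orderOf (⟨y, this⟩ : E) := by rw [← Subgroup.orderOf_coe]; exact hyo.symm
          _ ∣ _ := orderOf_dvd_natCard _
      have hEH : E ≤ H := (Subgroup.closure_le _).2 fun g hg => hg.1
      have hE : E = H := by
        by_contra hne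
        exact hHmin E ⟨hEn, hpE⟩ (lt_of_le_of_ne hEH hne)
      have hEM : E ≤ M := by
        rw [Subgroup.closure_le]
        rintro y ⟨hy, hyo⟩
        by_contra hyM
        -- otherwise `M ⊔ ⟨y⟩` has order divisible by `p ^ 2`
        have hle := card_sup_dvd (K := Subgroup.zpowers y) (L := M)
          (Subgroup.zpowers_le.2 (hHM hy))
        set J : Subgroup G := Subgroup.zpowers y ⊔ M
        have hMJ : M ≤ J := le_sup_right
        have hdv := Subgroup.card_dvd_of_le hMJ
        obtain ⟨c, hc⟩ := hdv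
        rw [hc, Nat.card_zpowers, hyo, mul_comm p] at hle
        have hcp : c ∣ p := Nat.dvd_of_mul_dvd_mul_left Nat.card_pos hle
        rcases (Nat.dvd_prime hp).1 hcp with rfl | rfl
        · rw [mul_one] at hc
          exact hyM (by rw [Subgroup.eq_of_le_of_card_ge hMJ hc.le];
                        exact Subgroup.mem_sup_left (Subgroup.mem_zpowers y))
        · refine hp2 ?_
          rw [pow_two]
          exact (Nat.mul_dvd_mul_right hpM c).trans (hc ▸ J.card_subgroup_dvd_card)
      rw [hback, show M.subgroupOf H = ⊤ from Subgroup.subgroupOf_eq_top.2 (hE ▸ hEM),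
        ← MonoidHom.range_eq_map, MonoidHom.range_eq_top]
      exact QuotientGroup.mk'_surjective _
    · left
      have hMN : M ≤ N := hgreat M ⟨hMH, hHM, hpM⟩
      rw [hback, Subgroup.map_eq_bot_iff, QuotientGroup.ker_mk']
      exact Subgroup.comap_mono hMN
  · intro q hq hne hqG hq1 hno hmod
    have : Fact q.Prime := ⟨hq⟩
    have hqH : q ∣ Nat.card H := by
      rw [← H.card_mul_index] at hqG
      rcases (Nat.Prime.dvd_mul hq).1 hqG with h | h
      · exact h
      · exfalso
        have := modEq_one_of_dvd_index hp hq hne.symm H h fun g => by rw [mul_comm]; exact hno g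
        have he : (Nat.card H).factorization p = 1 := by
          have h1 : 0 < (Nat.card H).factorization p :=
            hp.factorization_pos_of_dvd Nat.card_pos.ne' hpH
          by_contra h2
          exact hp2 ((pow_dvd_pow p (show 2 ≤ (Nat.card H).factorization p by omega)).trans
            ((Nat.ordProj_dvd _ _).trans H.card_subgroup_dvd_card))
        rw [he, pow_one] at this
        exact hq1 ((Nat.modEq_iff_dvd' hp.one_lt.le).1 this.symm)
    refine ((Nat.Prime.dvd_mul hq).1 (hcardq ▸ hqH)).resolve_left fun h => ?_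
    refine not_dvd_index_of_independent hq hp hne N h (fun g => by rw [mul_comm]; exact hno g)
      hmod ?_
    rw [← N.card_mul_index] at hpG
    exact ((Nat.Prime.dvd_mul hp).1 hpG).resolve_left hpN

/-- No solvable group has a pair of independent primes as above. -/
theorem not_isSolvable_of_independent [Finite G] {p q : ℕ} (hp : p.Prime) (hq : q.Prime)
    (hne : q ≠ p) (hpG : p ∣ Nat.card G) (hp2 : ¬ p ^ 2 ∣ Nat.card G) (hqG : q ∣ Nat.card G)
    (hq1 : ¬ q ∣ p - 1) (hno : ∀ g : G, orderOf g ≠ p * q)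
    (hmod : ∀ j, 1 ≤ j → q ^ j ∣ Nat.card G → ¬ q ^ j ≡ 1 [MOD p]) : ¬ Group.IsSolvable G := by
  intro hs
  obtain ⟨N, H, hN, hH, -, hsimp, hpd, hall⟩ := exists_simple_factor hp hpG hp2
  have hqd := hall q hq hne hqG hq1 hno hmod
  have hsol : Group.IsSolvable (↥H ⧸ N.subgroupOf H) := inferInstance
  have hcomm : ∀ a b : ↥H ⧸ N.subgroupOf H, a * b = b * a :=
    (IsSimpleGroup.comm_iff_isSolvable).2 hsol
  let _ : CommGroup (↥H ⧸ N.subgroupOf H) :=
    { (inferInstance : Group (↥H ⧸ N.subgroupOf H)) with mul_comm := hcomm }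
  have hpr := IsSimpleGroup.prime_card (α := ↥H ⧸ N.subgroupOf H)
  have e1 := (Nat.prime_dvd_prime_iff_eq hp hpr).1 hpd
  have e2 := (Nat.prime_dvd_prime_iff_eq hq hpr).1 hqd
  exact hne (e2.trans e1.symm)

/-- `Aₙ` has no element of order `p * q` when `p + q > n`. -/
theorem alternating_orderOf_ne {n p q : ℕ} (hp : p.Prime) (hq : q.Prime) (hne : p ≠ q)
    (hsum : n < p + q) (σ : Equiv.Perm (Fin n)) : orderOf σ ≠ p * q := by
  intro h
  have hdvd : ∀ r : ℕ, r.Prime → r ∣ p * q → ∃ a ∈ σ.cycleType, r ∣ a := by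
    intro r hr hr'
    rw [← h, ← σ.lcm_cycleType] at hr'
    exact hr.prime.exists_mem_multiset_dvd
      (hr'.trans (Multiset.lcm_dvd.2 fun a ha => Multiset.dvd_prod ha))
  obtain ⟨a, ha, hpa⟩ := hdvd p hp (dvd_mul_right p q)
  obtain ⟨b, hb, hqb⟩ := hdvd q hq (dvd_mul_left q p)
  have hsumle : σ.cycleType.sum ≤ n := by
    rw [σ.sum_cycleType]
    exact (Finset.card_le_univ _).trans (Fintype.card_fin n).le
  have ha0 : 0 < a := by have := Equiv.Perm.two_le_of_mem_cycleType ha; omega
  have hb0 : 0 < b := by have := Equiv.Perm.two_le_of_mem_cycleType hb; omega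
  by_cases hab : a = b
  · subst hab
    have hpq : p * q ∣ a := Nat.Coprime.mul_dvd_of_dvd_of_dvd ((Nat.coprime_primes hp hq).2 hne) hpa hqb
    have h1 := Nat.le_of_dvd ha0 hpq
    have h2 := Multiset.le_sum_of_mem ha
    have : p + q ≤ p * q := Nat.add_le_mul hp.two_le hq.two_le
    omega
  · obtain ⟨t, ht⟩ := Multiset.exists_cons_of_mem ha
    rw [ht, Multiset.sum_cons] at hsumle
    rw [ht, Multiset.mem_cons] at hb
    have h2 := Multiset.le_sum_of_mem (hb.resolve_left (Ne.symm hab))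
    have := Nat.le_of_dvd ha0 hpa
    have := Nat.le_of_dvd hb0 hqb
    omega

/-- In a group with the spectrum of `Aₙ`. -/
theorem spectrum_orderOf_ne {n p q : ℕ}
    (hspec : Set.range (orderOf : G → ℕ) = Set.range (orderOf : ↥(alternatingGroup (Fin n)) → ℕ))
    (hp : p.Prime) (hq : q.Prime) (hne : p ≠ q) (hsum : n < p + q) (g : G) :
    orderOf g ≠ p * q := by
  intro h
  have : p * q ∈ Set.range (orderOf : G → ℕ) := ⟨g, h⟩
  rw [hspec] at this
  obtain ⟨σ, hσ⟩ := this
  rw [← Subgroup.orderOf_coe] at hσ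
  exact alternating_orderOf_ne hp hq hne hsum _ hσ

theorem two_mul_card_alternating (n : ℕ) (hn : 2 ≤ n) :
    2 * Nat.card ↥(alternatingGroup (Fin n)) = n.factorial := by
  have : Nontrivial (Fin n) := Fin.nontrivial_iff_two_le.2 hn
  rw [Nat.card_eq_fintype_card, two_mul_card_alternatingGroup, Fintype.card_perm, Fintype.card_fin]

/-- Primes in `(n/2, n]` divide `|Aₙ|` exactly once (`n ≥ 5`). -/
theorem prime_exactly_once {n p : ℕ} (hn : 4 ≤ n) (hp : p.Prime) (h1 : n < 2 * p) (h2 : p ≤ n) :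
    p ∣ Nat.card ↥(alternatingGroup (Fin n)) ∧ ¬ p ^ 2 ∣ Nat.card ↥(alternatingGroup (Fin n)) := by
  have h := two_mul_card_alternating n (by omega)
  refine ⟨?_, fun hd => ?_⟩
  · have h3 : p ∣ n.factorial := Nat.dvd_factorial hp.pos h2
    rw [← h] at h3
    rcases (Nat.Prime.dvd_mul hp).1 h3 with h4 | h4
    · have := Nat.le_of_dvd two_pos h4; omega
    · exact h4
  · have hd' : p ^ 2 ∣ n.factorial := h ▸ hd.mul_left 2
    have := (Nat.Prime.pow_dvd_iff_le_factorization hp (Nat.factorial_ne_zero n)).1 hd'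
    rw [Nat.factorization_factorial hp (b := 3) (by
      have : n < p ^ 2 := by nlinarith [hp.two_le]
      have := Nat.log_lt_of_lt_pow (by omega) this
      omega)] at this
    simp only [show Finset.Ico 1 3 = {1, 2} from rfl, Finset.sum_insert (by decide : 1 ∉ ({2} : Finset ℕ)),
      Finset.sum_singleton, pow_one] at this
    have e2 : n / p ^ 2 = 0 := Nat.div_eq_of_lt (by nlinarith [hp.two_le])
    have e1 : n / p < 2 := (Nat.div_lt_iff_lt_mul hp.pos).2 (by omega)
    omega

end Cfsg.Agent.Lib.Spectrum.Basic
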