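import Cfsg.Prelude.Def_Spor_Mathieu
import Mathlib

/-!
Isomorphisms of commuting graphs.
-/

namespace Cfsg.Agent.Lib.Spectrum.CommGraph

variable {H M : Type*} [Group H] [Group M]

theorem extend (f : {h : H // h ≠ 1} ≃ {g : M // g ≠ 1})
    (hf : ∀ x y : {h : H // h ≠ 1}, (x : H) * y = y * x ↔ ((f x) : M) * (f y) = (f y) * (f x)) :
    ∃ e : H ≃ M, e 1 = 1 ∧ ∀ x y : H, x * y = y * x ↔ e x * e y = e y * e x := by
  classical
  let g : H → M := fun x => if h : x = 1 then 1 else (f ⟨x, h⟩ : M)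
  let g' : M → H := fun x => if h : x = 1 then 1 else (f.symm ⟨x, h⟩ : H)
  have h1 : Function.LeftInverse g' g := by
    intro x
    by_cases h : x = 1
    · simp [g, g', h]
    · have h2 : (f ⟨x, h⟩ : M) ≠ 1 := (f ⟨x, h⟩).2
      simp [g, g', h, h2]
  have h2 : Function.RightInverse g' g := by
    intro x
    by_cases h : x = 1
    · simp [g, g', h]
    · have h2 : (f.symm ⟨x, h⟩ : H) ≠ 1 := (f.symm ⟨x, h⟩).2
      simp [g, g', h, h2]
  refine ⟨⟨g, g', h1, h2⟩, by simp [g], fun x y => ?_⟩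
  show x * y = y * x ↔ g x * g y = g y * g x
  by_cases hx : x = 1
  · simp [g, hx]
  by_cases hy : y = 1
  · simp [g, hy]
  simpa [g, hx, hy] using hf ⟨x, hx⟩ ⟨y, hy⟩

theorem self_centralizing (e : H ≃ M) (h1 : e 1 = 1)
    (hc : ∀ x y : H, x * y = y * x ↔ e x * e y = e y * e x) {y : M} {p : ℕ} (hy : orderOf y = p)
    (hp : p.Prime) (hC : ∀ z : M, z * y = y * z → z ∈ Subgroup.zpowers y) :
    orderOf (e.symm y) = p ∧
      ∀ w : H, w * e.symm y = e.symm y * w → w ∈ Subgroup.zpowers (e.symm y) := by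
  have : Fact p.Prime := ⟨hp⟩
  set x := e.symm y with hxdef
  have hex : e x = y := e.apply_symm_apply y
  have hC' : ∀ z : M, z * y = y * z ↔ z ∈ Subgroup.zpowers y := fun z => by
    refine ⟨hC z, fun h => ?_⟩
    obtain ⟨k, rfl⟩ := Subgroup.mem_zpowers_iff.mp h
    exact ((Commute.refl y).zpow_left k).eq
  have hcard : Nat.card (Subgroup.centralizer ({x} : Set H)) = p := by
    rw [← hy, ← Nat.card_zpowers]
    refine Nat.card_congr (e.subtypeEquiv fun w => ?_)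
    rw [Subgroup.mem_centralizer_singleton_iff, ← hC', hc w x, hex]
  have hxne : x ≠ 1 := by
    intro h
    rw [h, h1] at hex
    rw [← hex, orderOf_one] at hy
    exact hp.one_lt.ne hy
  have hxmem : x ∈ Subgroup.centralizer ({x} : Set H) :=
    Subgroup.mem_centralizer_singleton_iff.mpr rfl
  have hmain : ∀ w ∈ Subgroup.centralizer ({x} : Set H), w ∈ Subgroup.zpowers x := by
    intro w hw
    have hx' : (⟨x, hxmem⟩ : Subgroup.centralizer ({x} : Set H)) ≠ 1 := fun h =>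
      hxne (congrArg Subtype.val h)
    obtain ⟨k, hk⟩ := Subgroup.mem_zpowers_iff.mp
      (mem_zpowers_of_prime_card hcard hx' (g' := ⟨w, hw⟩))
    exact Subgroup.mem_zpowers_iff.mpr ⟨k, congrArg Subtype.val hk⟩
  refine ⟨?_, fun w hw => hmain w (Subgroup.mem_centralizer_singleton_iff.mpr hw)⟩
  refine orderOf_eq_prime ?_ hxne
  have := Subgroup.pow_mem (Subgroup.centralizer ({x} : Set H)) hxmem p
  have h2 := pow_card_eq_one' (x := (⟨x, hxmem⟩ : Subgroup.centralizer ({x} : Set H)))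
  rw [hcard] at h2
  exact congrArg Subtype.val h2

open scoped Pointwise in
/-- The stabiliser form of `M₁₁` is `Spor.M11`. -/
def stabEquiv (d : Finset Cfsg.GolayPt) (p : Cfsg.GolayPt) :
    ↥(MulAction.stabilizer Cfsg.M24 d ⊓ MulAction.stabilizer Cfsg.M24 p) ≃*
      ↥(Cfsg.M24 ⊓ MulAction.stabilizer (Equiv.Perm Cfsg.GolayPt) d ⊓
        MulAction.stabilizer (Equiv.Perm Cfsg.GolayPt) p) where
  toFun g := ⟨((g : Cfsg.M24) : Equiv.Perm Cfsg.GolayPt), ⟨⟨g.1.2, g.2.1⟩, g.2.2⟩⟩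
  invFun g := ⟨⟨(g : Equiv.Perm Cfsg.GolayPt), g.2.1.1⟩, ⟨g.2.1.2, g.2.2⟩⟩
  left_inv g := rfl
  right_inv g := rfl
  map_mul' a b := rfl

end Cfsg.Agent.Lib.Spectrum.CommGraph
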