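import Cfsg.Agent.Lib.Spectrum.PlaneThree
import Cfsg.Agent.Lib.Spectrum.CommGraph

/-!
The transvection geometry only depends on the commuting graph.
-/

namespace Cfsg.Agent.Lib.Spectrum.CommGraphPlane

open Cfsg.Agent.Lib.Spectrum.PlaneThree

theorem geomTransport {H M : Type*} [Group H] [Group M] (e : H ≃ M) (h1 : e 1 = 1)
    (hc : ∀ x y : H, x * y = y * x ↔ e x * e y = e y * e x) (D : Geom M) : Nonempty (Geom H) := by
  refine ⟨⟨fun a => e.symm (D.tv a), e.symm.injective.comp D.inj, fun a b => ?_, fun y => ?_⟩⟩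
  · rw [hc, e.apply_symm_apply, e.apply_symm_apply, D.comm]
  · have hcard : Nat.card (Subgroup.centralizer ({y} : Set H)) =
        Nat.card (Subgroup.centralizer ({e y} : Set M)) := by
      refine Nat.card_congr (e.subtypeEquiv fun w => ?_)
      rw [Subgroup.mem_centralizer_singleton_iff, Subgroup.mem_centralizer_singleton_iff, hc]
    rw [hcard, show (y ≠ 1) ↔ e y ≠ 1 from (Equiv.apply_eq_iff_eq e).not.symm.trans (by rw [h1]),
      ← D.range]
    exact exists_congr fun a => e.symm_apply_eq

end Cfsg.Agent.Lib.Spectrum.CommGraphPlane
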