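import Mathlib
import Cfsg.Prelude.Def_CaseTheorems

/-!
The Sylow 2-subgroups of the general linear group of degree 2 over the field with three elements.
-/

set_option autoImplicit false

namespace Cfsg.Agent.Lib.Spectrum.GLTwoThree

open Matrix

/-- An element of order eight. -/
def x0 : GL (Fin 2) (ZMod 3) :=
  ⟨!![0, 1; 1, 1], !![2, 1; 1, 0], by decide, by decide⟩

/-- An involution inverting the cube map. -/
def y0 : GL (Fin 2) (ZMod 3) :=
  ⟨!![1, 1; 0, 2], !![1, 1; 0, 2], by decide, by decide⟩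

theorem orderOf_x0 : orderOf x0 = 2 ^ 3 := by
  haveI : Fact (Nat.Prime 2) := ⟨Nat.prime_two⟩
  exact orderOf_eq_prime_pow (n := 2) (by decide) (by decide)

theorem orderOf_y0 : orderOf y0 = 2 := by
  haveI : Fact (Nat.Prime 2) := ⟨Nat.prime_two⟩
  exact orderOf_eq_prime (by decide) (by decide)

theorem conj_y0 : y0 * x0 * y0⁻¹ = x0 ^ 3 := by decide

theorem card_gl : Nat.card (GL (Fin 2) (ZMod 3)) = 48 := by
  haveI : Fact (Nat.Prime 3) := ⟨Nat.prime_three⟩
  rw [Matrix.card_GL_field]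
  simp [Fin.prod_univ_two]

/-- A 2-subgroup of order 16 is quasidihedral. -/
theorem isQuasiDihedral_of_card (H : Subgroup (GL (Fin 2) (ZMod 3))) (hH : Nat.card H = 16) :
    Cfsg.IsQuasiDihedral H := by
  haveI : Fact (Nat.Prime 2) := ⟨Nat.prime_two⟩
  set A := Subgroup.zpowers x0 with hA
  set B := Subgroup.zpowers y0 with hB
  have hAp : IsPGroup 2 A := IsPGroup.of_card (n := 3) (by rw [hA, Nat.card_zpowers, orderOf_x0])
  have hBp : IsPGroup 2 B := IsPGroup.of_card (n := 1) (by rw [hB, Nat.card_zpowers, orderOf_y0, pow_one])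
  have hBA : B ≤ Subgroup.normalizer (A : Set (GL (Fin 2) (ZMod 3))) := by
    rw [hB, Subgroup.zpowers_le]
    refine Subgroup.mem_normalizer_iff.mpr fun h => ?_
    have e : y0⁻¹ = y0 := by decide
    constructor
    · intro hh
      obtain ⟨i, rfl⟩ := Subgroup.mem_zpowers_iff.1 hh
      rw [← conj_zpow, conj_y0]
      exact A.zpow_mem (A.pow_mem (Subgroup.mem_zpowers x0) 3) i
    · intro hh
      obtain ⟨i, hi⟩ := Subgroup.mem_zpowers_iff.1 hh
      have h2 : h = y0 * x0 ^ i * y0⁻¹ := by rw [hi, e]; simp only [← mul_assoc]; rw [show y0 * y0 = 1 by decide, one_mul, mul_assoc, show y0 * y0 = 1 by decide, mul_one]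
      rw [h2, ← conj_zpow, conj_y0]
      exact A.zpow_mem (A.pow_mem (Subgroup.mem_zpowers x0) 3) i
  obtain ⟨S, hS⟩ := (IsPGroup.to_sup_of_normal_left' hAp hBp hBA).exists_le_sylow
  have hcS : Nat.card (S : Subgroup (GL (Fin 2) (ZMod 3))) = 16 := by
    rw [S.card_eq_multiplicity, card_gl]
    have : (48 : ℕ).factorization 2 = 4 := by
      rw [show (48 : ℕ) = 2 ^ 4 * 3 by norm_num, Nat.factorization_mul (by norm_num) (by norm_num)]
      rw [Finsupp.add_apply, Nat.prime_two.factorization_pow, Finsupp.single_eq_same]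
      simp [Nat.prime_three.factorization]
    rw [this]; norm_num
  let T : Sylow 2 (GL (Fin 2) (ZMod 3)) := Sylow.ofCard H (by
    rw [hH, ← hcS, S.card_eq_multiplicity])
  obtain ⟨g, hg⟩ := MulAction.exists_smul_eq (GL (Fin 2) (ZMod 3)) S T
  have hmem : ∀ z ∈ (S : Subgroup (GL (Fin 2) (ZMod 3))), g * z * g⁻¹ ∈ H := by
    intro z hz
    have : g * z * g⁻¹ ∈ ((g • S : Sylow 2 _) : Subgroup (GL (Fin 2) (ZMod 3))) :=
      ⟨z, hz, rfl⟩
    rw [hg] at this
    exact this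
  have hx := hmem _ (hS (Subgroup.mem_sup_left (Subgroup.mem_zpowers x0)))
  have hy := hmem _ (hS (Subgroup.mem_sup_right (Subgroup.mem_zpowers y0)))
  refine ⟨3, le_rfl, by rw [hH]; norm_num, ⟨g * x0 * g⁻¹, hx⟩, ⟨g * y0 * g⁻¹, hy⟩, ?_, ?_, ?_⟩
  · rw [Subgroup.orderOf_mk, ← MulAut.conj_apply, MulEquiv.orderOf_eq, orderOf_x0]
  · rw [Subgroup.orderOf_mk, ← MulAut.conj_apply, MulEquiv.orderOf_eq, orderOf_y0]
  · refine Subtype.ext ?_
    show g * y0 * g⁻¹ * (g * x0 * g⁻¹) * (g * y0 * g⁻¹)⁻¹ = (g * x0 * g⁻¹) ^ (2 ^ (3 - 1) - 1)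
    rw [conj_pow, show (2 : ℕ) ^ (3 - 1) - 1 = 3 by norm_num, ← conj_y0]
    group

end Cfsg.Agent.Lib.Spectrum.GLTwoThree
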