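import Mathlib

/-!
Automorphisms of the group of maps `(x, y) ↦ (a x, ± a⁻¹ y)`, `(± a⁻¹ y, a x)` over `F_q`,
`q = 2 ^ m + 1 ≠ 5` prime.
-/

namespace Cfsg.SpectrumMonomialAut

section step

variable {H : Type*} [Group H]

theorem mulAut_pow_apply_of_fixed (φ : MulAut H) {x k : H} (hx : φ x = x * k) (hk : φ k = k)
    (n : ℕ) : (φ ^ n) x = x * k ^ n := by
  induction n with
  | zero => simp
  | succ n ih =>
    rw [pow_succ', MulAut.mul_apply, ih, map_mul, map_pow, hx, hk, mul_assoc, ← pow_succ']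

theorem fix_step (hH : IsPGroup 2 H) (φ : MulAut H) {n : ℕ} (hn : Odd n) (hφ : φ ^ n = 1)
    {x k : H} (hx : φ x = x * k) (hk : φ k = k) : φ x = x := by
  have h1 := mulAut_pow_apply_of_fixed φ hx hk n
  rw [hφ, MulAut.one_apply, eq_comm, mul_eq_left] at h1
  obtain ⟨j, hj⟩ := hH k
  have hk1 : k = 1 := by
    have hcop : Nat.Coprime n (2 ^ j) := Nat.Coprime.pow_right _ (Nat.coprime_two_right.mpr hn)
    have h2 : orderOf k ∣ Nat.gcd n (2 ^ j) :=
      Nat.dvd_gcd (orderOf_dvd_of_pow_eq_one h1) (orderOf_dvd_of_pow_eq_one hj)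
    rw [hcop] at h2
    exact orderOf_eq_one_iff.mp (Nat.dvd_one.mp h2)
  rw [hx, hk1, mul_one]

theorem isPGroup_mulAut [Finite H] (h : ∀ (φ : MulAut H) (n : ℕ), Odd n → φ ^ n = 1 → φ = 1) :
    IsPGroup 2 (MulAut H) := by
  have : Finite (MulAut H) := Finite.of_injective (fun f : MulAut H => (f : H → H))
    DFunLike.coe_injective
  intro φ
  obtain ⟨k, n, hn, hkn⟩ := Nat.exists_eq_two_pow_mul_odd (n := orderOf φ) (orderOf_pos φ).ne'
  refine ⟨k, h _ n hn ?_⟩
  rw [← pow_mul, ← hkn, pow_orderOf_eq_one]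

end step

variable (q : ℕ) [Fact q.Prime]

abbrev GLq := (Fin 2 → ZMod q) ≃ₗ[ZMod q] (Fin 2 → ZMod q)

/-- Diagonal maps. -/
def dgEquiv (u : (ZMod q)ˣ × (ZMod q)ˣ) : GLq q where
  toFun v := ![(u.1 : ZMod q) * v 0, (u.2 : ZMod q) * v 1]
  map_add' v w := by funext i; fin_cases i <;> simp [mul_add]
  map_smul' r v := by funext i; fin_cases i <;> simp <;> ring
  invFun v := ![((u.1⁻¹ : (ZMod q)ˣ) : ZMod q) * v 0, ((u.2⁻¹ : (ZMod q)ˣ) : ZMod q) * v 1]
  left_inv v := by
    funext i; fin_cases i <;> simp only [Fin.zero_eta, Fin.mk_one, Matrix.cons_val_zero,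
      Matrix.cons_val_one, Units.inv_mul_cancel_left]
  right_inv v := by
    funext i; fin_cases i <;> simp only [Fin.zero_eta, Fin.mk_one, Matrix.cons_val_zero,
      Matrix.cons_val_one, Units.mul_inv_cancel_left]

theorem dgEquiv_apply (u : (ZMod q)ˣ × (ZMod q)ˣ) (v : Fin 2 → ZMod q) :
    dgEquiv q u v = ![(u.1 : ZMod q) * v 0, (u.2 : ZMod q) * v 1] := rfl

/-- Diagonal maps as a homomorphism. -/
def dg : (ZMod q)ˣ × (ZMod q)ˣ →* GLq q where
  toFun := dgEquiv q
  map_one' := by ext v i; fin_cases i <;> simp [dgEquiv_apply]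
  map_mul' u w := by
    refine LinearEquiv.ext fun v => ?_
    rw [LinearEquiv.mul_apply]
    funext i; fin_cases i <;> simp [dgEquiv_apply, mul_assoc]

theorem dg_apply (u : (ZMod q)ˣ × (ZMod q)ˣ) (v : Fin 2 → ZMod q) :
    dg q u v = ![(u.1 : ZMod q) * v 0, (u.2 : ZMod q) * v 1] := rfl

theorem dg_injective : Function.Injective (dg q) := by
  intro u w h
  have h1 := congrArg (fun f : GLq q => f ![1, 1]) h
  simp [dg_apply] at h1
  exact Prod.ext (Units.ext h1.1) (Units.ext h1.2)

/-- The coordinate swap. -/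
def sw : GLq q where
  toFun v := ![v 1, v 0]
  map_add' v w := by funext i; fin_cases i <;> simp
  map_smul' r v := by funext i; fin_cases i <;> simp
  invFun v := ![v 1, v 0]
  left_inv v := by funext i; fin_cases i <;> simp
  right_inv v := by funext i; fin_cases i <;> simp

theorem sw_apply (v : Fin 2 → ZMod q) : sw q v = ![v 1, v 0] := rfl

theorem dg_mul_sw_sq (u : (ZMod q)ˣ × (ZMod q)ˣ) :
    (dg q u * sw q) ^ 2 = dg q (u.1 * u.2, u.1 * u.2) := by
  rw [pow_two]
  refine LinearEquiv.ext fun v => ?_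
  simp only [LinearEquiv.mul_apply]
  funext i
  fin_cases i <;> simp [sw_apply, dg_apply] <;> ring

theorem dg_ne_dg_mul_sw (u w : (ZMod q)ˣ × (ZMod q)ˣ) : dg q u ≠ dg q w * sw q := by
  intro h
  have h1 := congrArg (fun f : GLq q => f ![1, 0] 0) h
  simp [dg_apply, sw_apply, LinearEquiv.mul_apply] at h1

theorem unit_sq_one {x : (ZMod q)ˣ} (hx : x ^ 2 = 1) : x = 1 ∨ x = -1 := by
  have h : (x : ZMod q) * x = 1 := by rw [← Units.val_mul, ← pow_two, hx, Units.val_one]
  rcases mul_self_eq_one_iff.mp h with h1 | h1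
  · exact Or.inl (Units.ext h1)
  · exact Or.inr (Units.ext (by simpa using h1))

theorem mem_iff (T : Subgroup (GLq q))
    (hT : ∀ f, f ∈ T ↔ ∃ a s : ZMod q, a ≠ 0 ∧ (s = 1 ∨ s = -1) ∧
      ((∀ v, f v = ![a * v 0, s * a⁻¹ * v 1]) ∨ (∀ v, f v = ![s * a⁻¹ * v 1, a * v 0])))
    (f : GLq q) :
    f ∈ T ↔ ∃ u : (ZMod q)ˣ × (ZMod q)ˣ, (u.1 * u.2 = 1 ∨ u.1 * u.2 = -1) ∧
      (f = dg q u ∨ f = dg q u * sw q) := by
  rw [hT]
  constructor
  · rintro ⟨a, s, ha, hs, h⟩
    have hs0 : s ≠ 0 := by
      rcases hs with rfl | rfl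
      · exact one_ne_zero
      · exact neg_ne_zero.mpr one_ne_zero
    obtain ⟨a, rfl⟩ := (Ne.isUnit ha)
    obtain ⟨s, rfl⟩ := (Ne.isUnit hs0)
    have hs' : s = 1 ∨ s = -1 := by
      rcases hs with h1 | h1
      · exact Or.inl (Units.ext h1)
      · exact Or.inr (Units.ext (by simpa using h1))
    rcases h with h | h
    · refine ⟨(a, s * a⁻¹), ?_, Or.inl (LinearEquiv.ext fun v => ?_)⟩
      · simpa [mul_comm s] using hs'
      · rw [h, dg_apply]; simp only [Units.val_mul, Units.val_inv_eq_inv_val]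
    · refine ⟨(s * a⁻¹, a), ?_, Or.inr (LinearEquiv.ext fun v => ?_)⟩
      · simpa using hs'
      · rw [h, LinearEquiv.mul_apply, dg_apply, sw_apply]
        simp only [Units.val_mul, Units.val_inv_eq_inv_val, Matrix.cons_val_zero,
          Matrix.cons_val_one]
  · rintro ⟨⟨x, y⟩, hu, h⟩
    have hs : ((x * y : (ZMod q)ˣ) : ZMod q) = 1 ∨ ((x * y : (ZMod q)ˣ) : ZMod q) = -1 := by
      rcases hu with h1 | h1
      · exact Or.inl (by simp_all)
      · refine Or.inr ?_
        simp only at h1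
        rw [h1]; simp
    rcases h with rfl | rfl
    · refine ⟨x, (x * y : (ZMod q)ˣ), x.ne_zero, hs, Or.inl fun v => ?_⟩
      rw [dg_apply]
      funext i; fin_cases i <;> simp only [Fin.zero_eta, Fin.mk_one, Matrix.cons_val_zero,
        Matrix.cons_val_one, Units.val_mul]
      field_simp
    · refine ⟨y, (x * y : (ZMod q)ˣ), y.ne_zero, hs, Or.inr fun v => ?_⟩
      rw [LinearEquiv.mul_apply, dg_apply, sw_apply]
      funext i; fin_cases i <;> simp only [Fin.zero_eta, Fin.mk_one, Matrix.cons_val_zero,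
        Matrix.cons_val_one, Units.val_mul]
      field_simp

theorem main (m : ℕ) (hq : q = 2 ^ m + 1) (hq5 : q ≠ 5) (T : Subgroup (GLq q))
    (hT : ∀ f, f ∈ T ↔ ∃ a s : ZMod q, a ≠ 0 ∧ (s = 1 ∨ s = -1) ∧
      ((∀ v, f v = ![a * v 0, s * a⁻¹ * v 1]) ∨ (∀ v, f v = ![s * a⁻¹ * v 1, a * v 0]))) :
    IsPGroup 2 (MulAut T) := by
  have hmem := mem_iff q T hT
  have hcardU : Nat.card (ZMod q)ˣ = 2 ^ m := by
    rw [Nat.card_eq_fintype_card, ZMod.card_units, hq, Nat.add_sub_cancel]
  have hupow : ∀ x : (ZMod q)ˣ, x ^ 2 ^ m = 1 := fun x => by rw [← hcardU]; exact pow_card_eq_one'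
  obtain ⟨g, hg⟩ := IsCyclic.exists_generator (α := (ZMod q)ˣ)
  have hgord : orderOf g = 2 ^ m := by rw [orderOf_eq_card_of_forall_mem_zpowers hg, hcardU]
  -- the elements of the group
  have hDmem : ∀ u : (ZMod q)ˣ × (ZMod q)ˣ, (u.1 * u.2 = 1 ∨ u.1 * u.2 = -1) → dg q u ∈ T :=
    fun u hu => (hmem _).mpr ⟨u, hu, Or.inl rfl⟩
  let c : T := ⟨dg q (g, g⁻¹), hDmem _ (Or.inl (mul_inv_cancel g))⟩
  let z : T := ⟨dg q (1, -1), hDmem _ (Or.inr (one_mul _))⟩
  let e : T := ⟨dg q (-1, -1), hDmem _ (Or.inl (by simp))⟩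
  let w : T := ⟨sw q, (hmem _).mpr ⟨1, Or.inl (mul_one 1), Or.inr (by rw [map_one, one_mul])⟩⟩
  let InB : T → Prop := fun x => ∃ u, (x : GLq q) = dg q u
  have hB_eq : ∀ x : T, InB x → ∃ r i : ℕ, x = c ^ r * z ^ i := by
    rintro ⟨x, hx⟩ ⟨⟨a, b⟩, rfl⟩
    obtain ⟨⟨a', b'⟩, hu, h | h⟩ := (hmem _).mp hx
    · obtain ⟨rfl, rfl⟩ := Prod.mk.inj (dg_injective q h)
      obtain ⟨r, hr⟩ := (mem_powers_iff_mem_zpowers).mpr (hg a)
      simp only at hr
      rcases hu with hu | hu
      · refine ⟨r, 0, Subtype.ext ?_⟩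
        have hb : b = a⁻¹ := eq_inv_of_mul_eq_one_right hu
        simp only [c, Subgroup.coe_pow, pow_zero, mul_one, ← map_pow,
          Prod.pow_mk, inv_pow, hr, hb]
      · refine ⟨r, 1, Subtype.ext ?_⟩
        have hb : b = a⁻¹ * (-1) := by simp only at hu; rw [← hu, inv_mul_cancel_left]
        simp only [c, z, Subgroup.coe_mul, Subgroup.coe_pow, pow_one, ← map_pow, ← map_mul,
          Prod.pow_mk, inv_pow, hr, hb, Prod.mk_mul_mk, mul_one]
    · exact absurd h (dg_ne_dg_mul_sw q _ _)
  have hnotB : ∀ x : T, ¬ InB x → ∃ u : (ZMod q)ˣ × (ZMod q)ˣ, (u.1 * u.2 = 1 ∨ u.1 * u.2 = -1) ∧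
      (x : GLq q) = dg q u * sw q := by
    intro x hx
    obtain ⟨u, hu, h | h⟩ := (hmem _).mp x.2
    · exact absurd ⟨u, h⟩ hx
    · exact ⟨u, hu, h⟩
  have hnotB4 : ∀ x : T, ¬ InB x → x ^ 4 = 1 := by
    intro x hx
    obtain ⟨u, hu, h⟩ := hnotB x hx
    refine Subtype.ext ?_
    rw [Subgroup.coe_pow, h, show 4 = 2 * 2 from rfl, pow_mul, dg_mul_sw_sq, ← map_pow,
      Prod.pow_mk]
    rcases hu with hu | hu <;> rw [hu] <;> simp [Prod.mk_one_one]
  have hT2 : IsPGroup 2 T := by
    intro x
    refine ⟨m + 2, ?_⟩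
    by_cases hx : InB x
    · obtain ⟨u, hu⟩ := hx
      refine Subtype.ext ?_
      rw [Subgroup.coe_pow, hu, pow_add, pow_mul, ← map_pow, ← map_pow]
      have : u ^ 2 ^ m = 1 := Prod.ext (hupow _) (hupow _)
      simp [this]
    · rw [pow_add, mul_comm, pow_mul, show (2:ℕ) ^ 2 = 4 from rfl, hnotB4 x hx, one_pow]
  have : Finite (GLq q) := Finite.of_injective (fun f : GLq q => (f : _ → _))
    DFunLike.coe_injective
  refine isPGroup_mulAut fun φ n hn hφ => ?_
  -- it suffices that `φ` fixes `c`, `z`, `w`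
  suffices hall : φ c = c ∧ φ z = z ∧ φ w = w by
    obtain ⟨h1, h2, h3⟩ := hall
    ext1 x
    rw [MulAut.one_apply]
    by_cases hx : InB x
    · obtain ⟨r, i, rfl⟩ := hB_eq x hx
      rw [map_mul, map_pow, map_pow, h1, h2]
    · obtain ⟨u, hu, h⟩ := hnotB x hx
      obtain ⟨r, i, hb⟩ := hB_eq ⟨dg q u, hDmem u hu⟩ ⟨u, rfl⟩
      have : x = c ^ r * z ^ i * w := by rw [← hb]; exact Subtype.ext h
      rw [this, map_mul, map_mul, map_pow, map_pow, h1, h2, h3]
  -- it suffices that `φ` fixes `c` and `z`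
  suffices hcz : φ c = c ∧ φ z = z by
    obtain ⟨h1, h2⟩ := hcz
    refine ⟨h1, h2, ?_⟩
    have hfixB : ∀ x : T, InB x → φ x = x := by
      intro x hx
      obtain ⟨r, i, rfl⟩ := hB_eq x hx
      rw [map_mul, map_pow, map_pow, h1, h2]
    have hwB : ¬ InB w := by
      rintro ⟨u, hu⟩
      exact dg_ne_dg_mul_sw q u 1 (by rw [map_one, one_mul]; exact hu.symm)
    have hφw : ¬ InB (φ w) := fun h => hwB (by rw [← φ.injective (hfixB _ h)]; exact h)
    obtain ⟨⟨a, b⟩, -, h⟩ := hnotB _ hφw
    have hk : InB (w⁻¹ * φ w) := by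
      refine ⟨(b, a), ?_⟩
      rw [Subgroup.coe_mul, Subgroup.coe_inv, h, inv_mul_eq_iff_eq_mul]
      refine LinearEquiv.ext fun v => ?_
      simp only [LinearEquiv.mul_apply, w]
      funext i; fin_cases i <;> simp [sw_apply, dg_apply]
    exact fix_step hT2 φ hn hφ (k := w⁻¹ * φ w) (by group) (hfixB _ hk)
  have hz2 : z ^ 2 = 1 := by
    refine Subtype.ext ?_
    simp only [z, Subgroup.coe_pow, ← map_pow, Prod.pow_mk, one_pow, neg_one_sq]
    simp [Prod.mk_one_one]
  have hzi : ∀ i : ℕ, (z ^ i) ^ 2 = 1 := fun i => by rw [← pow_mul, mul_comm, pow_mul, hz2, one_pow]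
  have hinvB : ∀ x : T, InB x → x ^ 2 = 1 → x = 1 ∨ x = e ∨ x = z ∨ x = z * e := by
    rintro x ⟨⟨a, b⟩, hx⟩ hx2
    have h1 : dg q ((a, b) ^ 2) = dg q 1 := by
      rw [map_pow, ← hx, ← Subgroup.coe_pow, hx2, map_one]; rfl
    have h2 := dg_injective q h1
    rw [Prod.pow_mk, Prod.mk_eq_one] at h2
    rcases unit_sq_one q h2.1 with rfl | rfl <;> rcases unit_sq_one q h2.2 with rfl | rfl
    · left; exact Subtype.ext (by rw [hx, Prod.mk_one_one, map_one]; rfl)
    · right; right; left; exact Subtype.ext hx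
    · right; right; right; refine Subtype.ext ?_
      simp only [z, e, Subgroup.coe_mul, ← map_mul]
      rw [hx]; simp
    · right; left; exact Subtype.ext hx
  rcases Nat.lt_or_ge m 2 with hm | hm
  · -- `q = 2` or `q = 3`
    interval_cases m
    · -- `q = 2`
      have hu1 : ∀ u : (ZMod q)ˣ, u = 1 := fun u => by simpa using hupow u
      have hc : c = 1 := Subtype.ext (by simp [c, hu1 g, Prod.mk_one_one])
      have hz : z = 1 := Subtype.ext (by simp [z, hu1 (-1), Prod.mk_one_one])
      rw [hc, hz]; simp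
    · -- `q = 3`
      have hce : c = e := by
        have : g = -1 := by
          rcases unit_sq_one q (by simpa using hupow g) with h | h
          · rw [h, orderOf_one] at hgord; norm_num at hgord
          · exact h
        exact Subtype.ext (by simp [c, e, this])
      have hsq : ∀ x : T, x ^ 2 = 1 ∨ x ^ 2 = e := by
        intro x
        by_cases hx : InB x
        · obtain ⟨u, hu⟩ := hx
          left; refine Subtype.ext ?_
          rw [Subgroup.coe_pow, hu, ← map_pow]
          have : u ^ 2 = 1 := Prod.ext (by simpa using hupow u.1) (by simpa using hupow u.2)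
          rw [this, map_one]; rfl
        · obtain ⟨u, hu, h⟩ := hnotB x hx
          rcases hu with hu | hu
          · left; refine Subtype.ext ?_
            rw [Subgroup.coe_pow, h, dg_mul_sw_sq, hu, Prod.mk_one_one, map_one]; rfl
          · right; refine Subtype.ext ?_
            rw [Subgroup.coe_pow, h, dg_mul_sw_sq, hu]
      have hezw : (z * w) ^ 2 = e := by
        refine Subtype.ext ?_
        simp only [z, w, e, Subgroup.coe_pow, Subgroup.coe_mul, dg_mul_sw_sq, one_mul]
      have he1 : e ≠ 1 := by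
        intro h
        have h1 : dg q (-1, -1) = dg q 1 := by rw [map_one]; exact congrArg Subtype.val h
        have h2 : (-1 : (ZMod q)ˣ) = 1 := (Prod.mk_eq_one.mp (dg_injective q h1)).1
        have h3 : (-1 : ZMod q) = 1 := by simpa using congrArg Units.val h2
        have h4 : ((2 : ℕ) : ZMod q) = 0 := by push_cast; linear_combination -h3
        rw [ZMod.natCast_eq_zero_iff] at h4
        have := Nat.le_of_dvd (by norm_num) h4
        norm_num at hq; omega
      have hφe : φ e = e := by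
        rw [← hezw, map_pow]
        rcases hsq (φ (z * w)) with h | h
        · exfalso; apply he1; rw [← hezw]; apply φ.injective; rw [map_pow, h, map_one]
        · rw [h, hezw]
      refine ⟨by rw [hce, hφe], ?_⟩
      have hz1 : z ≠ 1 := by
        intro h
        have h1 : dg q (1, -1) = dg q 1 := by rw [map_one]; exact congrArg Subtype.val h
        apply he1; refine Subtype.ext ?_
        simp only [e, (Prod.mk_eq_one.mp (dg_injective q h1)).2, Prod.mk_one_one, map_one]; rfl
      have hze : z ≠ e := by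
        intro h
        have h1 : dg q (1, -1) = dg q (-1, -1) := congrArg Subtype.val h
        apply he1; refine Subtype.ext ?_
        simp only [e, ← (Prod.mk.inj (dg_injective q h1)).1, Prod.mk_one_one, map_one]; rfl
      have hw1 : w ≠ 1 := fun h => dg_ne_dg_mul_sw q 1 1 (by
        rw [map_one, one_mul]; exact (congrArg Subtype.val h).symm)
      have hwe : w ≠ e := fun h => dg_ne_dg_mul_sw q (-1, -1) 1 (by
        rw [map_one, one_mul]; exact (congrArg Subtype.val h).symm)
      have hee : e * e = 1 := Subtype.ext (by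
        simp only [e, Subgroup.coe_mul, ← map_mul]; simp [Prod.mk_one_one])
      have hinv : ∀ x : T, x ≠ 1 → x ≠ e → x ^ 2 = 1 →
          (x = z ∨ x = z * e) ∨ (x = w ∨ x = e * w) := by
        intro x h1 h2 h3
        by_cases hx : InB x
        · rcases hinvB x hx h3 with h | h | h | h
          · exact absurd h h1
          · exact absurd h h2
          · exact Or.inl (Or.inl h)
          · exact Or.inl (Or.inr h)
        · obtain ⟨⟨a, b⟩, -, h⟩ := hnotB x hx
          right
          have h4 : dg q (a * b, a * b) = dg q 1 := by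
            have h5 := dg_mul_sw_sq q (a, b)
            rw [← h, ← Subgroup.coe_pow, h3] at h5
            rw [← h5, map_one]; rfl
          have hab : a * b = 1 := (Prod.mk_eq_one.mp (dg_injective q h4)).1
          rcases unit_sq_one q (by simpa using hupow a : a ^ 2 = 1) with rfl | rfl
          · left; refine Subtype.ext ?_
            rw [one_mul] at hab; rw [h, hab, Prod.mk_one_one, map_one, one_mul]
          · right; refine Subtype.ext ?_
            rw [neg_one_mul] at hab
            have hb : b = -1 := by rw [← hab, neg_neg]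
            rw [h, hb]; rfl
      have hw2 : w ^ 2 = 1 := Subtype.ext (by
        have := dg_mul_sw_sq q 1
        simpa [w, Prod.mk_one_one] using this)
      have hφz1 : φ z ≠ 1 := fun h => hz1 (φ.injective (by rw [h, map_one]))
      have hφze : φ z ≠ e := fun h => hze (φ.injective (by rw [h, hφe]))
      have hφw1 : φ w ≠ 1 := fun h => hw1 (φ.injective (by rw [h, map_one]))
      have hφwe : φ w ≠ e := fun h => hwe (φ.injective (by rw [h, hφe]))
      rcases hinv (φ z) hφz1 hφze (by rw [← map_pow, hz2, map_one]) with h | h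
      · rcases h with h | h
        · exact h
        · exact fix_step hT2 φ hn hφ h hφe
      · -- `φ` would move `z` to `{w, e w}` and back
        exfalso
        have hzw' : z ≠ w ∧ z ≠ e * w := by
          constructor
          · intro h'; exact dg_ne_dg_mul_sw q (1, -1) 1 (by
              rw [map_one, one_mul]; exact congrArg Subtype.val h')
          · intro h'; exact dg_ne_dg_mul_sw q (1, -1) (-1, -1) (congrArg Subtype.val h')
        have hφew : φ w = z ∨ φ w = z * e := by
          rcases hinv (φ w) hφw1 hφwe (by rw [← map_pow, hw2, map_one]) with h' | h'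
          · exact h'
          · exfalso
            have hx : φ w = φ z ∨ φ w = φ (e * z) := by
              rw [map_mul, hφe]
              rcases h with h | h <;> rcases h' with h' | h' <;> rw [h, h']
              · exact Or.inl rfl
              · exact Or.inr rfl
              · exact Or.inr (by rw [← mul_assoc, hee, one_mul])
              · exact Or.inl rfl
            rcases hx with hx | hx
            · exact hzw'.1 (φ.injective hx).symm
            · apply hzw'.2; rw [φ.injective hx, ← mul_assoc, hee, one_mul]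
        have hez : e * z = z * e := Subtype.ext (by
          simp only [z, e, Subgroup.coe_mul, ← map_mul, mul_comm])
        have hψ : (φ ^ 2) z = z ∨ (φ ^ 2) z = z * e := by
          rw [pow_two, MulAut.mul_apply]
          rcases h with h | h <;> rw [h]
          · exact hφew
          · rw [map_mul, hφe]
            rcases hφew with h' | h' <;> rw [h']
            · exact Or.inr hez
            · left; rw [← mul_assoc, hez, mul_assoc, hee, mul_one]
        have hψn : (φ ^ 2) ^ n = 1 := by rw [← pow_mul, mul_comm, pow_mul, hφ, one_pow]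
        have hψz : (φ ^ 2) z = z := by
          rcases hψ with h' | h'
          · exact h'
          · refine fix_step hT2 _ hn hψn h' ?_
            rw [pow_two, MulAut.mul_apply, hφe, hφe]
        obtain ⟨j, rfl⟩ := hn
        have hjz : ∀ i : ℕ, ((φ ^ 2) ^ i) z = z := fun i => by
          induction i with
          | zero => rfl
          | succ i ih => rw [pow_succ, MulAut.mul_apply, hψz, ih]
        have hzz := congrArg (fun ψ : MulAut T => ψ z) hφ
        simp only [MulAut.one_apply] at hzz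
        rw [pow_succ', MulAut.mul_apply, pow_mul, hjz] at hzz
        rcases h with h | h
        · exact hzw'.1 (hzz.symm.trans h)
        · exact hzw'.2 (hzz.symm.trans h)
  -- `q - 1 = 2 ^ m ≥ 8`
  have hm3 : 3 ≤ m := by
    rcases Nat.eq_or_lt_of_le hm with h | h
    · subst h; norm_num at hq; exact absurd hq hq5
    · exact h
  have hcpow : ∀ k : ℕ, c ^ k = 1 ↔ 2 ^ m ∣ k := by
    intro k
    rw [← hgord, orderOf_dvd_iff_pow_eq_one]
    constructor
    · intro h
      have h1 : dg q ((g, g⁻¹) ^ k) = dg q 1 := by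
        rw [map_pow, map_one]; exact congrArg Subtype.val h
      have h2 := dg_injective q h1
      rw [Prod.pow_mk, Prod.mk_eq_one] at h2
      exact h2.1
    · intro h
      refine Subtype.ext ?_
      rw [Subgroup.coe_pow, ← map_pow, Prod.pow_mk, inv_pow, h, inv_one, Prod.mk_one_one, map_one]
      rfl
  have hcz' : Commute c z := Subtype.ext (by
    simp only [c, z, Subgroup.coe_mul, ← map_mul, mul_comm])
  have hc4 : c ^ 4 ≠ 1 := by
    rw [Ne, hcpow]
    intro h
    have h8 : 2 ^ 3 ≤ 2 ^ m := Nat.pow_le_pow_right (by norm_num) hm3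
    have := Nat.le_of_dvd (by norm_num) h
    omega
  have hz4 : z ^ 4 = 1 := by rw [show 4 = 2 * 2 from rfl, pow_mul, hz2, one_pow]
  have hφcB : InB (φ c) := by
    by_contra h
    exact hc4 (φ.injective (by rw [map_pow, hnotB4 _ h, map_one]))
  have hφzB : InB (φ z) := by
    have h1 : InB (φ (c * z)) := by
      by_contra h
      apply hc4; apply φ.injective
      rw [map_one, ← hnotB4 _ h, ← map_pow, hcz'.mul_pow, hz4, mul_one]
    obtain ⟨u, hu⟩ := hφcB
    obtain ⟨u', hu'⟩ := h1
    refine ⟨u⁻¹ * u', ?_⟩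
    rw [map_mul] at hu'
    rw [map_mul, map_inv, ← hu, ← hu']
    simp
  obtain ⟨r, i, hri⟩ := hB_eq _ hφcB
  have hrodd : Odd r := by
    rcases Nat.even_or_odd r with ⟨s, hs⟩ | h
    · exfalso
      have h1 : φ (c ^ 2 ^ (m - 1)) = 1 := by
        rw [map_pow, hri, (hcz'.pow_pow r i).mul_pow,
          show 2 ^ (m - 1) = 2 * 2 ^ (m - 2) by rw [← pow_succ']; congr 1; omega,
          pow_mul (z ^ i), hzi, one_pow, mul_one, ← pow_mul, hcpow, hs]
        refine ⟨s, ?_⟩
        rw [show 2 ^ m = 2 * (2 * 2 ^ (m - 2)) by rw [← pow_succ', ← pow_succ']; congr 1; omega]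
        ring
      have h2 : c ^ 2 ^ (m - 1) = 1 := φ.injective (by rw [h1, map_one])
      rw [hcpow, Nat.pow_dvd_pow_iff_le_right (by norm_num)] at h2
      omega
    · exact h
  obtain ⟨s, hs⟩ := hrodd
  have hdesc : ∀ k ≤ m - 1, φ (c ^ 2 ^ (m - k)) = c ^ 2 ^ (m - k) := by
    intro k
    induction k with
    | zero => intro _; rw [Nat.sub_zero, (hcpow _).mpr dvd_rfl, map_one]
    | succ k ih =>
      intro hk
      obtain ⟨j, hj⟩ : ∃ j, m - (k + 1) = j + 1 := ⟨m - (k + 1) - 1, by omega⟩
      have hj' : m - k = j + 2 := by omega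
      have hk' := ih (by omega)
      rw [hj'] at hk'
      rw [hj]
      refine fix_step hT2 φ hn hφ (k := (c ^ 2 ^ (j + 2)) ^ s) ?_ (by rw [map_pow, hk'])
      rw [map_pow, hri, (hcz'.pow_pow r i).mul_pow, pow_succ' 2 j, pow_mul (z ^ i), hzi, one_pow,
        mul_one, ← pow_mul, ← pow_mul, ← pow_add, hs]
      congr 1
      ring
  have hc2 : φ (c ^ 2) = c ^ 2 := by
    have := hdesc (m - 1) le_rfl
    rwa [show m - (m - 1) = 1 by omega, pow_one] at this
  have hee : c ^ 2 ^ (m - 1) = e := by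
    rcases hinvB (c ^ 2 ^ (m - 1)) ⟨(g, g⁻¹) ^ 2 ^ (m - 1), by rw [map_pow]; rfl⟩
      (by rw [← pow_mul, hcpow, ← pow_succ]; exact pow_dvd_pow 2 (by omega)) with h | h | h | h
    · rw [hcpow, Nat.pow_dvd_pow_iff_le_right (by norm_num)] at h; omega
    · exact h
    · exfalso
      have h1 : dg q ((g, g⁻¹) ^ 2 ^ (m - 1)) = dg q (1, -1) := by
        rw [map_pow]; exact congrArg Subtype.val h
      have h2 := Prod.mk.inj ((Prod.pow_mk _ _ _).symm.trans (dg_injective q h1))
      have h4 : (2:ℕ) ^ m ∣ 2 ^ (m - 1) := by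
        rw [← hgord]; exact orderOf_dvd_of_pow_eq_one h2.1
      rw [Nat.pow_dvd_pow_iff_le_right (by norm_num)] at h4; omega
    · exfalso
      have h1 : dg q ((g, g⁻¹) ^ 2 ^ (m - 1)) = dg q ((1, -1) * (-1, -1)) := by
        rw [map_pow, map_mul]; exact congrArg Subtype.val h
      have h2 := Prod.mk.inj ((Prod.pow_mk _ _ _).symm.trans
        ((dg_injective q h1).trans (Prod.mk_mul_mk _ _ _ _)))
      have h3 : g ^ 2 ^ (m - 1) = 1 := by
        have := h2.2; rw [inv_pow, inv_eq_iff_eq_inv] at this; simpa using this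
      have h4 : (2:ℕ) ^ m ∣ 2 ^ (m - 1) := by
        rw [← hgord]; exact orderOf_dvd_of_pow_eq_one h3
      rw [Nat.pow_dvd_pow_iff_le_right (by norm_num)] at h4; omega
  have hφe : φ e = e := by
    rw [← hee, show 2 ^ (m - 1) = 2 * 2 ^ (m - 2) by rw [← pow_succ']; congr 1; omega, pow_mul,
      map_pow, hc2]
  have hz1 : z ≠ 1 ∧ z ≠ e := by
    have hm1 : (-1 : (ZMod q)ˣ) ≠ 1 := by
      intro h
      have h1 : dg q (-1, -1) = 1 := by rw [h, Prod.mk_one_one, map_one]
      have : c ^ 2 ^ (m - 1) = 1 := hee.trans (Subtype.ext h1)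
      rw [hcpow, Nat.pow_dvd_pow_iff_le_right (by norm_num)] at this; omega
    constructor
    · intro h
      have h1 : dg q (1, -1) = dg q 1 := by rw [map_one]; exact congrArg Subtype.val h
      exact hm1 (Prod.mk_eq_one.mp (dg_injective q h1)).2
    · intro h
      have h1 : dg q (1, -1) = dg q (-1, -1) := congrArg Subtype.val h
      exact hm1 (Prod.mk.inj (dg_injective q h1)).1.symm
  have hφz : φ z = z := by
    rcases hinvB (φ z) hφzB (by rw [← map_pow, hz2, map_one]) with h | h | h | h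
    · exact absurd (φ.injective (by rw [h, map_one])) hz1.1
    · exact absurd (φ.injective (by rw [h, hφe])) hz1.2
    · exact h
    · exact fix_step hT2 φ hn hφ h hφe
  refine ⟨fix_step hT2 φ hn hφ (k := (c ^ 2) ^ s * z ^ i) ?_ ?_, hφz⟩
  · rw [hri, hs, pow_succ', pow_mul, mul_assoc]
  · rw [map_mul, map_pow φ (c ^ 2), hc2, map_pow φ z, hφz]

end Cfsg.SpectrumMonomialAut
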