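import Cfsg.Agent.Lib.Spectrum.SelfCentralSimple
import Mathlib.GroupTheory.Index
import Mathlib

/-!
A simple group of order 5616 with the commuting pattern of the transvections of `SL(3, 3)` is the
collineation group of the plane of order 3.
-/

namespace Cfsg.Agent.Lib.Spectrum.PlaneThree

open Subgroup

/-- Points on each line, as bit masks. -/
def lineMask : List ℕ := [54, 197, 1283, 1192, 2593, 4121, 4738, 2122, 7172, 1616, 780, 2448, 4448]

def inc (p l : Fin 13) : Bool := Nat.testBit (lineMask.getD l 0) p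

abbrev Idx := {x : Fin 13 × Fin 13 × Bool // inc x.1 x.2.1 = true}

def Idx.pt (a : Idx) : Fin 13 := a.1.1
def Idx.ln (a : Idx) : Fin 13 := a.1.2.1

def Comm (a b : Idx) : Prop := inc a.pt b.ln = true ∧ inc b.pt a.ln = true

theorem inc_symm : ∀ p l : Fin 13, inc p l = inc l p := by decide +kernel

theorem unique_line : ∀ p q l m : Fin 13, p ≠ q → inc p l = true → inc q l = true → inc p m = true →
    inc q m = true → l = m := by decide +kernel

theorem exists_line : ∀ p q : Fin 13, ∃ l, inc p l = true ∧ inc q l = true := by decide +kernel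

theorem exists_point (l : Fin 13) : ∃ p, inc p l = true := by
  obtain ⟨p, hp, -⟩ := exists_line l l
  exact ⟨p, by rw [inc_symm]; exact hp⟩

theorem two_points : ∀ l : Fin 13, ∃ p q, p ≠ q ∧ inc p l = true ∧ inc q l = true := by
  decide +kernel

theorem not_all_comm : ∃ a b : Idx, ¬ (inc a.pt b.ln = true ∧ inc b.pt a.ln = true) :=
  ⟨⟨(0, 1, true), by decide +kernel⟩, ⟨(1, 0, true), by decide +kernel⟩, by decide +kernel⟩

def ofPt (p : Fin 13) : Finset Idx := Finset.univ.filter fun a => a.pt = p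
def ofLn (l : Fin 13) : Finset Idx := Finset.univ.filter fun a => a.ln = l

theorem mem_ofPt {a : Idx} {p : Fin 13} : a ∈ ofPt p ↔ a.pt = p := by simp [ofPt]
theorem mem_ofLn {a : Idx} {l : Fin 13} : a ∈ ofLn l ↔ a.ln = l := by simp [ofLn]

theorem card_ofPt : ∀ p : Fin 13, (ofPt p).card = 8 := by decide +kernel
theorem card_ofLn : ∀ l : Fin 13, (ofLn l).card = 8 := by decide +kernel

/-- Cliques lie in a pencil or a line. -/
theorem clique_subset (K : Finset Idx) (hK : ∀ a ∈ K, ∀ b ∈ K, Comm a b) :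
    (∃ p, K ⊆ ofPt p) ∨ ∃ l, K ⊆ ofLn l := by
  by_cases h : ∃ a ∈ K, ∃ b ∈ K, a.pt ≠ b.pt
  · obtain ⟨a, ha, b, hb, hab⟩ := h
    right
    have key : ∀ c ∈ K, ∀ d ∈ K, c.pt ≠ d.pt → c.ln = d.ln := fun c hc d hd hne =>
      unique_line c.pt d.pt _ _ hne c.2 (hK c hc d hd).2 (hK c hc d hd).1 d.2
    refine ⟨a.ln, fun c hc => mem_ofLn.mpr ?_⟩
    by_cases hca : c.pt = a.pt
    · exact (key c hc b hb (hca ▸ hab)).trans (key a ha b hb hab).symm
    · exact key c hc a ha hca
  · left
    push Not at h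
    rcases K.eq_empty_or_nonempty with rfl | ⟨a, ha⟩
    · exact ⟨0, Finset.empty_subset _⟩
    · exact ⟨a.pt, fun b hb => mem_ofPt.mpr (h b hb a ha)⟩

theorem comm_ofPt {p : Fin 13} : ∀ a ∈ ofPt p, ∀ b ∈ ofPt p, Comm a b := fun a ha b hb => by
  rw [mem_ofPt] at ha hb
  exact ⟨ha ▸ hb ▸ b.2, hb ▸ ha ▸ a.2⟩

theorem comm_ofLn {l : Fin 13} : ∀ a ∈ ofLn l, ∀ b ∈ ofLn l, Comm a b := fun a ha b hb => by
  rw [mem_ofLn] at ha hb
  exact ⟨hb ▸ ha ▸ a.2, ha ▸ hb ▸ b.2⟩

theorem ofPt_ne_ofLn (p l : Fin 13) : ofPt p ≠ ofLn l := by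
  intro h
  obtain ⟨p₁, q₁, hne, h1, h2⟩ := two_points l
  have e1 := mem_ofPt.mp (h ▸ (mem_ofLn (a := ⟨(p₁, l, true), h1⟩)).mpr rfl)
  have e2 := mem_ofPt.mp (h ▸ (mem_ofLn (a := ⟨(q₁, l, true), h2⟩)).mpr rfl)
  exact hne (e1.trans e2.symm)

theorem ofPt_injective {p q : Fin 13} (h : ofPt p = ofPt q) : p = q := by
  obtain ⟨l, hl, -⟩ := exists_line p p
  exact mem_ofPt.mp (h ▸ (mem_ofPt (a := ⟨(p, l, true), hl⟩)).mpr rfl)

theorem ofLn_injective {p q : Fin 13} (h : ofLn p = ofLn q) : p = q := by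
  obtain ⟨r, hr⟩ := exists_point p
  exact mem_ofLn.mp (h ▸ (mem_ofLn (a := ⟨(r, p, true), hr⟩)).mpr rfl)

theorem eq_of_meet_ofPt {p q : Fin 13} {a : Idx} (ha : a ∈ ofPt p) (hb : a ∈ ofPt q) : p = q :=
  (mem_ofPt.mp ha).symm.trans (mem_ofPt.mp hb)

theorem eq_of_meet_ofLn {p q : Fin 13} {a : Idx} (ha : a ∈ ofLn p) (hb : a ∈ ofLn q) : p = q :=
  (mem_ofLn.mp ha).symm.trans (mem_ofLn.mp hb)

section perm

variable (π : Equiv.Perm Idx)

theorem image_cases (hπ : ∀ a b, Comm a b → Comm (π a) (π b)) {K : Finset Idx} (hc : K.card = 8)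
    (hK : ∀ a ∈ K, ∀ b ∈ K, Comm a b) :
    (∃ p, K.image π = ofPt p) ∨ ∃ l, K.image π = ofLn l := by
  have h : ∀ a ∈ K.image π, ∀ b ∈ K.image π, Comm a b := by
    simp only [Finset.mem_image]
    rintro _ ⟨a, ha, rfl⟩ _ ⟨b, hb, rfl⟩
    exact hπ a b (hK a ha b hb)
  have hcard : (K.image π).card = 8 := by rw [Finset.card_image_of_injective _ π.injective, hc]
  rcases clique_subset _ h with ⟨p, hp⟩ | ⟨l, hl⟩
  · exact Or.inl ⟨p, Finset.eq_of_subset_of_card_le hp (by rw [hcard, card_ofPt])⟩
  · exact Or.inr ⟨l, Finset.eq_of_subset_of_card_le hl (by rw [hcard, card_ofLn])⟩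

/-- Either points go to points and lines to lines, or they are exchanged. -/
theorem dichotomy (hπ : ∀ a b, Comm a b → Comm (π a) (π b)) :
    ((∀ p, ∃ q, (ofPt p).image π = ofPt q) ∧ ∀ l, ∃ m, (ofLn l).image π = ofLn m) ∨
    ((∀ p, ∃ m, (ofPt p).image π = ofLn m) ∧ ∀ l, ∃ q, (ofLn l).image π = ofPt q) := by
  have hP := fun p => image_cases π hπ (card_ofPt p) comm_ofPt
  have hL := fun l => image_cases π hπ (card_ofLn l) comm_ofLn
  have himg : ∀ {K K' : Finset Idx}, K.image π = K'.image π → K = K' := fun h =>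
    Finset.image_injective π.injective h
  by_cases h0 : ∃ p q, (ofPt p).image π = ofPt q
  · left
    obtain ⟨p, q, hpq⟩ := h0
    have hline : ∀ l, inc p l = true → ∃ m, (ofLn l).image π = ofLn m := by
      intro l hl
      rcases hL l with ⟨q', hq'⟩ | h
      · exfalso
        let a : Idx := ⟨(p, l, true), hl⟩
        have h1 : π a ∈ ofPt q := hpq ▸ Finset.mem_image_of_mem π (mem_ofPt.mpr rfl)
        have h2 : π a ∈ ofPt q' := hq' ▸ Finset.mem_image_of_mem π (mem_ofLn.mpr rfl)
        have := eq_of_meet_ofPt h1 h2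
        subst this
        exact ofPt_ne_ofLn p l (himg (hpq.trans hq'.symm))
      · exact h
    have hpts : ∀ p', ∃ q', (ofPt p').image π = ofPt q' := by
      intro p'
      obtain ⟨l, hl, hl'⟩ := exists_line p p'
      obtain ⟨m, hm⟩ := hline l hl
      rcases hP p' with h | ⟨m', hm'⟩
      · exact h
      · exfalso
        let a : Idx := ⟨(p', l, true), hl'⟩
        have h1 : π a ∈ ofLn m := hm ▸ Finset.mem_image_of_mem π (mem_ofLn.mpr rfl)
        have h2 : π a ∈ ofLn m' := hm' ▸ Finset.mem_image_of_mem π (mem_ofPt.mpr rfl)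
        have := eq_of_meet_ofLn h1 h2
        subst this
        exact ofPt_ne_ofLn p' l (himg (hm'.trans hm.symm))
    refine ⟨hpts, fun l => ?_⟩
    obtain ⟨r, hr⟩ := exists_point l
    obtain ⟨q', hq'⟩ := hpts r
    rcases hL l with ⟨q'', hq''⟩ | h
    · exfalso
      let a : Idx := ⟨(r, l, true), hr⟩
      have h1 : π a ∈ ofPt q' := hq' ▸ Finset.mem_image_of_mem π (mem_ofPt.mpr rfl)
      have h2 : π a ∈ ofPt q'' := hq'' ▸ Finset.mem_image_of_mem π (mem_ofLn.mpr rfl)
      have := eq_of_meet_ofPt h1 h2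
      subst this
      exact ofPt_ne_ofLn r l (himg (hq'.trans hq''.symm))
    · exact h
  · right
    push Not at h0
    have hP' : ∀ p, ∃ m, (ofPt p).image π = ofLn m := fun p =>
      (hP p).resolve_left fun ⟨q, hq⟩ => h0 p q hq
    refine ⟨hP', fun l => ?_⟩
    obtain ⟨r, hr⟩ := exists_point l
    obtain ⟨m', hm'⟩ := hP' r
    rcases hL l with h | ⟨m, hm⟩
    · exact h
    · exfalso
      let a : Idx := ⟨(r, l, true), hr⟩
      have h1 : π a ∈ ofLn m' := hm' ▸ Finset.mem_image_of_mem π (mem_ofPt.mpr rfl)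
      have h2 : π a ∈ ofLn m := hm ▸ Finset.mem_image_of_mem π (mem_ofLn.mpr rfl)
      have := eq_of_meet_ofLn h1 h2
      subst this
      exact ofPt_ne_ofLn r l (himg (hm'.trans hm.symm))

end perm

/-! ### Collineations -/

def Col : Subgroup (Equiv.Perm (Fin 13)) where
  carrier := {σ | ∃ τ : Equiv.Perm (Fin 13), ∀ p l, inc (σ p) (τ l) = inc p l}
  one_mem' := ⟨1, fun _ _ => rfl⟩
  mul_mem' := by
    rintro a b ⟨τ, hτ⟩ ⟨τ', hτ'⟩
    exact ⟨τ * τ', fun p l => (hτ (b p) (τ' l)).trans (hτ' p l)⟩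
  inv_mem' := by
    rintro a ⟨τ, hτ⟩
    refine ⟨τ⁻¹, fun p l => ?_⟩
    conv_rhs => rw [← a.apply_symm_apply p, ← τ.apply_symm_apply l, hτ]
    rfl

def col (a b x : Fin 13) : Prop := ∃ l, inc a l = true ∧ inc b l = true ∧ inc x l = true

instance (a b x : Fin 13) : Decidable (col a b x) := by unfold col; infer_instance

def colB (a b x : Fin 13) : Bool :=
  lineMask.any fun m => m.testBit a && m.testBit b && m.testBit x

theorem colB_iff : ∀ a b x : Fin 13, colB a b x = true ↔ col a b x := by decide +kernel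

def frameOK (q : Fin 13 × Fin 13 × Fin 13 × Fin 13) : Bool :=
  decide (q.1 ≠ q.2.1) && !(colB q.1 q.2.1 q.2.2.1) && !(colB q.1 q.2.1 q.2.2.2) &&
    !(colB q.1 q.2.2.1 q.2.2.2) && !(colB q.2.1 q.2.2.1 q.2.2.2)

theorem count_three : ∀ a b : Fin 13, a ≠ b →
    (Finset.univ.filter fun x => colB a b x = false).card = 9 := by decide +kernel

theorem count_four : ∀ a b c : Fin 13, a ≠ b → colB a b c = false →
    (Finset.univ.filter fun x =>
      (!(colB a b x) && !(colB a c x) && !(colB b c x)) = true).card = 4 := by decide +kernel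

theorem card_frames :
    Fintype.card {q : Fin 13 × Fin 13 × Fin 13 × Fin 13 // frameOK q = true} ≤ 5616 := by
  classical
  let e : {q : Fin 13 × Fin 13 × Fin 13 × Fin 13 // frameOK q = true} →
      (a : Fin 13) × (b : {b : Fin 13 // a ≠ b}) × (c : {c : Fin 13 // colB a b c = false}) ×
        {d : Fin 13 // (!(colB a b d) && !(colB a c d) && !(colB b c d)) = true} := fun q =>
    ⟨q.1.1, ⟨q.1.2.1, by have h := q.2; simp [frameOK] at h; exact h.1.1.1.1⟩,
      ⟨q.1.2.2.1, by have h := q.2; simp [frameOK] at h; exact h.1.1.1.2⟩,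
      ⟨q.1.2.2.2, by have h := q.2; simp [frameOK] at h ⊢; exact ⟨⟨h.1.1.2, h.1.2⟩, h.2⟩⟩⟩
  have he : Function.Injective e := Function.LeftInverse.injective
    (g := fun z => if h : frameOK (z.1, z.2.1.1, z.2.2.1.1, z.2.2.2.1) = true then ⟨_, h⟩ else
      ⟨(0, 1, 2, 3), by decide +kernel⟩) fun q => by simp [e, q.2]
  refine (Fintype.card_le_of_injective e he).trans ?_
  rw [Fintype.card_sigma]
  have h12 : ∀ a : Fin 13, Fintype.card {b : Fin 13 // a ≠ b} = 12 := by decide
  calc ∑ a : Fin 13, Fintype.card ((b : {b : Fin 13 // a ≠ b}) ×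
        (c : {c : Fin 13 // colB a b c = false}) ×
          {d : Fin 13 // (!(colB a b d) && !(colB a c d) && !(colB b c d)) = true})
      ≤ ∑ _a : Fin 13, 432 := Finset.sum_le_sum fun a _ => by
        rw [Fintype.card_sigma]
        calc _ ≤ ∑ _b : {b : Fin 13 // a ≠ b}, 36 := Finset.sum_le_sum fun b _ => by
              rw [Fintype.card_sigma]
              calc _ ≤ ∑ _c : {c : Fin 13 // colB a b c = false}, 4 :=
                    Finset.sum_le_sum fun c _ => by
                      rw [Fintype.card_subtype, count_four a b c b.2 c.2]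
                _ = 36 := by
                    rw [Finset.sum_const, Finset.card_univ, Fintype.card_subtype,
                      count_three a b b.2]; rfl
          _ = 432 := by rw [Finset.sum_const, Finset.card_univ, h12]; rfl
    _ = 5616 := by simp

theorem col_map {σ : Equiv.Perm (Fin 13)} (hσ : σ ∈ Col) (a b x : Fin 13) :
    col (σ a) (σ b) (σ x) ↔ col a b x := by
  obtain ⟨τ, hτ⟩ := hσ
  constructor
  · rintro ⟨l, h1, h2, h3⟩
    obtain ⟨l, rfl⟩ := τ.surjective l
    rw [hτ] at h1 h2 h3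
    exact ⟨l, h1, h2, h3⟩
  · rintro ⟨l, h1, h2, h3⟩
    exact ⟨τ l, by rw [hτ]; exact h1, by rw [hτ]; exact h2, by rw [hτ]; exact h3⟩

theorem eq_one_of_fix {σ : Equiv.Perm (Fin 13)} (hσ : σ ∈ Col) (h0 : σ 0 = 0) (h1 : σ 1 = 1)
    (h2 : σ 2 = 2) (h3 : σ 3 = 3) : σ = 1 := by
  have step : ∀ a b c d x : Fin 13, σ a = a → σ b = b → σ c = c → σ d = d →
      (col a b x ∧ col c d x ∧ ∀ y, col a b y → col c d y → y = x) → σ x = x := by
    rintro a b c d x ha hb hc hd ⟨hx, hx', huniq⟩
    refine huniq _ ?_ ?_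
    · have := (col_map hσ a b x).mpr hx; rwa [ha, hb] at this
    · have := (col_map hσ c d x).mpr hx'; rwa [hc, hd] at this
  have h8 := step 0 1 2 3 8 h0 h1 h2 h3 (by decide +kernel)
  have h6 := step 0 2 1 3 6 h0 h2 h1 h3 (by decide +kernel)
  have h4 := step 0 3 1 2 4 h0 h3 h1 h2 (by decide +kernel)
  have h10 := step 0 1 6 4 10 h0 h1 h6 h4 (by decide +kernel)
  have h7 := step 0 2 3 10 7 h0 h2 h3 h10 (by decide +kernel)
  have h12 := step 0 3 1 7 12 h0 h3 h1 h7 (by decide +kernel)
  have h5 := step 1 2 3 10 5 h1 h2 h3 h10 (by decide +kernel)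
  have h11 := step 0 5 1 3 11 h0 h5 h1 h3 (by decide +kernel)
  have h9 := step 0 5 1 7 9 h0 h5 h1 h7 (by decide +kernel)
  ext x
  fin_cases x <;> simp_all

theorem card_Col_le : Nat.card Col ≤ 5616 := by
  classical
  refine le_trans ?_ card_frames
  rw [← Nat.card_eq_fintype_card]
  refine Nat.card_le_card_of_injective (fun σ : Col => (⟨((σ : Equiv.Perm (Fin 13)) 0,
    (σ : Equiv.Perm (Fin 13)) 1, (σ : Equiv.Perm (Fin 13)) 2, (σ : Equiv.Perm (Fin 13)) 3), ?_⟩ :
    {q : Fin 13 × Fin 13 × Fin 13 × Fin 13 // frameOK q = true})) ?_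
  · have h : frameOK (0, 1, 2, 3) = true := by decide +kernel
    simp only [frameOK, Bool.and_eq_true, Bool.not_eq_true', ← Bool.not_eq_true, colB_iff,
      decide_eq_true_eq, col_map σ.2] at h ⊢
    exact ⟨⟨⟨⟨fun e => h.1.1.1.1 (σ.1.injective e), h.1.1.1.2⟩, h.1.1.2⟩, h.1.2⟩, h.2⟩
  · intro σ σ' h
    simp only [Subtype.mk.injEq, Prod.mk.injEq] at h
    have := eq_one_of_fix (σ' ⁻¹ * σ).2 (by simp [h.1]) (by simp [h.2.1]) (by simp [h.2.2.1])
      (by simp [h.2.2.2])
    exact (inv_mul_eq_one.mp (Subtype.ext this)).symm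

/-! ### Groups with this geometry -/

/-- The commuting pattern of transvections. -/
structure Geom (H : Type*) [Group H] where
  tv : Idx → H
  inj : Function.Injective tv
  comm : ∀ a b, tv a * tv b = tv b * tv a ↔ Comm a b
  range : ∀ y, (∃ a, tv a = y) ↔ y ≠ 1 ∧ 27 ∣ Nat.card (Subgroup.centralizer ({y} : Set H))

variable {H : Type*} [Group H] [Finite H]

theorem isSimpleGroup (hH : Nat.card H = 5616) (D : Geom H) {x : H} (hx : orderOf x = 13)
    (hC : ∀ y : H, y * x = x * y → y ∈ zpowers x) : IsSimpleGroup H := by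
  classical
  have : Fact (Nat.Prime 13) := ⟨by norm_num⟩
  refine SelfCentralSimple.isSimpleGroup_of (r := 432) (by rw [hH]) (by norm_num) (by norm_num) hx hC
    ?_ ?_
  · intro q hq Q hQp hQ hn hp
    have : Fact q.Prime := ⟨hq⟩
    have hmod := SelfCentralSimple.card_modEq_one hx hC Q hp hn
    obtain ⟨n, hn'⟩ := IsPGroup.iff_card.mp hQp
    have hne : Nat.card Q ≠ 1 := fun h => hQ (Q.eq_bot_of_card_eq h)
    have hdvd : Nat.card Q ∣ 5616 := hH ▸ Subgroup.card_subgroup_dvd_card Q
    have key : ∀ d ∈ Nat.divisors 5616, d % 13 = 1 → d = 1 ∨ d = 27 ∨ d ∈ ([144] : List ℕ) := by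
      decide +kernel
    have h27 : Nat.card Q = 27 := by
      rcases key _ (Nat.mem_divisors.mpr ⟨hdvd, by norm_num⟩) hmod with h | h | h
      · exact absurd h hne
      · exact h
      · exfalso
        rw [List.mem_singleton, hn'] at h
        have h2 : 2 ∣ q ^ n := by rw [h]; norm_num
        have h3 : 3 ∣ q ^ n := by rw [h]; norm_num
        have e2 := (Nat.prime_dvd_prime_iff_eq Nat.prime_two hq).mp (Nat.prime_two.dvd_of_dvd_pow h2)
        have e3 := (Nat.prime_dvd_prime_iff_eq Nat.prime_three hq).mp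
          (Nat.prime_three.dvd_of_dvd_pow h3)
        omega
    -- the centre is normalised by `x`, so `Q` is abelian
    set Z : Subgroup H := (Subgroup.center Q).map Q.subtype with hZdef
    have hZ : ∀ v ∈ Z, x * v * x⁻¹ ∈ Z := by
      rintro _ ⟨v, hv, rfl⟩
      refine ⟨⟨x * v * x⁻¹, hn v v.2⟩, ?_, rfl⟩
      rw [SetLike.mem_coe, Subgroup.mem_center_iff]
      intro w
      have hN : x ∈ Subgroup.normalizer (Q : Set H) := by
        apply Subgroup.mem_normalizer_fintype
        exact hn
      have hw : x⁻¹ * (w : H) * x ∈ Q := by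
        have := (Subgroup.mem_normalizer_iff.mp (inv_mem hN) (w : H)).mp w.2
        simpa using this
      have h1 : x⁻¹ * (w : H) * x * v = v * (x⁻¹ * (w : H) * x) :=
        congrArg Subtype.val (Subgroup.mem_center_iff.mp hv ⟨_, hw⟩)
      refine Subtype.ext ?_
      show (w : H) * (x * v * x⁻¹) = x * v * x⁻¹ * w
      calc (w : H) * (x * v * x⁻¹) = x * (x⁻¹ * (w : H) * x * v) * x⁻¹ := by group
        _ = x * v * x⁻¹ * w := by rw [h1]; group
    have hZQ : Nat.card Z = Nat.card (Subgroup.center Q) :=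
      (Nat.card_congr ((Subgroup.center Q).equivMapOfInjective _ Q.subtype_injective).toEquiv).symm
    have hZdvd : Nat.card Z ∣ 27 := by
      rw [← h27, hZQ]; exact Subgroup.card_subgroup_dvd_card _
    have hZmod := SelfCentralSimple.card_modEq_one hx hC Z
      (fun h => by have := h.trans hZdvd; norm_num at this) hZ
    have : Nontrivial Q := Finite.one_lt_card_iff_nontrivial.mp (by rw [h27]; norm_num)
    have := hQp.center_nontrivial
    have hZ1 : 1 < Nat.card Z := hZQ ▸ Finite.one_lt_card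
    have hZ27 : Nat.card Z = 27 := by
      have key' : ∀ d ∈ Nat.divisors 27, d % 13 = 1 → d = 1 ∨ d = 27 := by decide +kernel
      rcases key' _ (Nat.mem_divisors.mpr ⟨hZdvd, by norm_num⟩) hZmod with h | h
      · omega
      · exact h
    have hab : ∀ u ∈ Q, ∀ v ∈ Q, u * v = v * u := by
      have htop : Subgroup.center Q = ⊤ := Subgroup.eq_top_of_card_eq _ (by rw [← hZQ, hZ27, h27])
      intro u hu v hv
      have : (⟨v, hv⟩ : Q) ∈ Subgroup.center Q := htop ▸ Subgroup.mem_top _
      exact congrArg Subtype.val (Subgroup.mem_center_iff.mp this ⟨u, hu⟩)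
    have hmem : ∀ u : {u : Q // u ≠ 1}, ∃ a, D.tv a = ((u : Q) : H) := by
      intro u
      rw [D.range]
      refine ⟨fun h => u.2 (Subtype.ext h), h27 ▸ Subgroup.card_dvd_of_le fun v hv => ?_⟩
      rw [Subgroup.mem_centralizer_singleton_iff]
      exact hab v hv _ (u : Q).2
    choose f hf using hmem
    have hfinj : Function.Injective f := fun u v h => Subtype.ext (Subtype.ext
      ((hf u).symm.trans ((congrArg D.tv h).trans (hf v))))
    letI := Fintype.ofFinite {u : Q // u ≠ 1}
    have hcard : (Finset.univ.image f).card = 26 := by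
      rw [Finset.card_image_of_injective _ hfinj, Finset.card_univ, ← Nat.card_eq_fintype_card]
      have h := Nat.card_congr (Equiv.sumCompl fun y : Q => y = 1)
      rw [Nat.card_sum, h27, Nat.card_unique] at h
      simp only [ne_eq]
      omega
    have hcl : ∀ a ∈ Finset.univ.image f, ∀ b ∈ Finset.univ.image f, Comm a b := by
      simp only [Finset.mem_image]
      rintro _ ⟨u, -, rfl⟩ _ ⟨v, -, rfl⟩
      rw [← D.comm, hf, hf]
      exact hab _ (u : Q).2 _ (v : Q).2
    rcases clique_subset _ hcl with ⟨p, hp'⟩ | ⟨l, hl⟩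
    · have := Finset.card_le_card hp'; rw [hcard, card_ofPt] at this; omega
    · have := Finset.card_le_card hl; rw [hcard, card_ofLn] at this; omega
  · intro e he hdvd hmod
    have key : ∀ e < 13, (432 / e) % 13 = 1 → e ∣ 432 → e = 3 := by decide +kernel
    exact (key e (by omega) hmod hdvd) ▸ Nat.prime_three

theorem exists_mulEquiv (hH : Nat.card H = 5616) (D : Geom H) {x : H} (hx : orderOf x = 13)
    (hC : ∀ y : H, y * x = x * y → y ∈ zpowers x) : Nonempty (H ≃* Col) := by
  classical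
  have := isSimpleGroup hH D hx hC
  have hconj : ∀ (h : H) (a : Idx), ∃ b, D.tv b = h * D.tv a * h⁻¹ := by
    intro h a
    rw [D.range]
    obtain ⟨h1, h2⟩ := (D.range _).mp ⟨a, rfl⟩
    refine ⟨fun e => h1 (conj_eq_one_iff.mp e), h2.trans ?_⟩
    refine dvd_of_eq (Nat.card_congr ((MulAut.conj h).toEquiv.subtypeEquiv fun u => ?_))
    rw [Subgroup.mem_centralizer_singleton_iff, Subgroup.mem_centralizer_singleton_iff]
    show _ ↔ h * u * h⁻¹ * (h * D.tv a * h⁻¹) = h * D.tv a * h⁻¹ * (h * u * h⁻¹)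
    constructor
    · intro e
      calc h * u * h⁻¹ * (h * D.tv a * h⁻¹) = h * (u * D.tv a) * h⁻¹ := by group
        _ = h * (D.tv a * u) * h⁻¹ := by rw [e]
        _ = _ := by group
    · intro e
      have := congrArg (fun z => h⁻¹ * z * h) e
      simpa [mul_assoc] using this
  choose g hg using hconj
  have hgmul : ∀ h k a, g (h * k) a = g h (g k a) := fun h k a => D.inj (by
    rw [hg, hg, hg]; group)
  have hg1 : ∀ a, g 1 a = a := fun a => D.inj (by rw [hg]; group)
  let act : H →* Equiv.Perm Idx :=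
    MonoidHom.mk' (fun h =>
      ⟨g h, g h⁻¹, fun a => by rw [← hgmul, inv_mul_cancel, hg1],
        fun a => by rw [← hgmul, mul_inv_cancel, hg1]⟩)
      fun h k => Equiv.ext (hgmul h k)
  have hact : ∀ h a, D.tv (act h a) = h * D.tv a * h⁻¹ := hg
  have hpres : ∀ h a b, Comm a b → Comm (act h a) (act h b) := by
    intro h a b hab
    rw [← D.comm] at hab ⊢
    rw [hact, hact]
    calc h * D.tv a * h⁻¹ * (h * D.tv b * h⁻¹) = h * (D.tv a * D.tv b) * h⁻¹ := by group
      _ = h * (D.tv b * D.tv a) * h⁻¹ := by rw [hab]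
      _ = _ := by group
  -- no element exchanges points and lines
  let Keep : H → Prop := fun h =>
    (∀ p, ∃ q, (ofPt p).image (act h) = ofPt q) ∧ ∀ l, ∃ m, (ofLn l).image (act h) = ofLn m
  have himg : ∀ (h k : H) (K : Finset Idx), K.image (act (h * k)) = (K.image (act k)).image (act h) := by
    intro h k K; rw [Finset.image_image, map_mul]; rfl
  let KeepG : Subgroup H :=
    { carrier := {h | Keep h}
      one_mem' := ⟨fun p => ⟨p, by simp⟩, fun l => ⟨l, by simp⟩⟩
      mul_mem' := by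
        rintro h k ⟨h1, h2⟩ ⟨k1, k2⟩
        refine ⟨fun p => ?_, fun l => ?_⟩
        · obtain ⟨q, hq⟩ := k1 p; obtain ⟨r, hr⟩ := h1 q
          exact ⟨r, by rw [himg, hq, hr]⟩
        · obtain ⟨q, hq⟩ := k2 l; obtain ⟨r, hr⟩ := h2 q
          exact ⟨r, by rw [himg, hq, hr]⟩
      inv_mem' := by
        intro h hh
        rcases dichotomy (act h⁻¹) (hpres h⁻¹) with hk | ⟨hk, -⟩
        · exact hk
        · exfalso
          obtain ⟨m, hm⟩ := hk 0
          obtain ⟨m', hm'⟩ := hh.2 m
          have : ofPt 0 = ofLn m' := by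
            rw [← hm', ← hm, ← himg, mul_inv_cancel]; simp
          exact ofPt_ne_ofLn _ _ this }
  have hkeep : ∀ h, Keep h := by
    intro h
    by_contra hh
    have hidx : KeepG.index = 2 := by
      rw [Subgroup.index_eq_two_iff]
      refine ⟨h, fun b => ?_⟩
      have hsw := (dichotomy (act h) (hpres h)).resolve_left hh
      by_cases hb : b ∈ KeepG
      · refine Or.inr ⟨hb, fun hbh => ?_⟩
        exact hh (show h ∈ KeepG by simpa using KeepG.mul_mem (KeepG.inv_mem hb) hbh)
      · refine Or.inl ⟨?_, hb⟩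
        have hswb := (dichotomy (act b) (hpres b)).resolve_left hb
        refine ⟨fun p => ?_, fun l => ?_⟩
        · obtain ⟨q, hq⟩ := hsw.1 p; obtain ⟨r, hr⟩ := hswb.2 q
          exact ⟨r, by rw [himg, hq, hr]⟩
        · obtain ⟨q, hq⟩ := hsw.2 l; obtain ⟨r, hr⟩ := hswb.1 q
          exact ⟨r, by rw [himg, hq, hr]⟩
    have := Subgroup.normal_of_index_eq_two hidx
    have hmul := KeepG.card_mul_index
    rw [hidx, hH] at hmul
    rcases IsSimpleGroup.eq_bot_or_eq_top_of_normal KeepG this with h' | h' <;> rw [h'] at hmul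
    · rw [Subgroup.card_bot] at hmul; omega
    · rw [Subgroup.card_top, hH] at hmul; omega
  choose σ hσ using fun h => (hkeep h).1
  choose τ hτ using fun h => (hkeep h).2
  have hσmul : ∀ h k p, σ (h * k) p = σ h (σ k p) := fun h k p =>
    ofPt_injective (by rw [← hσ, himg, hσ, hσ])
  have hτmul : ∀ h k p, τ (h * k) p = τ h (τ k p) := fun h k p =>
    ofLn_injective (by rw [← hτ, himg, hτ, hτ])
  have hσ1 : ∀ p, σ 1 p = p := fun p => ofPt_injective (by rw [← hσ]; simp)
  have hτ1 : ∀ p, τ 1 p = p := fun p => ofLn_injective (by rw [← hτ]; simp)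
  let σ' : H →* Equiv.Perm (Fin 13) :=
    MonoidHom.mk' (fun h =>
      ⟨σ h, σ h⁻¹, fun a => by rw [← hσmul, inv_mul_cancel, hσ1],
        fun a => by rw [← hσmul, mul_inv_cancel, hσ1]⟩)
      fun h k => Equiv.ext (hσmul h k)
  have hinc : ∀ h p l, inc p l = true → inc (σ h p) (τ h l) = true := by
    intro h p l hpl
    let a : Idx := ⟨(p, l, true), hpl⟩
    have h1 := mem_ofPt.mp (hσ h p ▸ Finset.mem_image_of_mem (act h) (mem_ofPt.mpr (rfl : a.pt = p)))
    have h2 := mem_ofLn.mp (hτ h l ▸ Finset.mem_image_of_mem (act h) (mem_ofLn.mpr (rfl : a.ln = l)))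
    rw [← h1, ← h2]
    exact (act h a).2
  have hmemCol : ∀ h, σ' h ∈ Col := by
    intro h
    refine ⟨⟨τ h, τ h⁻¹, fun a => by rw [← hτmul, inv_mul_cancel, hτ1],
      fun a => by rw [← hτmul, mul_inv_cancel, hτ1]⟩, fun p l => Bool.eq_iff_iff.mpr ?_⟩
    refine ⟨fun h' => ?_, hinc h p l⟩
    have := hinc h⁻¹ _ _ h'
    change inc (σ h⁻¹ (σ h p)) (τ h⁻¹ (τ h l)) = true at this
    rwa [← hσmul, ← hτmul, inv_mul_cancel, hσ1, hτ1] at this
  let ψ : H →* Col := σ'.codRestrict Col hmemCol
  have hinj : Function.Injective ψ := by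
    rw [← MonoidHom.ker_eq_bot_iff]
    refine (IsSimpleGroup.eq_bot_or_eq_top_of_normal ψ.ker ψ.normal_ker).resolve_right fun htop => ?_
    have hσid : ∀ h p, σ h p = p := fun h p => by
      have h1 : ψ h = 1 := MonoidHom.mem_ker.mp (htop ▸ Subgroup.mem_top h)
      exact congrArg (fun s : Col => (s : Equiv.Perm (Fin 13)) p) h1
    have hτid : ∀ h l, τ h l = l := by
      intro h l
      obtain ⟨p, q, hpq, hp, hq⟩ := two_points l
      have h1 := hinc h p l hp
      have h2 := hinc h q l hq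
      rw [hσid] at h1 h2
      exact (unique_line p q _ _ hpq hp hq h1 h2).symm
    obtain ⟨a₀, b₀, hab⟩ := not_all_comm
    -- each transvection has at most two conjugates, hence is central
    have hcentral : ∀ a, D.tv a ∈ Subgroup.center H := by
      intro a
      set C := Subgroup.centralizer ({D.tv a} : Set H) with hC'
      have hact2 : ∀ h, (act h a).pt = a.pt ∧ (act h a).ln = a.ln := fun h => by
        constructor
        · have := mem_ofPt.mp (hσ h a.pt ▸ Finset.mem_image_of_mem (act h) (mem_ofPt.mpr rfl))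
          rwa [hσid] at this
        · have := mem_ofLn.mp (hτ h a.ln ▸ Finset.mem_image_of_mem (act h) (mem_ofLn.mpr rfl))
          rwa [hτid] at this
      have hle : C.index ≤ 2 := by
        let F : H ⧸ C → Bool := Quotient.lift (fun h => (act h a).1.2.2) (fun h k hk => by
          have hk' : h⁻¹ * k ∈ C := (QuotientGroup.leftRel_apply).mp hk
          rw [hC', Subgroup.mem_centralizer_singleton_iff] at hk'
          have : act h a = act k a := D.inj (by
            rw [hact, hact]
            calc h * D.tv a * h⁻¹ = h * ((h⁻¹ * k) * D.tv a * (h⁻¹ * k)⁻¹) * h⁻¹ := by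
                  rw [hk']; group
              _ = k * D.tv a * k⁻¹ := by group)
          simp only [this])
        have hF : Function.Injective F := by
          intro u v
          induction u using Quotient.inductionOn with | _ h => ?_
          induction v using Quotient.inductionOn with | _ k => ?_
          intro huv
          apply Quotient.sound
          change (act h a).1.2.2 = (act k a).1.2.2 at huv
          have he : act h a = act k a := Subtype.ext (Prod.ext ((hact2 h).1.trans (hact2 k).1.symm)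
            (Prod.ext ((hact2 h).2.trans (hact2 k).2.symm) huv))
          have he' : h * D.tv a * h⁻¹ = k * D.tv a * k⁻¹ := by rw [← hact, ← hact, he]
          show QuotientGroup.leftRel C h k
          rw [QuotientGroup.leftRel_apply, hC', Subgroup.mem_centralizer_singleton_iff]
          calc h⁻¹ * k * D.tv a = h⁻¹ * (k * D.tv a * k⁻¹) * k := by group
            _ = D.tv a * (h⁻¹ * k) := by rw [← he']; group
        have := Nat.card_le_card_of_injective F hF
        rw [Nat.card_eq_fintype_card (α := Bool), Fintype.card_bool] at this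
        exact this
      rcases Nat.lt_or_ge C.index 2 with h' | h'
      · have htopC : C = ⊤ := Subgroup.index_eq_one.mp (by
          have : C.index ≠ 0 := Subgroup.index_ne_zero_of_finite
          omega)
        rw [Subgroup.mem_center_iff]
        intro u
        exact Subgroup.mem_centralizer_singleton_iff.mp
          (show u ∈ C by rw [htopC]; exact Subgroup.mem_top u)
      · exfalso
        have hidx : C.index = 2 := le_antisymm hle h'
        have := Subgroup.normal_of_index_eq_two hidx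
        have hmul := C.card_mul_index
        rw [hidx, hH] at hmul
        rcases IsSimpleGroup.eq_bot_or_eq_top_of_normal C this with h'' | h'' <;> rw [h''] at hmul
        · rw [Subgroup.card_bot] at hmul; omega
        · rw [Subgroup.card_top, hH] at hmul; omega
    exact hab ((D.comm a₀ b₀).mp (Subgroup.mem_center_iff.mp (hcentral b₀) (D.tv a₀)))
  refine ⟨MulEquiv.ofBijective ψ ((Nat.bijective_iff_injective_and_card _).mpr ⟨hinj, ?_⟩)⟩
  exact le_antisymm (Nat.card_le_card_of_injective _ hinj) (hH ▸ card_Col_le)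

end Cfsg.Agent.Lib.Spectrum.PlaneThree
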