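import Mathlib

/-!
# Two primes in `(m, 2m]` for `m ≥ 6`, and in `(n/2, n]` for `n ≥ 11`
-/

namespace Cfsg.Agent.Lib.Spectrum.Primes

open Real in
theorem real_two_inequality {x : ℝ} (x_large : (512 : ℝ) ≤ x) :
    x * (2 * x) ^ (√(2 * x) + 1) * 4 ^ (2 * x / 3) ≤ 4 ^ x := by
  let f : ℝ → ℝ := fun x => (log x + (√(2 * x) * log (2 * x) + log (2 * x))) - log 4 / 3 * x
  have hf' : ∀ x, 0 < x → 0 < x * (2 * x) ^ (√(2 * x) + 1) / 4 ^ (x / 3) := fun x h =>
    div_pos (mul_pos h (rpow_pos_of_pos (mul_pos two_pos h) _)) (rpow_pos_of_pos four_pos _)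
  have hf : ∀ x, 0 < x → f x = log (x * (2 * x) ^ (√(2 * x) + 1) / 4 ^ (x / 3)) := by
    intro x h5
    have h6 := mul_pos (zero_lt_two' ℝ) h5
    have h7 := rpow_pos_of_pos h6 (√(2 * x) + 1)
    rw [log_div (mul_pos h5 h7).ne' (rpow_pos_of_pos four_pos _).ne', log_mul h5.ne' h7.ne',
      log_rpow h6, log_rpow zero_lt_four]
    simp only [f]; ring
  have h5 : 0 < x := lt_of_lt_of_le (by norm_num1) x_large
  rw [← div_le_one (rpow_pos_of_pos four_pos x), ← div_div_eq_mul_div, ← rpow_sub four_pos, ←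
    mul_div 2 x, mul_div_left_comm, ← mul_one_sub, (by norm_num1 : (1 : ℝ) - 2 / 3 = 1 / 3),
    mul_one_div, ← log_nonpos_iff (hf' x h5).le, ← hf x h5]
  have h : ConcaveOn ℝ (Set.Ioi 0.5) f := by
    apply ConcaveOn.sub
    · apply ConcaveOn.add
      · exact strictConcaveOn_log_Ioi.concaveOn.subset
          (Set.Ioi_subset_Ioi (by norm_num)) (convex_Ioi 0.5)
      apply ConcaveOn.add
      · convert!
          ((strictConcaveOn_sqrt_mul_log_Ioi.concaveOn.comp_linearMap ((2 : ℝ) • LinearMap.id)))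
          using 1
        ext x
        simp only [Set.mem_Ioi, Set.mem_preimage, LinearMap.smul_apply,
          LinearMap.id_coe, id_eq, smul_eq_mul]
        rw [← mul_lt_mul_iff_right₀ (two_pos)]
        norm_num1
        rfl
      · refine (strictConcaveOn_log_Ioi.concaveOn.comp_linearMap
          ((2 : ℝ) • LinearMap.id)).subset ?_ (convex_Ioi 0.5)
        intro a ha
        simp only [Set.mem_Ioi, Set.mem_preimage, LinearMap.smul_apply, LinearMap.id_coe, id_eq,
          smul_eq_mul] at *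
        linarith
    apply ConvexOn.smul
    · refine div_nonneg (log_nonneg (by norm_num1)) (by norm_num1)
    · exact convexOn_id (convex_Ioi (0.5 : ℝ))
  suffices ∃ x1 x2, 0.5 < x1 ∧ x1 < x2 ∧ x2 ≤ x ∧ 0 ≤ f x1 ∧ f x2 ≤ 0 by
    obtain ⟨x1, x2, h1, h2, h0, h3, h4⟩ := this
    exact (h.right_le_of_le_left'' h1 ((h1.trans h2).trans_le h0) h2 h0 (h4.trans h3)).trans h4
  refine ⟨18, 512, by norm_num1, by norm_num1, x_large, ?_, ?_⟩
  · have : √(2 * 18 : ℝ) = 6 := (sqrt_eq_iff_mul_self_eq_of_pos (by norm_num1)).mpr (by norm_num1)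
    rw [hf _ (by norm_num1), log_nonneg_iff (by positivity), this, one_le_div (by norm_num1)]
    norm_num
  · have : √(2 * 512) = 32 :=
      (sqrt_eq_iff_mul_self_eq_of_pos (by norm_num1)).mpr (by norm_num1)
    rw [hf _ (by norm_num1), log_nonpos_iff (hf' _ (by norm_num1)).le, this,
        div_le_one (by positivity), show (32 : ℝ) + 1 = ((33 : ℕ) : ℝ) by norm_num, rpow_natCast]
    calc (512 : ℝ) * (2 * 512) ^ 33 = (2 : ℝ) ^ ((339 : ℕ) : ℝ) := by
          rw [rpow_natCast, show (2 : ℝ) * 512 = 2 ^ 10 by norm_num, show (512 : ℝ) = 2 ^ 9 by norm_num,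
            ← pow_mul, ← pow_add]
      _ ≤ (2 : ℝ) ^ (2 * (512 / 3 : ℝ)) :=
          rpow_le_rpow_of_exponent_le (by norm_num) (by norm_num)
      _ = (4 : ℝ) ^ (512 / 3 : ℝ) := by
          rw [rpow_mul (by norm_num)]; norm_num

theorem nat_two_inequality {n : ℕ} (n_large : 512 ≤ n) :
    n * (2 * n) ^ (Nat.sqrt (2 * n) + 1) * 4 ^ (2 * n / 3) ≤ 4 ^ n := by
  rw [← @Nat.cast_le ℝ]
  simp only [Nat.cast_mul, Nat.cast_pow, ← Real.rpow_natCast, Nat.cast_ofNat]
  refine _root_.trans ?_ (real_two_inequality (by exact_mod_cast n_large))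
  gcongr
  · have n2_pos : 1 ≤ 2 * n := by omega
    exact mod_cast n2_pos
  · push_cast
    gcongr
    exact_mod_cast Real.nat_sqrt_le_real_sqrt
  · norm_num1
  · exact Nat.cast_div_le.trans (by norm_cast)

theorem centralBinom_le_of_one_prime (n : ℕ) (n_large : 2 < n)
    (one_prime : ∀ p q : ℕ, p.Prime → q.Prime → n < p → p ≤ 2 * n → n < q → q ≤ 2 * n → p = q) :
    Nat.centralBinom n ≤ (2 * n) ^ (Nat.sqrt (2 * n) + 1) * 4 ^ (2 * n / 3) := by
  set f : ℕ → ℕ := fun x => x ^ n.centralBinom.factorization x with hfdef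
  have hf1 : ∀ x, ¬ x.Prime → f x = 1 := fun x h => by
    simp [hfdef, Nat.factorization_eq_zero_of_not_prime _ h]
  have hf2 : ∀ p, f p ≤ 2 * n := fun p => Nat.pow_factorization_choose_le (by omega)
  rw [← n.prod_pow_factorization_centralBinom]
  change ∏ x ∈ Finset.range (2 * n + 1), f x ≤ _
  rw [← Finset.prod_filter_mul_prod_filter_not _ (· ≤ 2 * n / 3), pow_succ, mul_right_comm]
  apply mul_le_mul'
  · let S := {p ∈ Finset.range (2 * n + 1) | p.Prime ∧ p ≤ 2 * n / 3}
    have hS : ∏ x ∈ S, f x =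
        ∏ x ∈ {p ∈ Finset.range (2 * n + 1) | p ≤ 2 * n / 3}, f x := by
      refine Finset.prod_subset (fun x hx => ?_) (fun x hx hx' => hf1 x fun h => hx' ?_)
      · simp only [S, Finset.mem_filter] at hx ⊢; exact ⟨hx.1, hx.2.2⟩
      · simp only [S, Finset.mem_filter] at hx ⊢; exact ⟨hx.1, h, hx.2⟩
    rw [← hS, ← Finset.prod_filter_mul_prod_filter_not S (· ≤ Nat.sqrt (2 * n))]
    apply mul_le_mul'
    · refine (Finset.prod_le_prod' fun p _ => hf2 p).trans ?_
      rw [Finset.prod_const]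
      refine pow_right_mono₀ (by omega) ((Finset.card_le_card (t := Finset.Icc 1 (Nat.sqrt (2 * n)))
        fun x hx => ?_).trans (by simp))
      simp only [S, Finset.mem_filter] at hx
      exact Finset.mem_Icc.mpr ⟨hx.1.2.1.one_lt.le, hx.2⟩
    · refine le_trans ?_ (primorial_le_four_pow (2 * n / 3))
      refine (Finset.prod_le_prod' fun p hp => (?_ : f p ≤ p)).trans ?_
      · simp only [S, Finset.mem_filter] at hp
        refine (pow_right_mono₀ hp.1.2.1.one_lt.le ?_).trans (pow_one p).le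
        exact Nat.factorization_choose_le_one (Nat.sqrt_lt'.mp <| not_le.1 hp.2)
      refine Finset.prod_le_prod_of_subset_of_one_le' (fun p hp => ?_) ?_
      · simp only [S, Finset.mem_filter, Finset.mem_range] at hp ⊢
        exact ⟨by omega, hp.1.2.1⟩
      · exact fun p hp _ => (Finset.mem_filter.1 hp).2.one_lt.le
  · let T := {p ∈ Finset.range (2 * n + 1) | p.Prime ∧ n < p}
    have hT : ∏ x ∈ T, f x =
        ∏ x ∈ {p ∈ Finset.range (2 * n + 1) | ¬ p ≤ 2 * n / 3}, f x := by
      refine Finset.prod_subset (fun x hx => ?_) (fun x hx hx' => ?_)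
      · simp only [T, Finset.mem_filter] at hx ⊢; exact ⟨hx.1, by omega⟩
      · simp only [T, Finset.mem_filter, Finset.mem_range, not_and] at hx hx'
        by_cases hp : x.Prime
        · have := hx' hx.1 hp
          simp [hfdef, Nat.factorization_centralBinom_of_two_mul_self_lt_three_mul n_large
            (by omega : x ≤ n) (by omega : 2 * n < 3 * x)]
        · exact hf1 x hp
    rw [← hT]
    have hc : T.card ≤ 1 := Finset.card_le_one.2 fun a ha b hb => by
      simp only [T, Finset.mem_filter, Finset.mem_range] at ha hb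
      exact one_prime a b ha.2.1 hb.2.1 ha.2.2 (by omega) hb.2.2 (by omega)
    refine (Finset.prod_le_prod' fun p _ => hf2 p).trans ?_
    rw [Finset.prod_const]
    calc (2 * n) ^ T.card ≤ (2 * n) ^ 1 := pow_right_mono₀ (by omega) hc
      _ = _ := pow_one _

theorem cover {m : ℕ} (a b c : ℕ) (hb : b.Prime) (hc : c.Prime) (hbc : b < c) (hca : c ≤ 2 * a)
    (h : m < a → ∃ p q : ℕ, p.Prime ∧ q.Prime ∧ p < q ∧ m < p ∧ q ≤ 2 * m) (hm : m < b) :
    ∃ p q : ℕ, p.Prime ∧ q.Prime ∧ p < q ∧ m < p ∧ q ≤ 2 * m := by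
  rcases lt_or_ge m a with h' | h'
  · exact h h'
  · exact ⟨b, c, hb, hc, hbc, hm, by omega⟩

/-- There are two primes in `(m, 2m]` for `m ≥ 6`. -/
theorem exists_two_primes (m : ℕ) (hm : 6 ≤ m) :
    ∃ p q : ℕ, p.Prime ∧ q.Prime ∧ p < q ∧ m < p ∧ q ≤ 2 * m := by
  rcases lt_or_ge m 512 with h | h
  · refine cover 317 547 631 (by norm_num) (by norm_num) (by norm_num) (by norm_num) ?_ (by omega)
    refine cover 277 317 547 (by norm_num) (by norm_num) (by norm_num) (by norm_num) ?_
    refine cover 163 277 317 (by norm_num) (by norm_num) (by norm_num) (by norm_num) ?_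
    refine cover 139 163 277 (by norm_num) (by norm_num) (by norm_num) (by norm_num) ?_
    refine cover 83 139 163 (by norm_num) (by norm_num) (by norm_num) (by norm_num) ?_
    refine cover 73 83 139 (by norm_num) (by norm_num) (by norm_num) (by norm_num) ?_
    refine cover 43 73 83 (by norm_num) (by norm_num) (by norm_num) (by norm_num) ?_
    refine cover 37 43 73 (by norm_num) (by norm_num) (by norm_num) (by norm_num) ?_
    refine cover 23 37 43 (by norm_num) (by norm_num) (by norm_num) (by norm_num) ?_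
    refine cover 19 23 37 (by norm_num) (by norm_num) (by norm_num) (by norm_num) ?_
    refine cover 13 19 23 (by norm_num) (by norm_num) (by norm_num) (by norm_num) ?_
    refine cover 11 13 19 (by norm_num) (by norm_num) (by norm_num) (by norm_num) ?_
    refine cover 7 11 13 (by norm_num) (by norm_num) (by norm_num) (by norm_num) ?_
    refine cover 6 7 11 (by norm_num) (by norm_num) (by norm_num) (by norm_num) ?_
    omega
  · by_contra hno
    have h1 : 4 ^ m < m * m.centralBinom := Nat.four_pow_lt_mul_centralBinom m (by omega)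
    have h2 := centralBinom_le_of_one_prime m (by omega) fun p q hp hq h1 h2 h3 h4 => by
      rcases lt_trichotomy p q with h' | h' | h'
      · exact absurd ⟨p, q, hp, hq, h', h1, h4⟩ hno
      · exact h'
      · exact absurd ⟨q, p, hq, hp, h', h3, h2⟩ hno
    have h3 := nat_two_inequality h
    have := Nat.mul_le_mul_left m h2
    rw [← mul_assoc] at this
    omega

/-- There are two primes in `(n/2, n]` for `n ≥ 11`. -/
theorem exists_two_primes_half (n : ℕ) (hn : 11 ≤ n) :
    ∃ p q : ℕ, p.Prime ∧ q.Prime ∧ p < q ∧ n < 2 * p ∧ q ≤ n := by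
  by_cases h : n = 11
  · exact ⟨7, 11, by norm_num, by norm_num, by norm_num, by omega, by omega⟩
  · obtain ⟨p, q, hp, hq, hpq, h1, h2⟩ := exists_two_primes (n / 2) (by omega)
    exact ⟨p, q, hp, hq, hpq, by omega, by omega⟩

end Cfsg.Agent.Lib.Spectrum.Primes
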