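import Cfsg.Agent.Lib.Spectrum.SL25Presentation
import Cfsg.Agent.Lib.FrobComplement.Build

/-! `SL(2,5)` has a fixed-point-free action on the plane over the field with 11 elements. -/

set_option autoImplicit false

namespace Cfsg.Agent.Lib.Spectrum.TinyEnum

open Matrix

local notation "SL25" => Matrix.SpecialLinearGroup (Fin 2) (ZMod 5)
local notation "M11" => Matrix.SpecialLinearGroup (Fin 2) (ZMod 11)

def m11X : M11 := ⟨!![0, 1; 10, 10], by decide⟩
def m11Y : M11 := ⟨!![0, 2; 5, 3], by decide⟩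
def m11Z : M11 := ⟨!![10, 0; 0, 10], by decide⟩

def key11 (m : M11) : ZMod 11 × ZMod 11 × ZMod 11 × ZMod 11 :=
  (m.1 0 0, m.1 0 1, m.1 1 0, m.1 1 1)

def mul11 (a b : ZMod 11 × ZMod 11 × ZMod 11 × ZMod 11) :
    ZMod 11 × ZMod 11 × ZMod 11 × ZMod 11 :=
  (a.1 * b.1 + a.2.1 * b.2.2.1, a.1 * b.2.1 + a.2.1 * b.2.2.2,
    a.2.2.1 * b.1 + a.2.2.2 * b.2.2.1, a.2.2.1 * b.2.1 + a.2.2.2 * b.2.2.2)

def gen11 (g : ℕ) : ZMod 11 × ZMod 11 × ZMod 11 × ZMod 11 :=
  if g = 0 then (0, 1, 10, 10) else if g = 1 then (0, 2, 5, 3) else (10, 0, 0, 10)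

def trace11 (m : ZMod 11 × ZMod 11 × ZMod 11 × ZMod 11) : ZMod 11 := m.1 + m.2.2.2

def traceOK (i : ℕ) : Bool :=
  trace11 (evModel (1, 0, 0, 1) mul11 gen11 ((reps defsSL25).getD i [])) != 2

theorem trace_check : ((List.range 119).all fun i => traceOK (i + 1)) = true := by
  decide +kernel

theorem repsOK_sl25 : repsOK defsSL25 = true := by decide +kernel

theorem trace_ne {i : ℕ} (h0 : i ≠ 0) (hi : i < 120) :
    trace11 (evModel (1, 0, 0, 1) mul11 gen11 ((reps defsSL25).getD i [])) ≠ 2 := by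
  have h := List.all_eq_true.1 trace_check (i - 1) (List.mem_range.2 (by omega))
  rw [Nat.sub_add_cancel (Nat.pos_of_ne_zero h0)] at h
  exact bne_iff_ne.1 h

theorem trace11_key (m : M11) : trace11 (key11 m) = m.1 0 0 + m.1 1 1 := rfl

theorem key11_mul (m n : M11) : key11 (m * n) = mul11 (key11 m) (key11 n) := by
  simp [key11, mul11, Matrix.SpecialLinearGroup.coe_mul, Matrix.mul_apply, Fin.sum_univ_two]

theorem exists_fixedPointFree_sl25 : ∃ ρ : SL25 →* M11,
    ∀ g : SL25, g ≠ 1 → ∀ v : Fin 2 → ZMod 11, (ρ g).1 *ᵥ v = v → v = 0 := by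
  obtain ⟨e⟩ := presentation_sl25
  have hrel : ∀ r ∈ binIcoRels, FreeGroup.lift ![m11X, m11Y, m11Z] r = 1 := by
    intro r hr
    simp only [binIcoRels, Set.mem_insert_iff, Set.mem_singleton_iff] at hr
    rcases hr with rfl | rfl | rfl | rfl | rfl | rfl <;>
      simp only [map_pow, map_mul, map_inv, FreeGroup.lift_apply_of] <;>
      decide +kernel
  let f : PresentedGroup binIcoRels →* M11 := PresentedGroup.toGroup hrel
  refine ⟨f.comp e.symm.toMonoidHom, fun g hg v hv => ?_⟩
  let φ : ℕ → PresentedGroup binIcoRels := fun g => PresentedGroup.of (letter g)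
  have hgen : Subgroup.closure (φ '' Set.Iio 3) = ⊤ := by
    rw [eq_top_iff, ← PresentedGroup.closure_range_of, Subgroup.closure_le]
    rintro _ ⟨i, rfl⟩
    refine Subgroup.subset_closure ⟨i.1, i.2, ?_⟩
    fin_cases i <;> rfl
  obtain ⟨i, hi, hig⟩ := exists_cs_eq (relsSL25_sound) hgen checkSL25 (e.symm g)
  have hi0 : i ≠ 0 := by
    rintro rfl
    refine hg (e.symm.injective ?_)
    rw [← hig, map_one]
    exact cs_zero _ _ repsOK_sl25
  have key_ev : ∀ w : List ℕ, key11 (f (ev φ w)) = evModel (1, 0, 0, 1) mul11 gen11 w := by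
    intro w
    induction w using List.reverseRecOn with
    | nil =>
      show key11 (f 1) = _
      rw [map_one]
      decide +kernel
    | append_singleton w g ih =>
      have : ev φ (w ++ [g]) = ev φ w * φ g := by simp [ev]
      rw [this, map_mul, key11_mul, ih]
      simp only [evModel, List.foldl_append, List.foldl_cons, List.foldl_nil]
      rw [show f (φ g) = ![m11X, m11Y, m11Z] (letter g) from PresentedGroup.toGroup.of hrel]
      refine congrArg (mul11 _) ?_
      unfold letter gen11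
      split_ifs <;> decide +kernel
  have htr : (f (e.symm g)).1 0 0 + (f (e.symm g)).1 1 1 ≠ 2 := by
    have h' := trace_ne hi0 hi
    rw [← key_ev] at h'
    unfold cs at hig
    generalize (reps defsSL25).getD i [] = w at h' hig
    rw [← hig]
    rw [trace11_key] at h'
    exact h'
  have hdet := (f (e.symm g)).2
  rw [Matrix.det_fin_two] at hdet
  change (f (e.symm g)).1 *ᵥ v = v at hv
  have h0 := congrFun hv 0
  have h1 := congrFun hv 1
  simp [Matrix.mulVec, dotProduct, Fin.sum_univ_two] at h0 h1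
  haveI : Fact (Nat.Prime 11) := ⟨by norm_num⟩
  generalize (f (e.symm g)).1 = M at *
  have hne : 2 - (M 0 0 + M 1 1) ≠ 0 := sub_ne_zero.2 (Ne.symm htr)
  have e0 : (2 - (M 0 0 + M 1 1)) * v 0 = 0 := by
    linear_combination (M 1 1 - 1) * h0 - M 0 1 * h1 - v 0 * hdet
  have e1 : (2 - (M 0 0 + M 1 1)) * v 1 = 0 := by
    linear_combination (M 0 0 - 1) * h1 - M 1 0 * h0 - v 1 * hdet
  funext j
  fin_cases j
  · exact (mul_eq_zero.1 e0).resolve_left hne
  · exact (mul_eq_zero.1 e1).resolve_left hne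

end Cfsg.Agent.Lib.Spectrum.TinyEnum
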