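import Cfsg.Agent.Lib.Spectrum.PlaneThree
import Cfsg.Agent.Lib.Linear.Order

/-!
The transvections of `SL(3, 3)`.
-/

namespace Cfsg.Agent.Lib.Spectrum.SLThreeThree

open Matrix Cfsg.Agent.Lib.Spectrum.PlaneThree
open scoped MatrixGroups

abbrev M3 := Matrix (Fin 3) (Fin 3) (ZMod 3)
abbrev SL3 := Matrix.SpecialLinearGroup (Fin 3) (ZMod 3)

theorem card_SL3 : Nat.card SL3 = 5616 := by
  have : Fact (Nat.Prime 3) := ⟨Nat.prime_three⟩
  have h := Lib.Linear.sub_one_mul_card_SL (F := ZMod 3) 3 (by norm_num)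
  rw [ZMod.card, Fin.prod_univ_three] at h
  simp only [Fin.val_zero, Fin.val_one, Fin.val_two] at h
  norm_num at h
  rw [Nat.card_eq_fintype_card]
  show Fintype.card (Matrix.SpecialLinearGroup (Fin 3) (ZMod 3)) = 5616
  omega

def vec : Fin 13 → Fin 3 → ZMod 3 :=
  ![![1, 0, 0],
   ![0, 1, 0],
   ![0, 0, 1],
   ![1, 1, 1],
   ![0, 1, 1],
   ![0, 1, 2],
   ![1, 0, 1],
   ![1, 0, 2],
   ![1, 1, 0],
   ![1, 1, 2],
   ![1, 2, 0],
   ![1, 2, 1],
   ![1, 2, 2]]

theorem inc_iff : ∀ p l : Fin 13, inc p l = true ↔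
    vec l 0 * vec p 0 + vec l 1 * vec p 1 + vec l 2 * vec p 2 = 0 := by decide +kernel

def tvM (a : Idx) : M3 :=
  1 + vecMulVec ((if a.1.2.2 then (1 : ZMod 3) else -1) • vec a.pt) (vec a.ln)

theorem det_tvM : ∀ a : Idx, (tvM a).det = 1 := by decide +kernel

def tv (a : Idx) : SL3 := ⟨tvM a, det_tvM a⟩

theorem tvM_ne_one : ∀ a : Idx, tvM a ≠ 1 := by decide +kernel

theorem tvM_inj : ∀ a b : Idx, tvM a = tvM b → a = b := by decide +kernel

theorem tvM_comm : ∀ a b : Idx, tvM a * tvM b = tvM b * tvM a ↔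
    (inc a.pt b.ln = true ∧ inc b.pt a.ln = true) := by decide +kernel

theorem normalise : ∀ v w : Fin 3 → ZMod 3, v ≠ 0 → w ≠ 0 →
    w 0 * v 0 + w 1 * v 1 + w 2 * v 2 = 0 → ∃ a : Idx, tvM a = 1 + vecMulVec v w := by
  decide +kernel

def conjTable : List ℕ :=
  [0, 4618, 6643, 0, 11017, 17659, 0, 0, 0, 0, 0, 0, 0, 2223, 0, 6594, 0, 0, 0, 8781, 15339, 0, 0, 0, 0, 0, 900, 975, 0, 0, 0, 0, 0, 0, 1137, 0, 1869, 0, 0, 0, 0, 0, 11773, 0, 18415, 0, 14041, 0, 0, 3430, 0, 0, 2952, 0, 0, 0, 0, 13881, 0, 0, 0, 16068, 0, 9510, 0, 3681, 0, 0, 10239, 8052, 0, 0, 0, 0, 0, 0, 0, 16797, 0, 5347, 0, 0, 0, 0, 0, 14014, 0, 18388, 0, 0, 16201, 0, 6076, 0, 12475, 0, 0, 8101, 0, 0, 0, 0, 10288, 0, 0, 0, 6670, 0, 0, 0, 0, 0, 0, 0, 2701, 8857, 15499, 0, 0, 0, 0, 12502, 0, 8128, 0, 0, 19144, 4159, 0, 0, 0, 0, 6697, 11071, 0, 0, 0, 0, 4672, 17713, 0, 0, 0, 0, 0, 0, 0, 11800, 0, 0, 14068, 5401, 0, 0, 9613, 0, 0, 0, 0, 0, 0, 19171, 8155, 0, 6130, 0,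 0, 0, 16984]

def conjM (a : Idx) : M3 := fun i j =>
  ((conjTable.getD ((a.pt : ℕ) * 13 + (a.ln : ℕ)) 0 / 3 ^ (3 * (i : ℕ) + (j : ℕ)) : ℕ) : ZMod 3)

theorem det_conjM : ∀ a : Idx, (conjM a).det = 1 := by decide +kernel

def uM (c : ZMod 3) : M3 := !![1, 0, c; 0, 1, 0; 0, 0, 1]

def u (c : ZMod 3) : SL3 := ⟨uM c, by revert c; decide +kernel⟩

theorem conjM_spec : ∀ a : Idx,
    conjM a * uM (if a.1.2.2 then 1 else -1) = tvM a * conjM a := by decide +kernel

theorem uM_zero : uM 0 = 1 := by decide +kernel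

theorem uM_eq : ∀ c : ZMod 3, uM c = 1 + vecMulVec (c • ![1, 0, 0]) ![0, 0, 1] := by decide +kernel

/-- The upper unitriangular matrices. -/
def upM (t : ZMod 3 × ZMod 3 × ZMod 3) : M3 := !![1, t.1, t.2.1; 0, 1, t.2.2; 0, 0, 1]

def up (t : ZMod 3 × ZMod 3 × ZMod 3) : SL3 := ⟨upM t, by revert t; decide +kernel⟩

theorem up_mul : ∀ s t, upM s * upM t =
    upM (s.1 + t.1, s.2.1 + t.2.1 + s.1 * t.2.2, s.2.2 + t.2.2) := by decide +kernel

theorem up_comm : ∀ t c, upM t * uM c = uM c * upM t := by decide +kernel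

theorem up_zero : upM 0 = 1 := by decide +kernel

theorem up_inj : Function.Injective up := by
  intro s t h
  have h' : upM s = upM t := congrArg Subtype.val h
  refine Prod.ext ?_ (Prod.ext ?_ ?_)
  · simpa [upM] using congrFun (congrFun h' 0) 1
  · simpa [upM] using congrFun (congrFun h' 0) 2
  · simpa [upM] using congrFun (congrFun h' 1) 2

def U : Subgroup SL3 where
  carrier := Set.range up
  one_mem' := ⟨0, Subtype.ext up_zero⟩
  mul_mem' := by
    rintro _ _ ⟨s, rfl⟩ ⟨t, rfl⟩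
    exact ⟨_, Subtype.ext (up_mul s t).symm⟩
  inv_mem' := by
    rintro _ ⟨s, rfl⟩
    refine ⟨(-s.1, -s.2.1 + s.1 * s.2.2, -s.2.2), eq_inv_of_mul_eq_one_left (Subtype.ext ?_)⟩
    show upM _ * upM s = 1
    rw [up_mul, ← up_zero]
    congr 1
    refine Prod.ext ?_ (Prod.ext ?_ ?_) <;> simp

theorem card_U : Nat.card U = 27 := by
  show Nat.card (Set.range up) = 27
  rw [← Nat.card_congr (Equiv.ofInjective up up_inj), Nat.card_eq_fintype_card]
  simp

theorem conj_U (a : Idx) : 27 ∣ Nat.card (Subgroup.centralizer ({tv a} : Set SL3)) := by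
  let g : SL3 := ⟨conjM a, det_conjM a⟩
  have hg : g * u (if a.1.2.2 then 1 else -1) = tv a * g := Subtype.ext (conjM_spec a)
  have hle : U.map (MulAut.conj g).toMonoidHom ≤ Subgroup.centralizer ({tv a} : Set SL3) := by
    rintro _ ⟨_, ⟨t, rfl⟩, rfl⟩
    rw [Subgroup.mem_centralizer_singleton_iff]
    have ht : up t * u (if a.1.2.2 then 1 else -1) = u (if a.1.2.2 then 1 else -1) * up t :=
      Subtype.ext (up_comm t _)
    rw [eq_mul_inv_of_mul_eq hg.symm]
    generalize (if a.1.2.2 then (1 : ZMod 3) else -1) = c at ht ⊢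
    show g * up t * g⁻¹ * (g * u c * g⁻¹) = g * u c * g⁻¹ * (g * up t * g⁻¹)
    calc g * up t * g⁻¹ * (g * u c * g⁻¹) = g * (up t * u c) * g⁻¹ := by group
      _ = g * (u c * up t) * g⁻¹ := by rw [ht]
      _ = _ := by group
  have h := Subgroup.card_dvd_of_le hle
  rwa [← Nat.card_congr (U.equivMapOfInjective _ (MulAut.conj g).injective).toEquiv, card_U] at h

theorem centralizer_U (A : M3) (h1 : A * upM (1, 0, 0) = upM (1, 0, 0) * A)
    (h2 : A * upM (0, 0, 1) = upM (0, 0, 1) * A) (hd : A.det = 1) : ∃ c, A = uM c := by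
  have e00 := congrFun (congrFun h1 0) 0
  have e01 := congrFun (congrFun h1 0) 1
  have e02 := congrFun (congrFun h1 0) 2
  have e11 := congrFun (congrFun h1 1) 1
  have e21 := congrFun (congrFun h1 2) 1
  have f01 := congrFun (congrFun h2 0) 2
  have f11 := congrFun (congrFun h2 1) 1
  have f12 := congrFun (congrFun h2 1) 2
  have f22 := congrFun (congrFun h2 2) 2
  have f10 := congrFun (congrFun h2 1) 0
  simp [Matrix.mul_apply, Fin.sum_univ_three, upM] at e00 e01 e02 e11 e21 f01 f11 f12 f22 f10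
  rw [Matrix.det_fin_three] at hd
  simp [*] at hd
  have key : ∀ a : ZMod 3, a * a * a = 1 → a = 1 := by decide
  have h11 : A 1 1 = A 0 0 := by linear_combination -e01
  have h22 : A 2 2 = A 0 0 := by linear_combination -f12 - e01
  rw [h11, h22] at hd
  have ha : A 0 0 = 1 := key _ hd
  refine ⟨A 0 2, ?_⟩
  ext i j
  fin_cases i <;> fin_cases j <;> simp [uM, *]

theorem exists_tv_of (x : SL3) (hx : x ≠ 1)
    (h27 : 27 ∣ Nat.card (Subgroup.centralizer ({x} : Set SL3))) : ∃ a, tv a = x := by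
  have : Fact (Nat.Prime 3) := ⟨Nat.prime_three⟩
  obtain ⟨S, hS⟩ := Sylow.exists_subgroup_card_pow_prime (G := Subgroup.centralizer ({x} : Set SL3))
    3 (n := 3) h27
  set S' := S.map (Subgroup.centralizer ({x} : Set SL3)).subtype with hS'
  have hS'c : Nat.card S' = 27 := by
    rw [← Nat.card_congr (S.equivMapOfInjective _ (Subgroup.subtype_injective _)).toEquiv, hS]
    norm_num
  have hf : (Nat.card SL3).factorization 3 = 3 := by
    rw [card_SL3, Nat.factorization_def _ Nat.prime_three, show (5616 : ℕ) = 3 ^ 3 * 208 by norm_num,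
      padicValNat.mul (by norm_num) (by norm_num), padicValNat.prime_pow,
      padicValNat.eq_zero_of_not_dvd (by norm_num)]
  let P : Sylow 3 SL3 := Sylow.ofCard S' (by rw [hf, hS'c]; norm_num)
  let Q : Sylow 3 SL3 := Sylow.ofCard U (by rw [hf, card_U]; norm_num)
  obtain ⟨g, hg⟩ := MulAction.exists_smul_eq SL3 P Q
  have hcomm : ∀ t, up t * (g * x * g⁻¹) = g * x * g⁻¹ * up t := by
    intro t
    have hm : up t ∈ ((g • P : Sylow 3 SL3) : Subgroup SL3) := hg ▸ (⟨t, rfl⟩ : up t ∈ U)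
    obtain ⟨s, hs, hst⟩ := hm
    obtain ⟨s', -, rfl⟩ := hs
    have hsx := Subgroup.mem_centralizer_singleton_iff.mp s'.2
    rw [← hst]
    show g * (s' : SL3) * g⁻¹ * (g * x * g⁻¹) = g * x * g⁻¹ * (g * (s' : SL3) * g⁻¹)
    calc g * (s' : SL3) * g⁻¹ * (g * x * g⁻¹) = g * ((s' : SL3) * x) * g⁻¹ := by group
      _ = g * (x * (s' : SL3)) * g⁻¹ := by rw [hsx]
      _ = _ := by group
  obtain ⟨c, hc⟩ := centralizer_U ((g * x * g⁻¹ : SL3) : M3)
    (congrArg Subtype.val (hcomm (1, 0, 0))).symm (congrArg Subtype.val (hcomm (0, 0, 1))).symm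
    (g * x * g⁻¹).2
  have hc0 : c ≠ 0 := by
    rintro rfl
    apply hx
    have : g * x * g⁻¹ = 1 := Subtype.ext (hc.trans uM_zero)
    exact conj_eq_one_iff.mp this
  have hxM : (x : M3) = 1 + vecMulVec (((g⁻¹ : SL3) : M3) *ᵥ (c • ![1, 0, 0]))
      (![0, 0, 1] ᵥ* (g : M3)) := by
    have hx' : x = g⁻¹ * (g * x * g⁻¹) * g := by group
    have hgg : ((g⁻¹ : SL3) : M3) * (g : M3) = 1 := by
      rw [← Matrix.SpecialLinearGroup.coe_mul, inv_mul_cancel, Matrix.SpecialLinearGroup.coe_one]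
    conv_lhs => rw [hx', Matrix.SpecialLinearGroup.coe_mul, Matrix.SpecialLinearGroup.coe_mul, hc,
      uM_eq, mul_add, add_mul, mul_one, hgg, Matrix.mul_vecMulVec, Matrix.vecMulVec_mul]
  set v := ((g⁻¹ : SL3) : M3) *ᵥ (c • ![1, 0, 0]) with hv
  set w := ![0, 0, 1] ᵥ* (g : M3) with hw
  have hv0 : v ≠ 0 := by
    intro h
    apply hx
    refine Subtype.ext ?_
    rw [hxM, h, Matrix.zero_vecMulVec, add_zero]
    rfl
  have hw0 : w ≠ 0 := by
    intro h
    apply hx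
    refine Subtype.ext ?_
    rw [hxM, h, Matrix.vecMulVec_zero, add_zero]
    rfl
  have hdot : w ⬝ᵥ v = 0 := by
    rw [hv, hw, ← Matrix.dotProduct_mulVec, Matrix.mulVec_mulVec,
      ← Matrix.SpecialLinearGroup.coe_mul, mul_inv_cancel, Matrix.SpecialLinearGroup.coe_one,
      Matrix.one_mulVec]
    simp
  simp only [dotProduct, Fin.sum_univ_three] at hdot
  obtain ⟨a, ha⟩ := normalise v w hv0 hw0 hdot
  exact ⟨a, Subtype.ext (ha.trans hxM.symm)⟩

def geom : Geom SL3 where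
  tv := tv
  inj a b h := tvM_inj a b (congrArg Subtype.val h)
  comm a b := by
    refine Iff.trans ⟨fun h => congrArg Subtype.val h, fun h => Subtype.ext h⟩ (tvM_comm a b)
  range y := by
    refine ⟨?_, fun h => exists_tv_of y h.1 h.2⟩
    rintro ⟨a, rfl⟩
    exact ⟨fun h => tvM_ne_one a (congrArg Subtype.val h), conj_U a⟩

def cM : M3 := !![0, 0, 1; 1, 0, 1; 0, 1, 0]

def singer : SL3 := ⟨cM, by decide +kernel⟩

theorem singer_lin : ∀ a b c : ZMod 3, (a • (1 : M3) + b • cM + c • (cM * cM)).det = 1 →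
    ∃ k : Fin 13, cM ^ (k : ℕ) = a • (1 : M3) + b • cM + c • (cM * cM) := by decide +kernel

theorem orderOf_singer : orderOf singer = 13 :=
  haveI : Fact (Nat.Prime 13) := ⟨by norm_num⟩
  orderOf_eq_prime (Subtype.ext (by
      rw [Matrix.SpecialLinearGroup.coe_pow]; show cM ^ 13 = 1; decide +kernel))
    (fun h => absurd (congrArg Subtype.val h) (by show cM ≠ 1; decide +kernel))

theorem singer_self_centralizing (y : SL3) (hy : y * singer = singer * y) :
    y ∈ Subgroup.zpowers singer := by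
  have h : (y : M3) * cM = cM * (y : M3) := congrArg Subtype.val hy
  set A : M3 := (y : M3) with hA
  have e00 := congrFun (congrFun h 0) 0
  have e10 := congrFun (congrFun h 1) 0
  have e20 := congrFun (congrFun h 2) 0
  have e01 := congrFun (congrFun h 0) 1
  have e11 := congrFun (congrFun h 1) 1
  have e21 := congrFun (congrFun h 2) 1
  simp [Matrix.mul_apply, Fin.sum_univ_three, cM] at e00 e10 e20 e01 e11 e21
  have hlin : A = A 0 0 • (1 : M3) + A 1 0 • cM + A 2 0 • (cM * cM) := by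
    ext i j
    fin_cases i <;> fin_cases j <;>
      simp [cM, Matrix.mul_apply, Fin.sum_univ_three, e00, e10, e20, e01, e11, e21]
    all_goals ring
  obtain ⟨k, hk⟩ := singer_lin (A 0 0) (A 1 0) (A 2 0) (hlin ▸ y.2)
  refine Subgroup.mem_zpowers_iff.mpr ⟨(k : ℕ), Subtype.ext ?_⟩
  rw [zpow_natCast, Matrix.SpecialLinearGroup.coe_pow]
  exact hk.trans hlin.symm

end Cfsg.Agent.Lib.Spectrum.SLThreeThree
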