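import Mathlib.GroupTheory.Transfer
import Mathlib.GroupTheory.PGroup
import Mathlib.GroupTheory.Sylow
import Mathlib.Tactic

/-!
A group of order `p * r` with a self-centralising subgroup of prime order `p` is simple when the
arithmetic leaves no room.
-/

namespace Cfsg.Agent.Lib.Spectrum.SelfCentralSimple

open Subgroup

variable {H : Type*} [Group H] [Finite H] {p : ℕ} [Fact p.Prime]

/-- A subgroup of order prime to `p` normalised by `x`. -/
theorem card_modEq_one {x : H} (hx : orderOf x = p)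
    (hC : ∀ y : H, y * x = x * y → y ∈ zpowers x) (Q : Subgroup H) (hp : ¬ p ∣ Nat.card Q)
    (hn : ∀ v ∈ Q, x * v * x⁻¹ ∈ Q) : Nat.card Q ≡ 1 [MOD p] := by
  have hX : IsPGroup p (zpowers x) :=
    IsPGroup.of_card (n := 1) (by rw [Nat.card_zpowers, hx, pow_one])
  have hN : x ∈ Subgroup.normalizer (Q : Set H) := by
    apply Subgroup.mem_normalizer_fintype
    exact hn
  have hfix : ∀ u : zpowers x, ∀ v ∈ Q, (u : H) * v * (u : H)⁻¹ ∈ Q := fun u v hv =>
    (Subgroup.mem_normalizer_iff.mp ((zpowers_le.mpr hN) u.2) v).mp hv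
  let act : MulAction (zpowers x) Q :=
  { smul := fun u v => ⟨(u : H) * v * (u : H)⁻¹, hfix u v v.2⟩
    one_smul := fun v => Subtype.ext (show (1 : H) * v * (1 : H)⁻¹ = v by group)
    mul_smul := fun u u' v => Subtype.ext (show ((u * u' : zpowers x) : H) * v *
        ((u * u' : zpowers x) : H)⁻¹ = (u : H) * ((u' : H) * v * (u' : H)⁻¹) * (u : H)⁻¹ by
      rw [Subgroup.coe_mul]; group) }
  have hfixed : MulAction.fixedPoints (zpowers x) Q = {1} := by
    ext v
    constructor
    · intro hv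
      have h1 : x * (v : H) * x⁻¹ = v := congrArg Subtype.val (hv ⟨x, mem_zpowers x⟩)
      have h2 := hC v (mul_inv_eq_iff_eq_mul.mp h1).symm
      by_contra hv1
      have hvo : orderOf (v : H) = p := by
        rcases (Nat.dvd_prime (Fact.out : p.Prime)).mp
          (hx ▸ orderOf_dvd_of_mem_zpowers h2 : orderOf (v : H) ∣ p) with h | h
        · exact absurd (Subtype.ext (orderOf_eq_one_iff.mp h)) hv1
        · exact h
      exact hp (hvo ▸ Subgroup.orderOf_dvd_natCard Q v.2)
    · rintro rfl u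
      exact Subtype.ext (show (u : H) * 1 * (u : H)⁻¹ = 1 by group)
  have hmod := hX.card_modEq_card_fixedPoints Q
  rwa [hfixed, Nat.card_coe_set_eq, Set.ncard_singleton] at hmod

theorem eq_bot_of_coprime {x : H} (hx : orderOf x = p)
    (hloc : ∀ q : ℕ, q.Prime → ∀ Q : Subgroup H, IsPGroup q Q → Q ≠ ⊥ →
      (∀ v ∈ Q, x * v * x⁻¹ ∈ Q) → ¬ p ∣ Nat.card Q → False)
    (N : Subgroup H) [hN : N.Normal] (h11 : ¬ p ∣ Nat.card N) : N = ⊥ := by
  by_contra hne
  have hN1 : Nat.card N ≠ 1 := fun h => hne (N.eq_bot_of_card_eq h)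
  obtain ⟨q, hq, hqN⟩ := Nat.exists_prime_and_dvd hN1
  have : Fact q.Prime := ⟨hq⟩
  have hX : IsPGroup p (zpowers x) :=
    IsPGroup.of_card (n := 1) (by rw [Nat.card_zpowers, hx, pow_one])
  let act : MulAction (zpowers x) (Sylow q N) :=
    MulAction.compHom _ ((MulAut.conjNormal (H := N)).comp (zpowers x).subtype)
  have hndvd : ¬ p ∣ Nat.card (Sylow q N) := fun h => h11 (h.trans
    ((default : Sylow q N).card_dvd_index.trans (Subgroup.index_dvd_card _)))
  obtain ⟨Q, hQ⟩ := hX.nonempty_fixed_point_of_prime_not_dvd_card (Sylow q N) hndvd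
  refine hloc q hq ((Q : Subgroup N).map N.subtype) ?_ ?_ ?_ ?_
  · exact Q.2.map _
  · rw [Ne, Subgroup.map_eq_bot_iff_of_injective _ N.subtype_injective]
    exact Q.ne_bot_of_dvd_card hqN
  · rintro _ ⟨v, hv, rfl⟩
    refine ⟨MulAut.conjNormal (H := N) x v, ?_, rfl⟩
    have h2 : MulAut.conjNormal (H := N) x • Q = Q := hQ ⟨x, mem_zpowers x⟩
    rw [← h2]
    exact Subgroup.mem_map_of_mem _ hv
  · exact fun h => h11 (h.trans (Subgroup.card_dvd_of_le (Subgroup.map_subtype_le _)))

theorem isSimpleGroup_of {r : ℕ} (hH : Nat.card H = p * r) (hr : ¬ p ∣ r) (hr2 : ¬ r.Prime) {x : H}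
    (hx : orderOf x = p) (hC : ∀ y : H, y * x = x * y → y ∈ zpowers x)
    (hloc : ∀ q : ℕ, q.Prime → ∀ Q : Subgroup H, IsPGroup q Q → Q ≠ ⊥ →
      (∀ v ∈ Q, x * v * x⁻¹ ∈ Q) → ¬ p ∣ Nat.card Q → False)
    (harith : ∀ e, e ≤ p - 1 → e ∣ r → (r / e) % p = 1 → e.Prime) : IsSimpleGroup H := by
  classical
  have hp : p.Prime := Fact.out
  have hr0 : 0 < r := by
    rcases Nat.eq_zero_or_pos r with h | h
    · subst h; exact absurd (dvd_zero p) hr
    · exact h
  have : Nontrivial H := Finite.one_lt_card_iff_nontrivial.mp (by rw [hH]; nlinarith [hp.two_le])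
  refine ⟨fun N hN => ?_⟩
  by_cases h11 : p ∣ Nat.card N
  swap
  · exact Or.inl (eq_bot_of_coprime hx hloc N h11)
  right
  have hXc : Nat.card (zpowers x) = p := by rw [Nat.card_zpowers, hx]
  have hfact : (Nat.card H).factorization p = 1 := by
    rw [hH, Nat.factorization_mul hp.ne_zero hr0.ne', Finsupp.add_apply, hp.factorization_self,
      Nat.factorization_eq_zero_of_not_dvd hr]
  let P : Sylow p H := Sylow.ofCard (zpowers x) (by rw [hfact, hXc, pow_one])
  have hP : (P : Subgroup H) = zpowers x := rfl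
  set M := Subgroup.normalizer ((P : Subgroup H) : Set H) with hMdef
  have hxM : zpowers x ≤ M := hP ▸ Subgroup.le_normalizer
  have hconj : ∀ m : M, (m : H) * x * (m : H)⁻¹ ∈ zpowers x := fun m =>
    hP ▸ (Subgroup.mem_normalizer_iff.mp m.2 x).mp (hP ▸ mem_zpowers x)
  have hMle : Nat.card M ≤ p * (p - 1) := by
    have h1 : Nat.card {y : zpowers x // y ≠ 1} = p - 1 := by
      have h := Nat.card_congr (Equiv.sumCompl fun y : zpowers x => y = 1)
      rw [Nat.card_sum, hXc, Nat.card_unique] at h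
      simp only [ne_eq]
      omega
    let g : M → {y : zpowers x // y ≠ 1} := fun m => ⟨⟨_, hconj m⟩, fun h => by
      have : (m : H) * x * (m : H)⁻¹ = 1 := congrArg Subtype.val h
      rw [conj_eq_one_iff] at this
      rw [this, orderOf_one] at hx
      exact hp.one_lt.ne hx⟩
    have hg : ∀ a b : M, g a = g b → (b : H)⁻¹ * a ∈ zpowers x := fun a b h => by
      refine hC _ ?_
      have h2 : (a : H) * x * (a : H)⁻¹ = (b : H) * x * (b : H)⁻¹ :=
        congrArg (fun y : {y : zpowers x // y ≠ 1} => ((y : zpowers x) : H)) h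
      calc (b : H)⁻¹ * a * x = (b : H)⁻¹ * ((a : H) * x * (a : H)⁻¹) * a := by group
        _ = x * ((b : H)⁻¹ * a) := by rw [h2]; group
    have hinj : Function.Injective fun m : M => ((g m, ⟨((Function.invFun g (g m) : M) : H)⁻¹ * m,
        hg m _ (Function.invFun_eq ⟨m, rfl⟩).symm⟩) : {y : zpowers x // y ≠ 1} × zpowers x) := by
      intro a b h
      simp only [Prod.mk.injEq, Subtype.mk.injEq] at h
      rw [h.1] at h
      exact Subtype.ext (mul_left_cancel h.2)
    have := Nat.card_le_card_of_injective _ hinj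
    rw [Nat.card_prod, h1, hXc, mul_comm] at this
    exact this
  obtain ⟨e, he⟩ : p ∣ Nat.card M := hXc ▸ Subgroup.card_dvd_of_le hxM
  have hmulM : M.index * e = r := by
    have h := M.card_mul_index
    rw [hH, he, mul_assoc, mul_comm e] at h
    exact Nat.eq_of_mul_eq_mul_left hp.pos h
  have hepr : e.Prime := by
    refine harith e ?_ (Dvd.intro_left _ hmulM) ?_
    · rw [he] at hMle
      exact Nat.le_of_mul_le_mul_left hMle hp.pos
    · have he0 : 0 < e := by
        rcases Nat.eq_zero_or_pos e with h | h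
        · subst h; simp at hmulM; omega
        · exact h
      rw [← hmulM, Nat.mul_div_cancel _ he0,
        show M.index = Nat.card (Sylow p H) from (P.card_eq_index_normalizer).symm]
      have := card_sylow_modEq_one p H
      rw [Nat.ModEq, Nat.one_mod_eq_one.mpr hp.one_lt.ne'] at this
      exact this
  have hPN : (P : Subgroup H) ≤ N := by
    obtain ⟨⟨y, hyN⟩, hy⟩ := exists_prime_orderOf_dvd_card' (G := N) p h11
    rw [← Subgroup.orderOf_coe] at hy
    obtain ⟨Q, hQ⟩ := (IsPGroup.of_card (n := 1)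
      (show Nat.card (zpowers y) = p ^ 1 by rw [Nat.card_zpowers, hy, pow_one])).exists_le_sylow
    have hQc : Nat.card (Q : Subgroup H) = p := by
      rw [Sylow.card_eq_multiplicity, hfact, pow_one]
    have hQN : (Q : Subgroup H) ≤ N := by
      rw [← Subgroup.eq_of_le_of_card_ge hQ (by rw [hQc, Nat.card_zpowers, hy])]
      exact zpowers_le.mpr hyN
    obtain ⟨g, hg⟩ := MulAction.exists_smul_eq H Q P
    rw [← hg]
    rintro _ ⟨v, hv, rfl⟩
    exact hN.conj_mem v (hQN hv) g
  have hsup : M ⊔ N = ⊤ := by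
    have := Sylow.normalizer_sup_eq_top (P.subtype hPN)
    rwa [show (P.subtype hPN : Subgroup N).map N.subtype = (P : Subgroup H) from
      Subgroup.map_subgroupOf_eq_of_le hPN] at this
  have hinf : zpowers x ≤ M ⊓ N := le_inf hxM (hP ▸ hPN)
  have hrel : N.index * Nat.card (M ⊓ N : Subgroup H) = p * e := by
    rw [← he, ← Subgroup.relIndex_top_right, ← hsup, Subgroup.relIndex_sup_right,
      ← Subgroup.inf_relIndex_right, inf_comm N M, mul_comm,
      ← Nat.card_congr (Subgroup.subgroupOfEquivOfLe (inf_le_left : M ⊓ N ≤ M)).toEquiv]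
    exact Subgroup.card_mul_index _
  obtain ⟨e', he'⟩ : p ∣ Nat.card (M ⊓ N : Subgroup H) := hXc ▸ Subgroup.card_dvd_of_le hinf
  rw [he', mul_left_comm] at hrel
  have he'' : N.index * e' = e := Nat.eq_of_mul_eq_mul_left hp.pos hrel
  rcases (Nat.dvd_prime hepr).mp (Dvd.intro _ he'') with h | h
  · exact Subgroup.index_eq_one.mp h
  exfalso
  rw [h] at he''
  have he1 : e' = 1 := by nlinarith [hepr.two_le]
  have hMN : Nat.card (M ⊓ N : Subgroup H) = p := by rw [he', he1, mul_one]
  let PN : Sylow p N := P.subtype hPN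
  have hPNc : Nat.card (PN : Subgroup N) = p := by
    rw [show (PN : Subgroup N) = (P : Subgroup H).subgroupOf N from rfl,
      Nat.card_congr (subgroupOfEquivOfLe hPN).toEquiv, hP, hXc]
  have hnormPN : Subgroup.normalizer ((PN : Subgroup N) : Set N) ≤
      Subgroup.centralizer ((PN : Subgroup N) : Set N) := by
    intro v hv
    have hvM : (v : H) ∈ M := by
      rw [hMdef, Subgroup.mem_normalizer_iff]
      intro w
      constructor
      · intro hw
        exact (Subgroup.mem_normalizer_iff.mp hv ⟨w, hPN hw⟩).mp hw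
      · intro hw
        have hwN : w ∈ N := by
          have := hN.conj_mem _ (hPN hw) (v : H)⁻¹
          simpa [mul_assoc] using this
        exact (Subgroup.mem_normalizer_iff.mp hv ⟨w, hwN⟩).mpr hw
    have hv' : (v : H) ∈ zpowers x := by
      rw [Subgroup.eq_of_le_of_card_ge hinf (by rw [hMN, hXc])]
      exact ⟨hvM, v.2⟩
    rw [Subgroup.mem_centralizer_iff]
    intro u hu
    have hu' : (u : H) ∈ zpowers x := hP ▸ hu
    obtain ⟨i, hi⟩ := mem_zpowers_iff.mp hu'
    obtain ⟨j, hj⟩ := mem_zpowers_iff.mp hv'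
    refine Subtype.ext ?_
    show (u : H) * v = v * u
    rw [← hi, ← hj]; exact ((Commute.refl x).zpow_zpow i j).eq
  have hK := MonoidHom.ker_transferSylow_isComplement' PN hnormPN
  set K := (MonoidHom.transferSylow PN hnormPN).ker with hKdef
  have hKc : Nat.card K * p = Nat.card N := hPNc ▸ hK.card_mul_card
  have hKr : Nat.card K * e = r := by
    have h1 := N.card_mul_index
    rw [hH, h, ← hKc] at h1
    exact Nat.eq_of_mul_eq_mul_left hp.pos (by rw [← h1]; ring)
  have hKp : ¬ p ∣ Nat.card K := fun hd => hr (hKr ▸ hd.mul_right e)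
  have hKidx : K.index = p := by
    have := K.card_mul_index
    rw [← hKc] at this
    exact Nat.eq_of_mul_eq_mul_left Nat.card_pos this
  have hmemK : ∀ v : N, v ^ Nat.card K = 1 → v ∈ K := by
    intro v hv
    have h1 : v ^ p ∈ K := hKidx ▸ Subgroup.pow_index_mem K v
    have h2 := Int.gcd_eq_gcd_ab (p : ℤ) (Nat.card K : ℤ)
    have hg : Int.gcd (p : ℤ) (Nat.card K : ℤ) = 1 := by
      rw [Int.gcd_natCast_natCast]; exact hp.coprime_iff_not_dvd.mpr hKp
    rw [hg, Nat.cast_one] at h2
    rw [← zpow_one v, h2, zpow_add, zpow_mul, zpow_mul, zpow_natCast, zpow_natCast, hv, one_zpow,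
      mul_one]
    exact zpow_mem h1 _
  have hKn : (K.map N.subtype).Normal := by
    refine ⟨?_⟩
    rintro _ ⟨v, hv, rfl⟩ g
    refine ⟨⟨g * v * g⁻¹, hN.conj_mem _ v.2 g⟩, hmemK _ (Subtype.ext ?_), rfl⟩
    have hv1 : v ^ Nat.card K = 1 :=
      congrArg Subtype.val (pow_card_eq_one' (x := (⟨v, hv⟩ : K)))
    show (g * (v : H) * g⁻¹) ^ Nat.card K = 1
    rw [conj_pow, show (v : H) ^ Nat.card K = 1 from congrArg Subtype.val hv1]; group
  have hcardK : Nat.card (K.map N.subtype) = Nat.card K :=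
    (Nat.card_congr (K.equivMapOfInjective _ N.subtype_injective).toEquiv).symm
  have hbot := eq_bot_of_coprime hx hloc (K.map N.subtype) (by rwa [hcardK])
  rw [hbot, Subgroup.card_bot] at hcardK
  rw [← hcardK, one_mul] at hKr
  exact hr2 (hKr ▸ hepr)

end Cfsg.Agent.Lib.Spectrum.SelfCentralSimple
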