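import Mathlib

/-!
A very small certificate checker for coset enumerations over the trivial subgroup,
with positive letters only.

Letters are natural numbers below `k`, a word is a list of letters, and all relators
are positive words.  The certificate lists the definitions `(i, g)` of the cosets
`1, 2, ...` and the deduction steps `(i, r, pos)`: scanning relator `r` at coset `i`
leaves exactly one open edge, at position `pos`.
-/

set_option autoImplicit false

namespace Cfsg.Agent.Lib.Spectrum.TinyEnum

/-- representative words of the cosets -/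
def reps (defs : List (ℕ × ℕ)) : List (List ℕ) :=
  defs.foldl (fun acc d => acc ++ [acc.getD d.1 [] ++ [d.2]]) [[]]

/-- the tree edges -/
def initEdges (defs : List (ℕ × ℕ)) : List (ℕ × ℕ × ℕ) :=
  defs.zipIdx.map fun p => (p.1.1, p.1.2, p.2 + 1)

def repsOK (defs : List (ℕ × ℕ)) : Bool :=
  (reps defs).getD 0 [] == [] &&
    (initEdges defs).all fun e =>
      (reps defs).getD e.2.2 [] == (reps defs).getD e.1 [] ++ [e.2.1]

/-- successor lookup -/
def succ? (T : List (ℕ × ℕ × ℕ)) (a g : ℕ) : Option ℕ :=
  match T.find? (fun e => e.1 == a && e.2.1 == g) with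
  | some e => some e.2.2
  | none => none

/-- predecessor lookup -/
def pred? (T : List (ℕ × ℕ × ℕ)) (b g : ℕ) : Option ℕ :=
  match T.find? (fun e => e.2.2 == b && e.2.1 == g) with
  | some e => some e.1
  | none => none

def fwd (T : List (ℕ × ℕ × ℕ)) : ℕ → List ℕ → Option ℕ
  | a, [] => some a
  | a, g :: w =>
    match succ? T a g with
    | some b => fwd T b w
    | none => none

def bwd (T : List (ℕ × ℕ × ℕ)) (b : ℕ) : List ℕ → Option ℕ
  | [] => some b
  | g :: w =>
    match bwd T b w with
    | some c => pred? T c g
    | none => none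

def stepFn (R : List (List ℕ)) (T : List (ℕ × ℕ × ℕ)) (s : ℕ × ℕ × ℕ) :
    Option (List (ℕ × ℕ × ℕ)) :=
  let w := R.getD s.2.1 []
  match w.drop s.2.2 with
  | [] => none
  | g :: post =>
    match fwd T s.1 (w.take s.2.2), bwd T s.1 post with
    | some a, some b => some ((a, g, b) :: T)
    | _, _ => none

def runSteps (R : List (List ℕ)) : List (ℕ × ℕ × ℕ) → List (ℕ × ℕ × ℕ) →
    Option (List (ℕ × ℕ × ℕ))
  | [], T => some T
  | s :: ss, T =>
    match stepFn R T s with
    | some T' => runSteps R ss T'
    | none => none

def complete (N k : ℕ) (T : List (ℕ × ℕ × ℕ)) : Bool :=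
  (List.range N).all fun i => (List.range k).all fun g =>
    match succ? T i g with
    | some b => decide (b < N)
    | none => false

/-- the whole check -/
def check (N k : ℕ) (R : List (List ℕ)) (defs : List (ℕ × ℕ))
    (steps : List (ℕ × ℕ × ℕ)) : Bool :=
  repsOK defs && decide (0 < N) &&
    match runSteps R steps (initEdges defs) with
    | some T => complete N k T
    | none => false

section Sound

variable {G : Type*} [Group G] (φ : ℕ → G) (defs : List (ℕ × ℕ))

/-- value of a word -/
def ev (w : List ℕ) : G := (w.map φ).prod

/-- element of a coset -/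
def cs (i : ℕ) : G := ev φ ((reps defs).getD i [])

/-- all edges are true in the group -/
def Valid (T : List (ℕ × ℕ × ℕ)) : Prop :=
  ∀ e ∈ T, cs φ defs e.1 * φ e.2.1 = cs φ defs e.2.2

theorem valid_init (h : repsOK defs = true) : Valid φ defs (initEdges defs) := by
  intro e he
  simp only [repsOK, Bool.and_eq_true, List.all_eq_true, beq_iff_eq] at h
  unfold cs
  rw [h.2 e he]
  simp [ev]

theorem cs_zero (h : repsOK defs = true) : cs φ defs 0 = 1 := by
  simp only [repsOK, Bool.and_eq_true, beq_iff_eq] at h
  unfold cs
  rw [h.1]
  simp [ev]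

variable {φ} {defs}

theorem succ?_sound {T : List (ℕ × ℕ × ℕ)} (hT : Valid φ defs T) {a g b : ℕ}
    (h : succ? T a g = some b) : cs φ defs a * φ g = cs φ defs b := by
  unfold succ? at h
  split at h
  next e he =>
    have h1 := List.find?_some he
    have h2 := List.mem_of_find?_eq_some he
    simp only [Bool.and_eq_true, beq_iff_eq] at h1
    simp only [Option.some.injEq] at h
    rw [← h1.1, ← h1.2, ← h]
    exact hT e h2
  next => simp at h

theorem pred?_sound {T : List (ℕ × ℕ × ℕ)} (hT : Valid φ defs T) {a g b : ℕ}
    (h : pred? T b g = some a) : cs φ defs a * φ g = cs φ defs b := by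
  unfold pred? at h
  split at h
  next e he =>
    have h1 := List.find?_some he
    have h2 := List.mem_of_find?_eq_some he
    simp only [Bool.and_eq_true, beq_iff_eq] at h1
    simp only [Option.some.injEq] at h
    rw [← h1.1, ← h1.2, ← h]
    exact hT e h2
  next => simp at h

theorem fwd_sound {T : List (ℕ × ℕ × ℕ)} (hT : Valid φ defs T) :
    ∀ (w : List ℕ) {a b : ℕ}, fwd T a w = some b → cs φ defs a * ev φ w = cs φ defs b := by
  intro w
  induction w with
  | nil =>
    intro a b h
    simp only [fwd, Option.some.injEq] at h
    simp [ev, h]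
  | cons g w ih =>
    intro a b h
    simp only [fwd] at h
    split at h
    next c hc =>
      rw [← ih h, ← succ?_sound hT hc]
      simp [ev, mul_assoc]
    next => simp at h

theorem bwd_sound {T : List (ℕ × ℕ × ℕ)} (hT : Valid φ defs T) :
    ∀ (w : List ℕ) {a b : ℕ}, bwd T b w = some a → cs φ defs a * ev φ w = cs φ defs b := by
  intro w
  induction w with
  | nil =>
    intro a b h
    simp only [bwd, Option.some.injEq] at h
    simp [ev, h]
  | cons g w ih =>
    intro a b h
    simp only [bwd] at h
    split at h
    next c hc =>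
      rw [← ih hc, ← pred?_sound hT h]
      simp [ev, mul_assoc]
    next => simp at h

theorem stepFn_sound {R : List (List ℕ)} (hR : ∀ w ∈ R, ev φ w = 1)
    {T T' : List (ℕ × ℕ × ℕ)} (hT : Valid φ defs T) {s : ℕ × ℕ × ℕ}
    (h : stepFn R T s = some T') : Valid φ defs T' := by
  unfold stepFn at h
  simp only at h
  have hw : ev φ (R.getD s.2.1 []) = 1 := by
    rcases Nat.lt_or_ge s.2.1 R.length with hl | hl
    · rw [List.getD_eq_getElem R [] hl]
      exact hR _ (List.getElem_mem hl)
    · rw [List.getD_eq_default R [] hl]
      rfl
  generalize R.getD s.2.1 [] = w at h hw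
  split at h
  next => simp at h
  next g post hd =>
    split at h
    next a b ha hb =>
      simp only [Option.some.injEq] at h
      subst h
      intro e he
      rcases List.mem_cons.mp he with rfl | he
      · show cs φ defs a * φ g = cs φ defs b
        have h1 := fwd_sound hT _ ha
        have h2 := bwd_sound hT _ hb
        have h3 : ev φ (w.take s.2.2) * (φ g * ev φ post) = 1 := by
          rw [← hw]
          conv_rhs => rw [← List.take_append_drop s.2.2 w, hd]
          simp [ev]
        have h4 : cs φ defs a * φ g * ev φ post = cs φ defs b * ev φ post := by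
          rw [h2, ← h1, mul_assoc, mul_assoc, h3, mul_one]
        exact mul_right_cancel h4
      · exact hT e he
    next => simp at h

theorem runSteps_sound {R : List (List ℕ)} (hR : ∀ w ∈ R, ev φ w = 1) :
    ∀ (ss : List (ℕ × ℕ × ℕ)) {T T' : List (ℕ × ℕ × ℕ)}, Valid φ defs T →
      runSteps R ss T = some T' → Valid φ defs T' := by
  intro ss
  induction ss with
  | nil =>
    intro T T' hT h
    simp only [runSteps, Option.some.injEq] at h
    exact h ▸ hT
  | cons s ss ih =>
    intro T T' hT h
    simp only [runSteps] at h
    split at h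
    next T1 h1 => exact ih (stepFn_sound hR hT h1) h
    next => simp at h

/-- A successful certificate shows that every element of the group is one of the `N` cosets. -/
theorem exists_cs_eq {N k : ℕ} {R : List (List ℕ)} {steps : List (ℕ × ℕ × ℕ)}
    (hR : ∀ w ∈ R, ev φ w = 1) (hgen : Subgroup.closure (φ '' Set.Iio k) = ⊤)
    (hc : check N k R defs steps = true) (x : G) : ∃ i, i < N ∧ cs φ defs i = x := by
  simp only [check, Bool.and_eq_true, decide_eq_true_eq] at hc
  obtain ⟨⟨hreps, hN⟩, hc⟩ := hc
  split at hc
  next T hT =>
    have hV := runSteps_sound hR steps (valid_init φ defs hreps) hT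
    set S : Set G := {x | ∃ i, i < N ∧ cs φ defs i = x} with hS
    have hfin : S.Finite :=
      ((Set.finite_Iio N).image (cs φ defs)).subset fun x ⟨i, hi, hx⟩ => ⟨i, hi, hx⟩
    have hclosed : ∀ g, g < k → ∀ x ∈ S, x * φ g ∈ S := by
      rintro g hg x ⟨i, hi, rfl⟩
      simp only [complete, List.all_eq_true, List.mem_range] at hc
      have h := hc i hi g hg
      split at h
      next b hb =>
        exact ⟨b, of_decide_eq_true h, (succ?_sound hV hb).symm⟩
      next => simp at h
    have hinv : ∀ g, g < k → ∀ x ∈ S, x * (φ g)⁻¹ ∈ S := by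
      intro g hg x hx
      haveI : Finite S := hfin.to_subtype
      obtain ⟨⟨y, hy⟩, hyx⟩ := (Finite.injective_iff_surjective
        (f := fun y : S => (⟨y.1 * φ g, hclosed g hg y.1 y.2⟩ : S))).mp
        (fun a b h => Subtype.ext (mul_right_cancel (congrArg Subtype.val h))) ⟨x, hx⟩
      replace hyx : y * φ g = x := congrArg Subtype.val hyx
      rw [← hyx]
      simpa using hy
    show x ∈ S
    have hx : x ∈ Subgroup.closure (φ '' Set.Iio k) := hgen ▸ Subgroup.mem_top x
    induction hx using Subgroup.closure_induction_right with
    | one => exact ⟨0, hN, cs_zero φ defs hreps⟩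
    | mul_right x hx y hy ih =>
      obtain ⟨g, hg, rfl⟩ := hy
      exact hclosed g hg x ih
    | mul_inv_cancel x hx y hy ih =>
      obtain ⟨g, hg, rfl⟩ := hy
      exact hinv g hg x ih
  next => simp at hc

/-- Finiteness and the order bound. -/
theorem finite_and_card_le {N k : ℕ} {R : List (List ℕ)} {steps : List (ℕ × ℕ × ℕ)}
    (hR : ∀ w ∈ R, ev φ w = 1) (hgen : Subgroup.closure (φ '' Set.Iio k) = ⊤)
    (hc : check N k R defs steps = true) : Finite G ∧ Nat.card G ≤ N := by
  have hs : Function.Surjective (fun i : Fin N => cs φ defs i.1) := fun x => by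
    obtain ⟨i, hi, hx⟩ := exists_cs_eq hR hgen hc x
    exact ⟨⟨i, hi⟩, hx⟩
  refine ⟨Finite.of_surjective _ hs, ?_⟩
  exact (Nat.card_le_card_of_surjective _ hs).trans (Nat.card_fin N).le

end Sound

/-- evaluation of a word in a model of the multiplication -/
def evModel {β : Type*} (one : β) (mul : β → β → β) (gen : ℕ → β) (w : List ℕ) : β :=
  w.foldl (fun b g => mul b (gen g)) one

/-- If the certificate succeeds and the images of the cosets in a group of order `N` are
pairwise distinct (tested through a model), the homomorphism is bijective. -/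
theorem bijective_of_check {G H β : Type*} [Group G] [Group H] [Finite H]
    (φ : ℕ → G) {N k : ℕ} {R : List (List ℕ)} {defs : List (ℕ × ℕ)}
    {steps : List (ℕ × ℕ × ℕ)}
    (hR : ∀ w ∈ R, ev φ w = 1) (hgen : Subgroup.closure (φ '' Set.Iio k) = ⊤)
    (hc : check N k R defs steps = true)
    (f : G →* H) (key : H → β) (one : β) (mul : β → β → β) (gen : ℕ → β)
    (hone : key 1 = one) (hmul : ∀ x g, key (x * f (φ g)) = mul (key x) (gen g))
    (hnodup : ((List.range N).map fun i => evModel one mul gen ((reps defs).getD i [])).Nodup)
    (hcard : Nat.card H = N) : Function.Bijective f := by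
  obtain ⟨hfin, hle⟩ := finite_and_card_le hR hgen hc
  have key_ev : ∀ w : List ℕ, key (f (ev φ w)) = evModel one mul gen w := by
    intro w
    induction w using List.reverseRecOn with
    | nil => simp [ev, evModel, hone]
    | append_singleton w g ih =>
      have : ev φ (w ++ [g]) = ev φ w * φ g := by simp [ev]
      rw [this, map_mul, hmul, ih]
      simp [evModel]
  have hinj : Function.Injective (fun i : Fin N => f (cs φ defs i.1)) := by
    intro i j hij
    have h : key (f (cs φ defs i.1)) = key (f (cs φ defs j.1)) := congrArg key hij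
    simp only [cs, key_ev] at h
    have hi : i.1 < ((List.range N).map fun n =>
        evModel one mul gen ((reps defs).getD n [])).length := by simp
    have hj : j.1 < ((List.range N).map fun n =>
        evModel one mul gen ((reps defs).getD n [])).length := by simp
    exact Fin.ext ((hnodup.getElem_inj_iff (hi := hi) (hj := hj)).mp (by simpa using h))
  have hsurj : Function.Surjective f := by
    have hb : Function.Bijective (fun i : Fin N => f (cs φ defs i.1)) := by
      rw [Nat.bijective_iff_injective_and_card]
      exact ⟨hinj, by rw [hcard, Nat.card_fin]⟩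
    intro y
    obtain ⟨i, hi⟩ := hb.2 y
    exact ⟨_, hi⟩
  rw [Nat.bijective_iff_surjective_and_card]
  refine ⟨hsurj, le_antisymm (hcard ▸ hle) ?_⟩
  exact Nat.card_le_card_of_surjective f hsurj

end Cfsg.Agent.Lib.Spectrum.TinyEnum
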