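import Cfsg.Agent.Lib.Spectrum.TinyEnum

/-! Enumeration data for the presentations of A5 and SL(2,5). -/
set_option autoImplicit false

namespace Cfsg.Agent.Lib.Spectrum.TinyEnum

def defsA5 : List (ℕ × ℕ) :=
  [(0, 0), (0, 1), (1, 0), (1, 1), (2, 0), (2, 1), (3, 1), (4, 0), (4, 1), (5, 0),
    (6, 0), (6, 1), (7, 0), (7, 1), (8, 0), (9, 0), (9, 1), (10, 1), (11, 0), (12, 0),
    (13, 0), (14, 0), (14, 1), (15, 1), (16, 0), (17, 0), (18, 1), (19, 1), (21, 1), (22, 0),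
    (23, 0), (24, 1), (25, 1), (27, 0), (27, 1), (28, 1), (29, 1), (30, 1), (32, 0), (32, 1),
    (33, 1), (34, 0), (35, 0), (36, 0), (37, 0), (37, 1), (38, 1), (39, 0), (40, 0), (41, 0),
    (42, 1), (44, 0), (45, 0), (46, 0), (47, 0), (50, 0), (51, 1), (52, 1), (56, 1)]

def stepsA5 : List (ℕ × ℕ × ℕ) :=
  [(0, 0, 2), (0, 2, 3), (1, 2, 3), (2, 0, 2), (2, 1, 2), (2, 2, 1), (3, 1, 3), (4, 0, 2),
    (4, 1, 2), (5, 2, 2), (6, 0, 2), (6, 2, 1), (7, 0, 2), (8, 2, 2), (9, 0, 2), (9, 2, 1),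
    (10, 1, 3), (11, 2, 2), (12, 0, 1), (12, 2, 1), (13, 2, 2), (14, 0, 2), (14, 2, 1), (15, 1, 3),
    (16, 2, 2), (17, 0, 1), (17, 2, 1), (18, 0, 2), (20, 2, 3), (21, 1, 3), (22, 2, 2), (23, 2, 1),
    (26, 2, 3), (27, 0, 2), (27, 2, 1), (28, 0, 2), (28, 1, 1), (30, 1, 2), (32, 0, 2), (33, 0, 2),
    (33, 1, 1), (34, 2, 2), (35, 2, 1), (36, 0, 2), (36, 2, 1), (37, 0, 2), (38, 0, 2), (39, 2, 1),
    (40, 2, 1), (41, 0, 2), (41, 2, 1), (42, 1, 2), (44, 2, 2), (45, 2, 1), (46, 2, 1), (47, 0, 1),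
    (47, 2, 1), (48, 1, 2), (50, 2, 2), (53, 1, 2), (55, 2, 2)]

def defsSL25 : List (ℕ × ℕ) :=
  [(0, 0), (0, 1), (0, 2), (1, 0), (1, 1), (1, 2), (2, 0), (2, 1), (2, 2), (4, 1),
    (4, 2), (5, 0), (5, 1), (5, 2), (7, 0), (7, 2), (8, 0), (8, 1), (8, 2), (10, 0),
    (10, 1), (10, 2), (12, 0), (12, 2), (13, 0), (13, 1), (13, 2), (15, 1), (15, 2), (17, 0),
    (17, 2), (18, 0), (18, 2), (20, 0), (20, 2), (21, 0), (21, 1), (21, 2), (23, 1), (23, 2),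
    (25, 0), (25, 2), (26, 0), (26, 2), (28, 1), (28, 2), (30, 1), (30, 2), (32, 2), (34, 1),
    (34, 2), (36, 0), (36, 2), (37, 0), (37, 2), (39, 1), (39, 2), (41, 1), (41, 2), (43, 2),
    (45, 0), (45, 1), (45, 2), (47, 1), (47, 2), (50, 1), (50, 2), (52, 1), (52, 2), (54, 2),
    (56, 0), (56, 1), (56, 2), (58, 1), (58, 2), (61, 0), (61, 2), (62, 0), (62, 2), (64, 0),
    (64, 2), (66, 0), (66, 1), (66, 2), (68, 1), (68, 2), (71, 0), (71, 2), (72, 0), (72, 2),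
    (74, 0), (74, 2), (76, 1), (76, 2), (78, 2), (80, 0), (80, 2), (82, 0), (82, 2), (83, 0),
    (83, 2), (85, 0), (85, 2), (87, 1), (87, 2), (89, 2), (91, 0), (91, 2), (93, 1), (93, 2),
    (96, 1), (98, 1), (98, 2), (100, 2), (102, 2), (104, 1), (107, 1), (109, 0), (109, 2)]

def stepsSL25 : List (ℕ × ℕ × ℕ) :=
  [(0, 0, 2), (0, 2, 1), (0, 5, 3), (1, 2, 1), (1, 5, 3), (2, 0, 2), (2, 2, 1), (4, 2, 1),
    (4, 3, 1), (4, 5, 3), (5, 0, 2), (5, 2, 1), (6, 3, 4), (7, 2, 1), (8, 0, 2), (8, 2, 1),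
    (10, 0, 2), (10, 2, 1), (11, 0, 2), (12, 2, 1), (13, 0, 2), (13, 2, 1), (15, 2, 1), (15, 3, 1),
    (15, 5, 3), (16, 3, 4), (16, 4, 6), (17, 2, 1), (18, 2, 1), (20, 2, 1), (21, 0, 2), (21, 1, 2),
    (21, 2, 1), (23, 2, 1), (23, 3, 1), (23, 5, 3), (24, 3, 4), (24, 4, 6), (25, 2, 1), (26, 2, 1),
    (28, 2, 1), (29, 0, 2), (30, 2, 1), (30, 3, 1), (30, 5, 3), (31, 3, 4), (31, 4, 6), (32, 2, 1),
    (34, 2, 1), (34, 3, 1), (34, 5, 3), (35, 3, 4), (35, 4, 6), (36, 2, 1), (37, 2, 1), (37, 4, 1),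
    (39, 2, 1), (40, 0, 2), (41, 2, 1), (41, 3, 1), (41, 5, 3), (42, 3, 4), (42, 4, 6), (43, 2, 1),
    (45, 0, 2), (45, 1, 2), (45, 2, 1), (46, 5, 0), (47, 2, 1), (48, 0, 2), (50, 2, 1), (51, 0, 2),
    (52, 2, 1), (52, 3, 1), (52, 5, 3), (53, 3, 4), (53, 4, 6), (54, 2, 1), (55, 3, 3), (56, 0, 2),
    (56, 1, 2), (56, 2, 1), (58, 2, 1), (59, 0, 2), (61, 2, 1), (62, 2, 1), (62, 4, 1), (64, 0, 2),
    (64, 2, 1), (65, 5, 0), (66, 0, 2), (66, 1, 2), (66, 2, 1), (68, 2, 1), (69, 0, 2), (70, 0, 2),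
    (70, 3, 1), (71, 2, 1), (72, 2, 1), (72, 4, 1), (74, 0, 2), (74, 2, 1), (75, 5, 0), (76, 2, 1),
    (76, 3, 1), (76, 5, 3), (77, 3, 4), (78, 2, 1), (79, 3, 3), (80, 2, 1), (82, 2, 1), (83, 2, 1),
    (83, 4, 1), (85, 2, 1), (86, 5, 0), (87, 2, 1), (87, 3, 1), (87, 5, 3), (88, 3, 4), (89, 2, 1),
    (90, 3, 3), (91, 2, 1), (93, 2, 1), (94, 0, 2), (95, 0, 2), (95, 3, 1), (98, 2, 1), (98, 3, 1),
    (98, 5, 3), (99, 3, 4), (100, 2, 1), (101, 3, 3), (102, 2, 1), (105, 0, 2), (106, 0, 2), (106, 3, 1),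
    (109, 2, 1), (113, 0, 2), (114, 0, 2), (114, 3, 1), (0, 1, 4), (0, 4, 1), (1, 1, 4), (1, 4, 1),
    (2, 4, 1), (4, 4, 1), (5, 4, 1), (7, 5, 2), (8, 4, 1), (9, 1, 2), (10, 4, 1), (11, 1, 2),
    (12, 5, 2), (13, 4, 1), (14, 1, 2), (15, 4, 1), (17, 5, 2), (18, 0, 1), (18, 3, 1), (20, 5, 2),
    (23, 4, 1), (24, 5, 2), (25, 5, 2), (26, 0, 1), (26, 3, 1), (28, 4, 1), (29, 1, 2), (31, 5, 1),
    (32, 3, 1), (32, 5, 3), (33, 5, 1), (34, 4, 1), (35, 5, 2), (36, 5, 2), (39, 4, 1), (40, 1, 2),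
    (42, 5, 1), (43, 3, 1), (43, 5, 3), (44, 5, 1), (45, 5, 1), (47, 1, 1), (47, 4, 1), (49, 5, 3),
    (50, 4, 1), (51, 1, 2), (53, 5, 1), (55, 5, 1), (58, 1, 1), (58, 4, 1), (60, 5, 3), (61, 1, 4),
    (61, 4, 1), (64, 3, 1), (64, 4, 1), (64, 5, 1), (68, 4, 1), (69, 1, 2), (71, 5, 2), (74, 3, 1),
    (74, 4, 1), (74, 5, 1), (79, 5, 1), (80, 1, 4), (80, 4, 1), (81, 0, 1), (82, 5, 2), (85, 5, 1),
    (88, 5, 1), (90, 5, 1), (91, 1, 4), (91, 4, 1), (92, 0, 1), (93, 4, 1), (94, 4, 4), (96, 1, 1),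
    (96, 3, 0), (96, 4, 2), (96, 5, 4), (97, 1, 2), (97, 5, 2), (99, 5, 1), (101, 5, 1), (104, 4, 2),
    (107, 3, 0), (107, 5, 4), (109, 0, 1), (110, 5, 0), (111, 5, 0), (115, 4, 6), (117, 1, 1), (118, 5, 4),
    (61, 5, 2), (85, 0, 1), (85, 3, 1), (91, 5, 2), (93, 0, 2), (102, 5, 2), (108, 5, 1), (109, 5, 1),
    (117, 2, 1)]

def relsA5 : List (List ℕ) := [[0, 0, 0], [1, 1, 1, 1, 1], [0, 1, 0, 1]]

def relsSL25 : List (List ℕ) :=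
  [[0, 0, 0], [1, 1, 1, 1, 1], [2, 2], [2, 0, 2, 0, 0], [2, 1, 2, 1, 1, 1, 1], [0, 1, 0, 1, 2]]

set_option maxRecDepth 20000 in
theorem checkA5 : check 60 2 relsA5 defsA5 stepsA5 = true := by decide +kernel

set_option maxRecDepth 20000 in
theorem checkSL25 : check 120 3 relsSL25 defsSL25 stepsSL25 = true := by decide +kernel

end Cfsg.Agent.Lib.Spectrum.TinyEnum
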