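import Mathlib
import Cfsg.Agent.Lib.Involutions.IndexTwo

/-!
# Normal subgroups of doubly transitive groups of degree `2` modulo `4`

Every nontrivial normal subgroup is doubly transitive, hence there is a unique minimal one, which
is simple and has trivial centraliser.
-/

set_option autoImplicit false
set_option linter.unusedSectionVars false
set_option linter.style.haveILetI false

namespace Cfsg.Agent.Lib.Spectrum.TwoTransTwoModFour

open MulAction

variable {G : Type*} [Group G] [Finite G] {Ω : Type*} [Finite Ω] [MulAction G Ω] [FaithfulSMul G Ω]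

/-- A group normalized by a doubly transitive group is trivial or transitive. -/
theorem fix_or_transitive {H P : Subgroup (Equiv.Perm Ω)}
    (hn : ∀ p ∈ P, ∀ h ∈ H, p * h * p⁻¹ ∈ H)
    (h2 : ∀ a b c d : Ω, a ≠ b → c ≠ d → ∃ p ∈ P, p a = c ∧ p b = d) :
    H = ⊥ ∨ ∀ u v : Ω, ∃ h ∈ H, h u = v := by
  by_contra hne
  obtain ⟨hb, hnt⟩ := not_or.1 hne
  obtain ⟨h, hh, c, hc⟩ : ∃ h ∈ H, ∃ c, h c ≠ c := by
    by_contra hall
    push Not at hall
    exact hb ((Subgroup.eq_bot_iff_forall _).2 fun h hh => Equiv.ext (hall h hh))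
  refine hnt fun u v => ?_
  by_cases huv : u = v
  · exact ⟨1, H.one_mem, by simp [huv]⟩
  obtain ⟨p, hp, hpc, hpd⟩ := h2 c (h c) u v (fun e => hc e.symm) huv
  refine ⟨p * h * p⁻¹, hn p hp h hh, ?_⟩
  rw [Equiv.Perm.mul_apply, Equiv.Perm.mul_apply]
  rw [show p⁻¹ u = c by rw [← hpc]; exact p.symm_apply_apply c]
  exact hpd

variable (h2 : ∀ a b c d : Ω, a ≠ b → c ≠ d → ∃ g : G, g • a = c ∧ g • b = d)

include h2

theorem transitive_of_normal {M : Subgroup G} (hM : M.Normal) (hne : M ≠ ⊥) :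
    ∀ u v : Ω, ∃ m ∈ M, m • u = v := by
  intro u v
  by_cases huv : u = v
  · exact ⟨1, M.one_mem, by simp [huv]⟩
  obtain ⟨m, hm, c, hc⟩ : ∃ m ∈ M, ∃ c : Ω, m • c ≠ c := by
    by_contra hall
    push Not at hall
    exact hne ((Subgroup.eq_bot_iff_forall _).2 fun m hm =>
      FaithfulSMul.eq_of_smul_eq_smul fun c : Ω => by rw [hall m hm c, one_smul])
  obtain ⟨g, hgc, hgd⟩ := h2 c (m • c) u v (fun e => hc e.symm) huv
  refine ⟨g * m * g⁻¹, hM.conj_mem m hm g, ?_⟩
  rw [mul_smul, mul_smul, ← hgd]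
  congr 2
  rw [← hgc, inv_smul_smul]

/-- The main lemma. -/
theorem two_transitive_of_normal (hn : Nat.card Ω % 4 = 2) {M : Subgroup G} (hM : M.Normal)
    (hne : M ≠ ⊥) :
    ∀ a b c d : Ω, a ≠ b → c ≠ d → ∃ m ∈ M, m • a = c ∧ m • b = d := by
  classical
  haveI : Fact (Nat.Prime 2) := ⟨Nat.prime_two⟩
  have htr := transitive_of_normal h2 hM hne
  suffices key : ∀ a u v : Ω, u ≠ a → v ≠ a → ∃ m ∈ M, m • a = a ∧ m • u = v by
    intro a b c d hab hcd
    obtain ⟨m, hm, hma⟩ := htr a c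
    obtain ⟨k, hk, hkc, hkb⟩ := key c (m • b) d (fun e => hab (by
      rw [← hma] at e; exact (smul_left_cancel m e).symm)) hcd.symm
    exact ⟨k * m, M.mul_mem hk hm, by rw [mul_smul, hma, hkc], by rw [mul_smul, hkb]⟩
  intro a
  set Ma : Subgroup G := M ⊓ stabilizer G a with hMa
  obtain ⟨K₀⟩ : Nonempty (Sylow 2 Ma) := inferInstance
  set K : Subgroup G := (K₀ : Subgroup Ma).map Ma.subtype with hK
  have hKle : K ≤ Ma := Subgroup.map_subtype_le _
  have hKp : IsPGroup 2 K := K₀.isPGroup'.map _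
  have hKc : Nat.card K = 2 ^ (Nat.card Ma).factorization 2 := by
    rw [hK, Subgroup.card_subtype, ← Sylow.card_eq_multiplicity K₀]
  haveI : Fintype Ω := Fintype.ofFinite Ω
  -- a 2-group inside a point stabiliser in `M` has order at most `|K|`
  have hcardMc : ∀ c : Ω, Nat.card (M ⊓ stabilizer G c : Subgroup G) = Nat.card Ma := by
    intro c
    obtain ⟨m, hm, hmc⟩ := htr a c
    have : (M ⊓ stabilizer G c : Subgroup G) = Ma.map (MulAut.conj m).toMonoidHom := by
      ext x
      rw [Subgroup.mem_map_equiv, hMa, Subgroup.mem_inf, Subgroup.mem_inf, mem_stabilizer_iff,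
        mem_stabilizer_iff]
      simp only [MulAut.conj_symm_apply]
      constructor
      · rintro ⟨hx, hxc⟩
        refine ⟨M.mul_mem (M.mul_mem (M.inv_mem hm) hx) hm, ?_⟩
        rw [mul_smul, mul_smul, hmc, hxc, ← hmc, inv_smul_smul]
      · rintro ⟨hx, hxa⟩
        refine ⟨?_, ?_⟩
        · have := M.mul_mem (M.mul_mem hm hx) (M.inv_mem hm)
          simpa [mul_assoc] using this
        · rw [mul_smul, mul_smul, hmc] at hxa
          calc x • c = m • (m⁻¹ • (x • c)) := (smul_inv_smul m _).symm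
            _ = c := by rw [hxa, hmc]
    rw [this, Subgroup.card_map_of_injective (MulAut.conj m).injective]
  have hbound : ∀ (c : Ω) (W : Subgroup G), IsPGroup 2 W → W ≤ M ⊓ stabilizer G c →
      Nat.card W ≤ Nat.card K := by
    intro c W hW hle
    obtain ⟨k, hk⟩ := IsPGroup.iff_card.1 hW
    have hd : 2 ^ k ∣ Nat.card Ma := hcardMc c ▸ hk ▸ Subgroup.card_dvd_of_le hle
    rw [hk, hKc]
    exact Nat.pow_le_pow_right two_pos
      ((Nat.Prime.pow_dvd_iff_le_factorization Nat.prime_two Nat.card_pos.ne').1 hd)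
  set F : Set Ω := {c | ∀ k ∈ K, k • c = c} with hF
  have hconj : ∀ (g : G) (c d : Ω), c ∈ F → d ∈ F → g • a = c → g • a = c → True :=
    fun _ _ _ _ _ _ _ => trivial
  -- every orbit of `Ma` off `a` meets `F`
  have horbit : ∀ u : Ω, u ≠ a → ∃ m ∈ Ma, m • u ∈ F := by
    intro u hu
    let O : Ω → Finset Ω := fun w => Finset.univ.filter fun x => ∃ m ∈ Ma, m • w = x
    have hmemO : ∀ w x, x ∈ O w ↔ ∃ m ∈ Ma, m • w = x := fun w x => by simp [O]
    have hsize : ∀ w, w ≠ a → (O w).card = (O u).card := by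
      have hle : ∀ w x : Ω, w ≠ a → x ≠ a → (O w).card ≤ (O x).card := by
        intro w x hw hx
        obtain ⟨g, hga, hgw⟩ := h2 a w a x hw.symm hx.symm
        refine Finset.card_le_card_of_injOn (fun y => g • y) ?_ (fun y _ z _ e => smul_left_cancel g e)
        intro y hy
        obtain ⟨m, hm, rfl⟩ := (hmemO w y).1 hy
        refine (hmemO x _).2 ⟨g * m * g⁻¹, ⟨hM.conj_mem m hm.1 g, ?_⟩, ?_⟩
        · show (g * m * g⁻¹) • a = a
          have hma : m • a = a := hm.2
          rw [mul_smul, mul_smul, show g⁻¹ • a = a by conv_lhs => rw [← hga, inv_smul_smul],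
            hma, hga]
        · rw [← hgw, smul_smul, inv_mul_cancel_right, mul_smul]
      exact fun w hw => le_antisymm (hle w u hw hu) (hle u w hu hw)
    have hdvd : (O u).card ∣ ((Finset.univ : Finset Ω).erase a).card := by
      rw [Finset.card_eq_sum_card_fiberwise (f := O)
        (t := ((Finset.univ : Finset Ω).erase a).image O) fun x hx => Finset.mem_image_of_mem O hx]
      refine Finset.dvd_sum fun T hT => ?_
      obtain ⟨w, hw, rfl⟩ := Finset.mem_image.1 hT
      have hwa : w ≠ a := (Finset.mem_erase.1 hw).1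
      have heq : ((Finset.univ : Finset Ω).erase a).filter (fun x => O x = O w) = O w := by
        ext x
        constructor
        · intro hx
          have h' := (Finset.mem_filter.1 hx).2
          rw [← h']
          exact (hmemO x x).2 ⟨1, Ma.one_mem, one_smul _ _⟩
        · intro hx
          obtain ⟨m, hm, hmx⟩ := (hmemO w x).1 hx
          refine Finset.mem_filter.2 ⟨Finset.mem_erase.2 ⟨?_, Finset.mem_univ _⟩, ?_⟩
          · intro hxa
            refine hwa (smul_left_cancel m (hmx.trans (hxa.trans ?_)))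
            exact (show m • a = a from hm.2).symm
          · ext y
            rw [hmemO, hmemO]
            constructor
            · rintro ⟨k, hk, rfl⟩
              exact ⟨k * m, Ma.mul_mem hk hm, by rw [mul_smul, hmx]⟩
            · rintro ⟨k, hk, rfl⟩
              exact ⟨k * m⁻¹, Ma.mul_mem hk (Ma.inv_mem hm), by
                rw [mul_smul, ← hmx, inv_smul_smul]⟩
      rw [heq, hsize w hwa]
    have hodd : ¬ 2 ∣ (O u).card := by
      intro hc
      have := hc.trans hdvd
      rw [Finset.card_erase_of_mem (Finset.mem_univ _), Finset.card_univ,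
        ← Nat.card_eq_fintype_card] at this
      omega
    letI : MulAction K (O u) :=
      { smul := fun k x => ⟨(k : G) • (x : Ω), by
          obtain ⟨m, hm, hmx⟩ := (hmemO u x).1 x.2
          exact (hmemO u _).2 ⟨(k : G) * m, Ma.mul_mem (hKle k.2) hm, by rw [mul_smul, hmx]⟩⟩
        one_smul := fun x => Subtype.ext (one_smul G (x : Ω))
        mul_smul := fun k l x => Subtype.ext (mul_smul (k : G) l (x : Ω)) }
    obtain ⟨x, hx⟩ := hKp.nonempty_fixed_point_of_prime_not_dvd_card (O u) (by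
      rw [Nat.card_eq_finsetCard]; exact hodd)
    obtain ⟨m, hm, hmx⟩ := (hmemO u x).1 x.2
    exact ⟨m, hm, fun k hk => by rw [hmx]; exact congrArg Subtype.val (hx ⟨k, hk⟩)⟩
  -- `K` has exactly two fixed points
  have haF : a ∈ F := fun k hk => (hKle hk).2
  suffices hF2 : ∀ u v : Ω, u ∈ F → v ∈ F → u ≠ a → v ≠ a → u = v by
    intro u v hu hv
    obtain ⟨m, hm, hmu⟩ := horbit u hu
    obtain ⟨k, hk, hkv⟩ := horbit v hv
    have hne' : ∀ (w : Ω) (g : G), g ∈ Ma → w ≠ a → g • w ≠ a := fun w g hg hw e => hw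
      (smul_left_cancel g (e.trans (show g • a = a from hg.2).symm))
    have heq := hF2 _ _ hmu hkv (hne' u m hm hu) (hne' v k hk hv)
    refine ⟨k⁻¹ * m, (Ma.mul_mem (Ma.inv_mem hk) hm).1, (Ma.mul_mem (Ma.inv_mem hk) hm).2, ?_⟩
    rw [mul_smul, heq, inv_smul_smul]
  intro u v hu hv hua hva
  -- the normaliser of `K` is doubly transitive on `F`
  have hnorm : ∀ g : G, g ∈ Subgroup.normalizer (K : Set G) → ∀ c ∈ F, g • c ∈ F := by
    intro g hg c hc k hk
    have : g⁻¹ * k * g ∈ K := by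
      have h := (Subgroup.mem_normalizer_iff.1 (Subgroup.inv_mem _ hg) k).1 hk
      simpa using h
    calc k • g • c = g • ((g⁻¹ * k * g) • c) := by
          rw [smul_smul, smul_smul]; congr 1; group
      _ = g • c := by rw [hc _ this]
  have hadj : ∀ c d : Ω, c ∈ F → d ∈ F → c ≠ d → ∀ g : G, g • a = c →
      (∃ w ∈ F, w ≠ a ∧ g • w = d) →
      ∃ h ∈ Subgroup.normalizer (K : Set G), h • a = c ∧ ∀ w, g • w = d → h • w = d := by
    intro c d hc hd hcd g hgc ⟨w, hwF, hwa, hgw⟩
    set L : Subgroup G := M ⊓ (stabilizer G c ⊓ stabilizer G d) with hL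
    set K' := K.map (MulAut.conj g).toMonoidHom with hK'
    have hKL : K ≤ L := fun k hk => ⟨(hKle hk).1, hc k hk, hd k hk⟩
    have hK'L : K' ≤ L := by
      rintro _ ⟨k, hk, rfl⟩
      refine ⟨hM.conj_mem k (hKle hk).1 g, ?_, ?_⟩
      · show (g * k * g⁻¹) • c = c
        rw [mul_smul, mul_smul, ← hgc, inv_smul_smul, haF k hk]
      · show (g * k * g⁻¹) • d = d
        rw [mul_smul, mul_smul, ← hgw, inv_smul_smul, hwF k hk]
    have hsyl : ∀ W : Subgroup G, IsPGroup 2 W → W ≤ L → Nat.card W = Nat.card K →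
        ∃ S : Sylow 2 L, (S : Subgroup L) = W.subgroupOf L := by
      intro W hW hWL hWc
      have hp : IsPGroup 2 (W.subgroupOf L) := hW.comap_of_injective L.subtype L.subtype_injective
      obtain ⟨S, hS⟩ := hp.exists_le_sylow
      refine ⟨S, (Subgroup.eq_of_le_of_card_ge hS ?_).symm⟩
      rw [Nat.card_congr (Subgroup.subgroupOfEquivOfLe hWL).toEquiv, hWc,
        ← Subgroup.card_subtype L (S : Subgroup L)]
      refine hbound c _ (S.isPGroup'.map _) ((Subgroup.map_subtype_le _).trans ?_)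
      exact inf_le_inf_left M inf_le_left
    have hK'c : Nat.card K' = Nat.card K := by
      rw [hK', Subgroup.card_map_of_injective (MulAut.conj g).injective]
    obtain ⟨S, hS⟩ := hsyl K hKp hKL rfl
    obtain ⟨S', hS'⟩ := hsyl K' (hKp.map _) hK'L hK'c
    obtain ⟨l, hl⟩ := MulAction.exists_smul_eq L S' S
    refine ⟨(l : G) * g, ?_, ?_, ?_⟩
    · have hkey : ∀ k ∈ K, ((l : G) * g) * k * ((l : G) * g)⁻¹ ∈ K := by
        intro k hk
        have hmem : (⟨g * k * g⁻¹, hK'L ⟨k, hk, rfl⟩⟩ : L) ∈ (S' : Subgroup L) := by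
          rw [hS']; exact ⟨k, hk, rfl⟩
        have h3 : l * ⟨g * k * g⁻¹, hK'L ⟨k, hk, rfl⟩⟩ * l⁻¹ ∈ ((l • S' : Sylow 2 L) : Subgroup L) := by
          rw [Sylow.coe_subgroup_smul]
          exact ⟨_, hmem, rfl⟩
        rw [hl, hS, Subgroup.mem_subgroupOf] at h3
        simpa [mul_assoc] using h3
      exact Subgroup.mem_normalizer_fintype hkey
    · rw [mul_smul, hgc]; exact l.2.2.1
    · intro w' hw'
      rw [mul_smul, hw']; exact l.2.2.2
  let N := Subgroup.normalizer (K : Set G)
  letI actF : MulAction N F :=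
    { smul := fun g c => ⟨(g : G) • (c : Ω), hnorm g g.2 c c.2⟩
      one_smul := fun c => Subtype.ext (one_smul G (c : Ω))
      mul_smul := fun g h c => Subtype.ext (mul_smul (g : G) h (c : Ω)) }
  let π : N →* Equiv.Perm F := MulAction.toPermHom N F
  let P := π.range
  let Q := (M.subgroupOf N).map π
  have hN2 : ∀ p q r s : F, p ≠ q → r ≠ s → ∃ x ∈ P, x p = r ∧ x q = s := by
    -- first from the base point `a`
    have hbase : ∀ q r s : F, (q : Ω) ≠ a → r ≠ s →
        ∃ h : N, (h : G) • a = (r : Ω) ∧ (h : G) • (q : Ω) = (s : Ω) := by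
      intro q r s hq hrs
      obtain ⟨g, hga, hgq⟩ := h2 a q r s hq.symm (fun e => hrs (Subtype.ext e))
      obtain ⟨h, hh, hha, hhw⟩ := hadj r s r.2 s.2 (fun e => hrs (Subtype.ext e)) g hga
        ⟨q, q.2, hq, hgq⟩
      exact ⟨⟨h, hh⟩, hha, hhw q hgq⟩
    intro p q r s hpq hrs
    obtain ⟨h₁, h₁p, h₁q⟩ := hbase ⟨u, hu⟩ p q hua hpq
    obtain ⟨h₂, h₂r, h₂s⟩ := hbase ⟨u, hu⟩ r s hua hrs
    refine ⟨π (h₂ * h₁⁻¹), ⟨_, rfl⟩, Subtype.ext ?_, Subtype.ext ?_⟩
    · show ((h₂ * h₁⁻¹ : N) : G) • (p : Ω) = r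
      rw [Subgroup.coe_mul, Subgroup.coe_inv, mul_smul, ← h₁p, inv_smul_smul, h₂r]
    · show ((h₂ * h₁⁻¹ : N) : G) • (q : Ω) = s
      rw [Subgroup.coe_mul, Subgroup.coe_inv, mul_smul, ← h₁q, inv_smul_smul, h₂s]
  have hQn : ∀ p ∈ P, ∀ x ∈ Q, p * x * p⁻¹ ∈ Q := by
    rintro _ ⟨g, rfl⟩ _ ⟨m, hm, rfl⟩
    exact ⟨g * m * g⁻¹, hM.conj_mem (m : G) hm g, by simp only [map_mul, map_inv]⟩
  -- an element of a Sylow subgroup of `M` above `K`
  obtain ⟨t, htN, htM, ht2, htF⟩ : ∃ t : G, t ∈ N ∧ t ∈ M ∧ t * t ∈ K ∧ ∀ c ∈ F, t • c ≠ c := by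
    obtain ⟨S, hS⟩ := (hKp.comap_of_injective M.subtype M.subtype_injective).exists_le_sylow
    set T := (S : Subgroup M).map M.subtype with hT
    have hTM : T ≤ M := Subgroup.map_subtype_le _
    have hTp : IsPGroup 2 T := S.isPGroup'.map _
    have hKT : K ≤ T := fun k hk => ⟨⟨k, (hKle hk).1⟩, hS hk, rfl⟩
    have hTc : Nat.card T = Nat.card K * 2 := by
      rw [hT, Subgroup.card_subtype, Sylow.card_eq_multiplicity S, hKc, ← pow_succ]
      congr 1
      have hcM : Nat.card M = Nat.card Ω * Nat.card Ma := by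
        haveI : MulAction.IsPretransitive M Ω :=
          ⟨fun x y => by obtain ⟨m, hm, e⟩ := htr x y; exact ⟨⟨m, hm⟩, e⟩⟩
        have h1 := Subgroup.card_mul_index (stabilizer M a)
        rw [MulAction.index_stabilizer_of_transitive M a] at h1
        rw [← h1, mul_comm]
        congr 1
        exact Nat.card_congr
          { toFun := fun m => ⟨m.1.1, m.1.2, m.2⟩
            invFun := fun m => ⟨⟨m.1, m.2.1⟩, m.2.2⟩
            left_inv := fun m => rfl
            right_inv := fun m => rfl }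
      have h0 : Nat.card Ω ≠ 0 := by omega
      rw [hcM, Nat.factorization_mul h0 Nat.card_pos.ne', Finsupp.add_apply, add_comm,
        show (Nat.card Ω).factorization 2 = 1 from ?_]
      obtain ⟨w, hw⟩ : ∃ w, Nat.card Ω = 2 * w := ⟨Nat.card Ω / 2, by omega⟩
      rw [hw, Nat.factorization_mul two_ne_zero (by omega), Finsupp.add_apply,
        Nat.Prime.factorization_self Nat.prime_two,
        Nat.factorization_eq_zero_of_not_dvd (by omega)]
    have hidx : (K.subgroupOf T).index = 2 := by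
      have h1 := Subgroup.card_mul_index (K.subgroupOf T)
      rw [Nat.card_congr (Subgroup.subgroupOfEquivOfLe hKT).toEquiv, hTc] at h1
      exact Nat.eq_of_mul_eq_mul_left Nat.card_pos h1
    haveI := Subgroup.normal_of_index_eq_two hidx
    obtain ⟨t, ht, htK⟩ : ∃ t ∈ T, t ∉ K :=
      SetLike.not_le_iff_exists.1 fun h => by
        have := Subgroup.card_le_of_le h
        have := Nat.card_pos (α := K)
        omega
    refine ⟨t, ?_, hTM ht, ?_, fun c hc htc => ?_⟩
    · refine Subgroup.mem_normalizer_fintype fun k hk => ?_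
      have hnn : (K.subgroupOf T).Normal := inferInstance
      exact hnn.conj_mem ⟨k, hKT hk⟩ hk ⟨t, ht⟩
    · exact Subgroup.mul_self_mem_of_index_two hidx ⟨t, ht⟩
    · have hle : K ⊔ Subgroup.zpowers t ≤ T ⊓ (M ⊓ stabilizer G c) := by
        refine sup_le (le_inf hKT fun k hk => ⟨(hKle hk).1, hc k hk⟩) ?_
        rw [Subgroup.zpowers_le]
        exact ⟨ht, hTM ht, htc⟩
      have hb := hbound c (K ⊔ Subgroup.zpowers t) (hTp.to_le (hle.trans inf_le_left))
        (hle.trans inf_le_right)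
      have heq := Subgroup.eq_of_le_of_card_ge (le_sup_left : K ≤ K ⊔ Subgroup.zpowers t) hb
      exact htK (heq ▸ (le_sup_right (α := Subgroup G) (Subgroup.mem_zpowers t)))
  set s : Equiv.Perm F := π ⟨t, htN⟩ with hs
  have hsQ : s ∈ Q := ⟨⟨t, htN⟩, htM, rfl⟩
  have hsfree : ∀ c : F, s c ≠ c := fun c e => htF c c.2 (congrArg Subtype.val e)
  have hs2 : s * s = 1 := by
    refine Equiv.ext fun c => Subtype.ext ?_
    show t • t • (c : Ω) = c
    rw [← mul_smul]
    exact c.2 _ ht2
  haveI : Fintype F := Fintype.ofFinite F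
  have hFeven : 2 ∣ Fintype.card F := by
    have h1 := Equiv.Perm.card_compl_support_modEq (p := 2) (n := 1) (σ := s)
      (by rw [pow_one, sq, hs2])
    have h3 : s.support = Finset.univ :=
      Finset.eq_univ_of_forall fun c => Equiv.Perm.mem_support.2 (hsfree c)
    rw [h3, Finset.compl_univ, Finset.card_empty] at h1
    exact Nat.modEq_zero_iff_dvd.1 h1.symm
  have hQmod : Nat.card Q % 4 = 2 := by
    have heven : 2 ∣ Nat.card Q := by
      have hs1 : s ≠ 1 := fun h => hsfree ⟨a, haF⟩ (by rw [h]; rfl)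
      have h1 : orderOf s = 2 := orderOf_eq_prime (by rw [sq, hs2]) hs1
      rw [← h1]
      exact Subgroup.orderOf_dvd_natCard Q hsQ
    -- `|Q|` divides `|M| / |K|`
    have hdvd : Nat.card Q * Nat.card K ∣ Nat.card M := by
      set D := M.subgroupOf N
      let πD : D →* Equiv.Perm F := π.comp D.subtype
      have hQr : Q = πD.range := by
        rw [MonoidHom.range_comp, Subgroup.range_subtype]
      have hKD : K.comap (N.subtype.comp D.subtype) ≤ πD.ker := by
        intro x hx
        refine Equiv.ext fun c => Subtype.ext ?_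
        exact c.2 _ hx
      have hcK : Nat.card (K.comap (N.subtype.comp D.subtype)) = Nat.card K := by
        refine Nat.card_congr
          { toFun := fun x => ⟨_, x.2⟩
            invFun := fun k => ⟨⟨⟨k.1, Subgroup.le_normalizer k.2⟩, (hKle k.2).1⟩, k.2⟩
            left_inv := fun x => rfl
            right_inv := fun k => rfl }
      have h1 : Nat.card Q * Nat.card K ∣ Nat.card D := by
        rw [← Subgroup.card_mul_index πD.ker, Subgroup.index_ker, ← hQr, mul_comm, ← hcK]
        exact Nat.mul_dvd_mul_right (Subgroup.card_dvd_of_le hKD) _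
      refine h1.trans ?_
      exact Subgroup.card_dvd_of_injective (((N.subtype.comp D.subtype)).codRestrict M
        fun x => x.2) fun x y h => Subtype.ext (Subtype.ext (congrArg (fun z : M => (z : G)) h))
    have h4 : ¬ 4 ∣ Nat.card Q := by
      intro h4
      obtain ⟨k, hk⟩ := IsPGroup.iff_card.1 hKp
      have h5 : 2 ^ (k + 2) ∣ Nat.card M := by
        refine dvd_trans ?_ hdvd
        rw [pow_add, hk, mul_comm]
        exact Nat.mul_dvd_mul_right h4 _
      have hcM : Nat.card M = Nat.card Ω * Nat.card Ma := by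
        haveI : MulAction.IsPretransitive M Ω :=
          ⟨fun x y => by obtain ⟨m, hm, e⟩ := htr x y; exact ⟨⟨m, hm⟩, e⟩⟩
        have h1 := Subgroup.card_mul_index (stabilizer M a)
        rw [MulAction.index_stabilizer_of_transitive M a] at h1
        rw [← h1, mul_comm]
        congr 1
        exact Nat.card_congr
          { toFun := fun m => ⟨m.1.1, m.1.2, m.2⟩
            invFun := fun m => ⟨⟨m.1, m.2.1⟩, m.2.2⟩
            left_inv := fun m => rfl
            right_inv := fun m => rfl }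
      have h6 := (Nat.Prime.pow_dvd_iff_le_factorization Nat.prime_two Nat.card_pos.ne').1 h5
      have hk' : k = (Nat.card Ma).factorization 2 :=
        Nat.pow_right_injective le_rfl (hk.symm.trans hKc)
      obtain ⟨w, hw⟩ : ∃ w, Nat.card Ω = 2 * w := ⟨Nat.card Ω / 2, by omega⟩
      rw [hcM, Nat.factorization_mul (by omega) Nat.card_pos.ne', Finsupp.add_apply, hw,
        Nat.factorization_mul two_ne_zero (by omega), Finsupp.add_apply,
        Nat.Prime.factorization_self Nat.prime_two,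
        Nat.factorization_eq_zero_of_not_dvd (show ¬ 2 ∣ w by omega)] at h6
      omega
    omega
  obtain ⟨H₀, hH₀⟩ := Cfsg.Agent.Lib.Involutions.IndexTwo.exists_index_two_of_mod_four hQmod
  set H := H₀.map Q.subtype with hH
  have hHc : Nat.card H * 2 = Nat.card Q := by
    rw [hH, Subgroup.card_subtype, ← hH₀, Subgroup.card_mul_index]
  have hmemH : ∀ x, x ∈ H ↔ x ∈ Q ∧ Odd (orderOf x) := by
    intro x
    constructor
    · rintro ⟨y, hy, rfl⟩
      refine ⟨y.2, ?_⟩
      have h1 : orderOf (y : Equiv.Perm F) ∣ Nat.card H :=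
        Subgroup.orderOf_dvd_natCard H ⟨y, hy, rfl⟩
      exact Odd.of_dvd_nat (by rw [Nat.odd_iff]; omega) h1
    · rintro ⟨hx, ⟨k, hk⟩⟩
      refine ⟨⟨x, hx⟩, ?_, rfl⟩
      have hsq : ∀ y : Q, y * y ∈ H₀ := fun y => Subgroup.mul_self_mem_of_index_two hH₀ y
      have e : ((⟨x, hx⟩ : Q) ^ (k + 1)) * ((⟨x, hx⟩ : Q) ^ (k + 1)) = ⟨x, hx⟩ := by
        apply Subtype.ext
        rw [Subgroup.coe_mul, SubmonoidClass.coe_pow, ← pow_add,
          show k + 1 + (k + 1) = 2 * k + 1 + 1 by ring, pow_succ, ← hk, pow_orderOf_eq_one, one_mul]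
      exact e ▸ hsq _
  rcases fix_or_transitive (H := H) (P := P) (fun p hp x hx => by
      rw [hmemH] at hx ⊢
      refine ⟨hQn p hp x hx.1, ?_⟩
      rw [← MulAut.conj_apply, MulEquiv.orderOf_eq]; exact hx.2) hN2 with hbot | htransH
  · -- `|Q| = 2`, so `F` has two points
    rw [hbot, Subgroup.card_bot] at hHc
    have hQ2 : ∀ x ∈ Q, x = 1 ∨ x = s := by
      intro x hx
      by_contra hne
      obtain ⟨h1, h2⟩ := not_or.1 hne
      have hs1 : s ≠ 1 := fun h => hsfree ⟨a, haF⟩ (by rw [h]; rfl)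
      have : 3 ≤ Nat.card Q := by
        haveI : Fintype Q := Fintype.ofFinite Q
        have h3 : ({1, ⟨x, hx⟩, ⟨s, hsQ⟩} : Finset Q).card = 3 := Finset.card_eq_three.2
          ⟨_, _, _, fun e => h1 (congrArg Subtype.val e).symm,
            fun e => hs1 (congrArg Subtype.val e).symm, fun e => h2 (congrArg Subtype.val e), rfl⟩
        rw [Nat.card_eq_fintype_card, ← h3]
        exact Finset.card_le_univ _
      omega
    have hpt : ∀ c : F, (c : Ω) ≠ a → c = s ⟨a, haF⟩ := by
      intro c hc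
      obtain ⟨m, hm, hma⟩ := htr a c
      obtain ⟨h, hh, hha, hM'⟩ : ∃ h ∈ N, h • a = (c : Ω) ∧ h ∈ M := by
        -- adjust `m` inside the stabiliser of `c`
        set K' := K.map (MulAut.conj m).toMonoidHom with hK'
        set L : Subgroup G := M ⊓ stabilizer G (c : Ω) with hL
        have hKL : K ≤ L := fun k hk => ⟨(hKle hk).1, c.2 k hk⟩
        have hK'L : K' ≤ L := by
          rintro _ ⟨k, hk, rfl⟩
          refine ⟨hM.conj_mem k (hKle hk).1 m, ?_⟩
          show (m * k * m⁻¹) • (c : Ω) = c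
          rw [mul_smul, mul_smul, ← hma, inv_smul_smul, haF k hk]
        have hsyl : ∀ W : Subgroup G, IsPGroup 2 W → W ≤ L → Nat.card W = Nat.card K →
            ∃ S : Sylow 2 L, (S : Subgroup L) = W.subgroupOf L := by
          intro W hW hWL hWc
          have hp : IsPGroup 2 (W.subgroupOf L) :=
            hW.comap_of_injective L.subtype L.subtype_injective
          obtain ⟨S, hS⟩ := hp.exists_le_sylow
          refine ⟨S, (Subgroup.eq_of_le_of_card_ge hS ?_).symm⟩
          rw [Nat.card_congr (Subgroup.subgroupOfEquivOfLe hWL).toEquiv, hWc,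
            ← Subgroup.card_subtype L (S : Subgroup L)]
          exact hbound c _ (S.isPGroup'.map _) (Subgroup.map_subtype_le _)
        obtain ⟨S, hS⟩ := hsyl K hKp hKL rfl
        obtain ⟨S', hS'⟩ := hsyl K' (hKp.map _) hK'L
          (by rw [hK', Subgroup.card_map_of_injective (MulAut.conj m).injective])
        obtain ⟨l, hl⟩ := MulAction.exists_smul_eq L S' S
        refine ⟨(l : G) * m, Subgroup.mem_normalizer_fintype fun k hk => ?_, ?_,
          M.mul_mem l.2.1 hm⟩
        · have hmem : (⟨m * k * m⁻¹, hK'L ⟨k, hk, rfl⟩⟩ : L) ∈ (S' : Subgroup L) := by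
            rw [hS']; exact ⟨k, hk, rfl⟩
          have h3 : l * ⟨m * k * m⁻¹, hK'L ⟨k, hk, rfl⟩⟩ * l⁻¹ ∈
              ((l • S' : Sylow 2 L) : Subgroup L) := by
            rw [Sylow.coe_subgroup_smul]
            exact ⟨_, hmem, rfl⟩
          rw [hl, hS, Subgroup.mem_subgroupOf] at h3
          simpa [mul_assoc] using h3
        · rw [mul_smul, hma]; exact l.2.2
      have hx : π ⟨h, hh⟩ ⟨a, haF⟩ = c := Subtype.ext hha
      rcases hQ2 _ ⟨⟨h, hh⟩, hM', rfl⟩ with e | e
      · rw [e, Equiv.Perm.one_apply] at hx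
        exact absurd (congrArg Subtype.val hx).symm hc
      · rw [← hx, e]
    exact congrArg Subtype.val ((hpt ⟨u, hu⟩ hua).trans (hpt ⟨v, hv⟩ hva).symm)
  · exfalso
    haveI : MulAction.IsPretransitive H F :=
      ⟨fun x y => by obtain ⟨h, hh, e⟩ := htransH x y; exact ⟨⟨h, hh⟩, e⟩⟩
    have h1 : Fintype.card F ∣ Nat.card H := by
      rw [← Nat.card_eq_fintype_card, ← MulAction.index_stabilizer_of_transitive H (⟨a, haF⟩ : F)]
      exact Subgroup.index_dvd_card _
    have := hFeven.trans h1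
    omega

omit [Finite G] [Finite Ω] h2 in
theorem centralizer_eq_bot {M : Subgroup G} (h3 : ∀ a b : Ω, ∃ c, c ≠ a ∧ c ≠ b)
    (hM2 : ∀ a b c d : Ω, a ≠ b → c ≠ d → ∃ m ∈ M, m • a = c ∧ m • b = d) :
    Subgroup.centralizer (M : Set G) = ⊥ := by
  rw [Subgroup.eq_bot_iff_forall]
  intro z hz
  refine FaithfulSMul.eq_of_smul_eq_smul fun a : Ω => ?_
  rw [one_smul]
  by_contra hne
  obtain ⟨d, hda, hdb⟩ := h3 a (z • a)
  obtain ⟨m, hm, hma, hmb⟩ := hM2 a (z • a) a d (fun e => hne e.symm) hda.symm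
  refine hdb (hmb.symm.trans ?_)
  rw [← mul_smul, Subgroup.mem_centralizer_iff.1 hz m hm, mul_smul, hma]

/-- The unique minimal normal subgroup. -/
theorem exists_least_normal (hn : Nat.card Ω % 4 = 2) (h3 : ∀ a b : Ω, ∃ c, c ≠ a ∧ c ≠ b) :
    ∃ M : Subgroup G, M.Normal ∧ M ≠ ⊥ ∧ ∀ N : Subgroup G, N.Normal → N ≠ ⊥ → M ≤ N := by
  haveI : Nontrivial G := by
    obtain ⟨a⟩ : Nonempty Ω := (Nat.card_pos_iff.1 (by omega)).1
    obtain ⟨c, hc, -⟩ := h3 a a
    obtain ⟨g, hg, -⟩ := h2 a c c a hc.symm hc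
    exact ⟨⟨g, 1, fun e => hc (by rw [← hg, e, one_smul])⟩⟩
  obtain ⟨M, ⟨hM, hMne⟩, hmin⟩ := Set.Finite.exists_minimal
    (s := {M : Subgroup G | M.Normal ∧ M ≠ ⊥}) (Set.toFinite _)
    ⟨⊤, inferInstance, top_ne_bot⟩
  refine ⟨M, hM, hMne, fun N hN hNne => ?_⟩
  haveI := hM
  haveI := hN
  have hinf : M ⊓ N ≠ ⊥ := by
    intro hbot
    refine hNne (eq_bot_iff.2 fun x hx => ?_)
    rw [← centralizer_eq_bot (G := G) h3 (two_transitive_of_normal h2 hn hM hMne),
      Subgroup.mem_centralizer_iff]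
    intro y hy
    exact Subgroup.commute_of_normal_of_disjoint M N hM hN (disjoint_iff.2 hbot) y x hy hx
  exact (hmin ⟨inferInstance, hinf⟩ inf_le_left).trans inf_le_right

end Cfsg.Agent.Lib.Spectrum.TwoTransTwoModFour
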