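import Mathlib

/-!
Recognition of `C₃ ≀ S₃` of order 162.
-/

namespace Cfsg.SpectrumWreathThree

abbrev V := Fin 3 → ZMod 3

def sh (v : V) : V := ![v 2, v 0, v 1]
def swp (v : V) : V := ![v 0, v 2, v 1]

/-- Normal forms. -/
abbrev NF := V × ZMod 3 × ZMod 2

def shn (l : ZMod 3) (v : V) : V := sh^[l.val] v
def swn (m : ZMod 2) (v : V) : V := if m = 0 then v else swp v
def sgn (m : ZMod 2) (l : ZMod 3) : ZMod 3 := if m = 0 then l else -l

theorem zmod2_cases : ∀ c : ZMod 2, c = 0 ∨ c = 1 := by decide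

theorem zmod3_ne_zero : ∀ c : ZMod 3, c ≠ 0 → c = 1 ∨ c = 2 := by decide

def op (p r : NF) : NF :=
  (p.1 + shn p.2.1 (swn p.2.2 r.1), p.2.1 + sgn p.2.2 r.2.1, p.2.2 + r.2.2)

section

variable {H : Type*} [Group H]

/-- The relations of `C₃ ≀ S₃`. -/
structure Data (H : Type*) [Group H] where
  e : H
  a : H
  t : H
  e3 : e ^ 3 = 1
  a3 : a ^ 3 = 1
  t2 : t * t = 1
  tat : t * a * t = a⁻¹
  tet : t * e * t = e
  comm : Commute e (a * e * a⁻¹)

variable (D : Data H)

def e1 : H := D.a * D.e * D.a⁻¹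
def e2 : H := D.a * e1 D * D.a⁻¹

theorem pow_val_add {x : H} (hx : x ^ 3 = 1) (i j : ZMod 3) :
    x ^ (i + j).val = x ^ i.val * x ^ j.val := by
  rw [← pow_add, ZMod.val_add]
  exact (pow_eq_pow_mod _ hx).symm

theorem pow_val_neg {x : H} (hx : x ^ 3 = 1) (i : ZMod 3) : x ^ (-i).val = (x ^ i.val)⁻¹ := by
  rw [eq_inv_iff_mul_eq_one, ← pow_val_add hx, neg_add_cancel, ZMod.val_zero, pow_zero]

theorem a_e2 : D.a * e2 D * D.a⁻¹ = D.e := by
  calc D.a * e2 D * D.a⁻¹ = D.a ^ 3 * D.e * (D.a ^ 3)⁻¹ := by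
        simp only [e2, e1, pow_succ, pow_zero, one_mul, mul_inv_rev, mul_assoc]
    _ = D.e := by rw [D.a3]; group

theorem comm01 : Commute D.e (e1 D) := D.comm

theorem comm12 : Commute (e1 D) (e2 D) := by
  have := (comm01 D).map (MulAut.conj D.a).toMonoidHom
  simpa [e1, e2] using this

theorem comm02 : Commute D.e (e2 D) := by
  have h : Commute (e2 D) (D.a * e2 D * D.a⁻¹) :=
    (comm12 D).map (MulAut.conj D.a).toMonoidHom
  rw [a_e2 D] at h
  exact h.symm

theorem e1_3 : e1 D ^ 3 = 1 := by rw [e1, conj_pow, D.e3]; group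

theorem e2_3 : e2 D ^ 3 = 1 := by rw [e2, conj_pow, e1_3]; group

def E (v : V) : H := D.e ^ (v 0).val * e1 D ^ (v 1).val * e2 D ^ (v 2).val

theorem E_zero : E D 0 = 1 := by simp [E]

theorem E_add (v w : V) : E D (v + w) = E D v * E D w := by
  simp only [E, Pi.add_apply, pow_val_add D.e3, pow_val_add (e1_3 D), pow_val_add (e2_3 D)]
  have h1 : Commute (D.e ^ (w 0).val) (e1 D ^ (v 1).val) := (comm01 D).pow_pow _ _
  have h2 : Commute (D.e ^ (w 0).val) (e2 D ^ (v 2).val) := (comm02 D).pow_pow _ _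
  have h3 : Commute (e1 D ^ (w 1).val) (e2 D ^ (v 2).val) := (comm12 D).pow_pow _ _
  calc D.e ^ (v 0).val * D.e ^ (w 0).val * (e1 D ^ (v 1).val * e1 D ^ (w 1).val) *
        (e2 D ^ (v 2).val * e2 D ^ (w 2).val)
      = D.e ^ (v 0).val * (D.e ^ (w 0).val * e1 D ^ (v 1).val) *
          (e1 D ^ (w 1).val * e2 D ^ (v 2).val) * e2 D ^ (w 2).val := by
        simp only [mul_assoc]
    _ = D.e ^ (v 0).val * e1 D ^ (v 1).val * (D.e ^ (w 0).val * e2 D ^ (v 2).val) *
          (e1 D ^ (w 1).val * e2 D ^ (w 2).val) := by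
        rw [h1.eq, h3.eq]; simp only [mul_assoc]
    _ = _ := by rw [h2.eq]; simp only [mul_assoc]

theorem a_mul_E (v : V) : D.a * E D v = E D (sh v) * D.a := by
  rw [← mul_inv_eq_iff_eq_mul]
  have : D.a * E D v * D.a⁻¹ = e1 D ^ (v 0).val * e2 D ^ (v 1).val * D.e ^ (v 2).val := by
    show MulAut.conj D.a (E D v) = _
    simp only [E, map_mul, map_pow, MulAut.conj_apply, a_e2 D]
    rfl
  rw [this]
  simp only [E, sh, Matrix.cons_val_zero, Matrix.cons_val_one, Matrix.cons_val_two,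
    Matrix.tail_cons, Matrix.head_cons]
  exact ((((comm01 D).pow_pow _ _).mul_right ((comm02 D).pow_pow _ _)).eq.symm).trans
    (mul_assoc _ _ _).symm

theorem t_e1_t : D.t * e1 D * D.t = e2 D := by
  have h1 : D.t⁻¹ = D.t := inv_eq_of_mul_eq_one_right D.t2
  have h2 : D.t * D.a⁻¹ * D.t = D.a := by
    have := congrArg (·⁻¹) D.tat
    simpa [mul_inv_rev, h1, mul_assoc] using this
  calc D.t * e1 D * D.t = (D.t * D.a * D.t) * (D.t * D.e * D.t) * (D.t * D.a⁻¹ * D.t) := by
        simp only [e1, mul_assoc]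
        simp only [← mul_assoc D.t D.t, D.t2, one_mul]
    _ = D.a⁻¹ * D.e * D.a := by rw [D.tat, D.tet, h2]
    _ = e2 D := by
        have h4 : D.a⁻¹ = D.a * D.a := inv_eq_of_mul_eq_one_right (by
          rw [← D.a3]; simp [pow_succ, mul_assoc])
        have h5 : D.a⁻¹ * D.e * D.a = D.a⁻¹ * D.e * D.a⁻¹⁻¹ := by rw [inv_inv]
        rw [h5, h4]
        simp only [e2, e1, mul_inv_rev, mul_assoc]

theorem t_mul_E (v : V) : D.t * E D v = E D (swp v) * D.t := by
  have h1 : D.t⁻¹ = D.t := inv_eq_of_mul_eq_one_right D.t2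
  rw [← mul_inv_eq_iff_eq_mul]
  have h3 : D.t * e2 D * D.t = e1 D := by
    calc D.t * e2 D * D.t = (D.t * D.t) * e1 D * (D.t * D.t) := by
          rw [← t_e1_t D]; simp only [mul_assoc]
      _ = _ := by rw [D.t2, one_mul, mul_one]
  have h' : D.t * E D v * D.t⁻¹ = D.e ^ (v 0).val * e2 D ^ (v 1).val * e1 D ^ (v 2).val := by
    show MulAut.conj D.t (E D v) = _
    simp only [E, map_mul, map_pow, MulAut.conj_apply, h1, D.tet, t_e1_t D, h3]
  rw [h']
  simp only [E, swp, Matrix.cons_val_zero, Matrix.cons_val_one, Matrix.cons_val_two,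
    Matrix.tail_cons, Matrix.head_cons]
  rw [mul_assoc, mul_assoc, ((comm12 D).pow_pow _ _).eq]

def f (p : NF) : H := E D p.1 * D.a ^ p.2.1.val * D.t ^ p.2.2.val

theorem apow_mul_E (n : ℕ) (v : V) : D.a ^ n * E D v = E D (sh^[n] v) * D.a ^ n := by
  induction n generalizing v with
  | zero => simp
  | succ n ih =>
    rw [Function.iterate_succ_apply, pow_succ, mul_assoc, a_mul_E, ← mul_assoc, ih, mul_assoc]

theorem t_mul_apow (l : ZMod 3) : D.t * D.a ^ l.val = D.a ^ (-l).val * D.t := by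
  rw [pow_val_neg D.a3, ← inv_pow, ← D.tat]
  have h1 : D.t⁻¹ = D.t := inv_eq_of_mul_eq_one_right D.t2
  conv_rhs => rw [show D.t * D.a * D.t = D.t * D.a * D.t⁻¹ by rw [h1], conj_pow]
  simp

theorem f_op (p r : NF) : f D p * f D r = f D (op p r) := by
  obtain ⟨v, l, m⟩ := p
  obtain ⟨v', l', m'⟩ := r
  have hm : m = 0 ∨ m = 1 := by revert m; decide
  have hm' : m' = 0 ∨ m' = 1 := by revert m'; decide
  have key : D.t ^ m.val * (E D v' * D.a ^ l'.val) =
      E D (swn m v') * D.a ^ (sgn m l').val * D.t ^ m.val := by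
    rcases hm with rfl | rfl
    · simp [swn, sgn]
    · rw [show (1 : ZMod 2).val = 1 from rfl, pow_one, ← mul_assoc, t_mul_E, mul_assoc,
        t_mul_apow, ← mul_assoc]
      simp [swn, sgn]
  have ht : D.t ^ m.val * D.t ^ m'.val = D.t ^ (m + m').val := by
    rcases hm with rfl | rfl <;> rcases hm' with rfl | rfl <;>
      simp [show ((1 : ZMod 2) + 1) = 0 from rfl, show (1 : ZMod 2).val = 1 from rfl, D.t2]
  simp only [f, op]
  calc E D v * D.a ^ l.val * D.t ^ m.val * (E D v' * D.a ^ l'.val * D.t ^ m'.val)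
      = E D v * (D.a ^ l.val * (D.t ^ m.val * (E D v' * D.a ^ l'.val))) * D.t ^ m'.val := by
        simp only [mul_assoc]
    _ = E D v * (D.a ^ l.val * E D (swn m v')) * D.a ^ (sgn m l').val *
          (D.t ^ m.val * D.t ^ m'.val) := by rw [key]; simp only [mul_assoc]
    _ = _ := by
        rw [apow_mul_E, ht, E_add, pow_val_add D.a3, shn]; simp only [mul_assoc]

theorem exists_mulEquiv {H' : Type*} [Group H'] (D' : Data H')
    (h : Function.Bijective (f D)) (h' : Function.Bijective (f D')) : Nonempty (H ≃* H') := by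
  let g := (Equiv.ofBijective _ h).symm.trans (Equiv.ofBijective _ h')
  refine ⟨MulEquiv.mk g fun x y => ?_⟩
  obtain ⟨p, rfl⟩ := h.2 x
  obtain ⟨r, rfl⟩ := h.2 y
  have hg : ∀ p, g (f D p) = f D' p := fun p => by
    show (Equiv.ofBijective _ h') ((Equiv.ofBijective _ h).symm (Equiv.ofBijective _ h p)) = _
    rw [Equiv.symm_apply_apply]; rfl
  show g (f D p * f D r) = g (f D p) * g (f D r)
  rw [f_op, hg, hg, hg, f_op]

theorem E_eq_one (hN : D.e * e1 D * e2 D ≠ 1) {v : V} (hv : E D v = 1) : v = 0 := by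
  have hconst : ∀ c : ZMod 3, c ≠ 0 → E D (fun _ => c) ≠ 1 := by
    intro c hc h
    apply hN
    have h1 : E D (fun _ => (1 : ZMod 3)) = 1 := by
      have h12 : ∀ c : ZMod 3, c ≠ 0 → c = 1 ∨ c = 2 := by decide
      rcases h12 c hc with rfl | rfl
      · exact h
      · rw [show (fun _ : Fin 3 => (1 : ZMod 3)) = (fun _ => 2) + (fun _ => 2) by decide, E_add, h,
          one_mul]
    simpa [E, show (1 : ZMod 3).val = 1 from rfl] using h1
  have hsh : ∀ {w}, E D w = 1 → E D (sh w) = 1 := by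
    intro w hw
    have := a_mul_E D w
    rw [hw, mul_one] at this
    exact mul_right_cancel (b := D.a) (this.symm.trans (one_mul _).symm)
  have hneg : ∀ {w}, E D w = 1 → E D (-w) = 1 := by
    intro w hw
    have := E_add D w (-w)
    rw [add_neg_cancel, E_zero, hw, one_mul] at this
    exact this.symm
  have key : ∀ w : V, w = 0 ∨ (∃ c : ZMod 3, c ≠ 0 ∧ w = fun _ => c) ∨
      (∃ c : ZMod 3, c ≠ 0 ∧ w + sh w + sh (sh w) = fun _ => c) ∨
      (∃ c : ZMod 3, c ≠ 0 ∧ sh w + -w = fun _ => c) := by decide +kernel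
  rcases key v with h | ⟨c, hc, h⟩ | ⟨c, hc, h⟩ | ⟨c, hc, h⟩
  · exact h
  · exact absurd (h ▸ hv) (hconst c hc)
  · refine absurd ?_ (hconst c hc)
    rw [← h, E_add, E_add, hv, hsh hv, hsh (hsh hv), one_mul, one_mul]
  · refine absurd ?_ (hconst c hc)
    rw [← h, E_add, hsh hv, hneg hv, one_mul]

end

/-! ### The model -/

abbrev zz : Equiv.Perm (Fin 9) :=
  Equiv.swap 0 1 * Equiv.swap 1 2 * Equiv.swap 3 4 * Equiv.swap 4 5 * Equiv.swap 6 7 * Equiv.swap 7 8

abbrev Mdl := Subgroup.centralizer ({zz} : Set (Equiv.Perm (Fin 9)))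

def pe : Equiv.Perm (Fin 9) := Equiv.swap 0 1 * Equiv.swap 1 2
def pa : Equiv.Perm (Fin 9) := finRotate 9 ^ 3
def pt : Equiv.Perm (Fin 9) := Equiv.swap 3 6 * Equiv.swap 4 7 * Equiv.swap 5 8

def model : Data Mdl where
  e := ⟨pe, Subgroup.mem_centralizer_singleton_iff.mpr (by decide +kernel)⟩
  a := ⟨pa, Subgroup.mem_centralizer_singleton_iff.mpr (by decide +kernel)⟩
  t := ⟨pt, Subgroup.mem_centralizer_singleton_iff.mpr (by decide +kernel)⟩
  e3 := Subtype.ext (by show pe ^ 3 = 1; decide +kernel)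
  a3 := Subtype.ext (by show pa ^ 3 = 1; decide +kernel)
  t2 := Subtype.ext (by show pt * pt = 1; decide +kernel)
  tat := Subtype.ext (by show pt * pa * pt = pa⁻¹; decide +kernel)
  tet := Subtype.ext (by show pt * pe * pt = pe; decide +kernel)
  comm := Subtype.ext (by show pe * (pa * pe * pa⁻¹) = pa * pe * pa⁻¹ * pe; decide +kernel)

theorem card_model : Nat.card Mdl = 162 := by
  have h : (zz).cycleType = {3, 3, 3} := by decide +kernel
  rw [Equiv.Perm.nat_card_centralizer, h]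
  decide

theorem model_bijective : Function.Bijective (f model) := by
  rw [Nat.bijective_iff_injective_and_card, card_model]
  refine ⟨?_, by simp [Nat.card_eq_fintype_card]⟩
  have h : Function.Injective fun p : NF =>
      (((f model p : Mdl) : Equiv.Perm (Fin 9)) 0, ((f model p : Mdl) : Equiv.Perm (Fin 9)) 3,
        ((f model p : Mdl) : Equiv.Perm (Fin 9)) 6) := by
    decide +kernel
  intro p r hpr
  exact h (by simp only [hpr])

/-! ### Finding the data in `G` -/

section main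

open Subgroup

theorem main {G : Type*} [Group G] [Finite G] (hG : Nat.card G = 162)
    (S : Sylow 3 G) (T : Sylow 2 G) (J : Subgroup G) [hJn : J.Normal] (hJcomm : IsMulCommutative J)
    (hJexp : ∀ a ∈ J, a ^ 3 = 1) (hJcard : Nat.card J = 27)
    (Z : Subgroup G) (hZ : Z = (S : Subgroup G) ⊓ Subgroup.centralizer ((S : Subgroup G) : Set G))
    (hZcard : Nat.card Z = 3)
    (hZT : Z ≤ Subgroup.centralizer ((T : Subgroup G) : Set G))
    (hST : (S : Subgroup G) ⊓ Subgroup.centralizer ((T : Subgroup G) : Set G) ≠ S) :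
    Nonempty (G ≃* Mdl) := by
  have hS : Nat.card (S : Subgroup G) = 81 := by
    rw [Sylow.card_eq_multiplicity, hG, Nat.factorization_def]
    · rw [show (162 : ℕ) = 3 ^ 4 * 2 by norm_num, padicValNat.mul (by norm_num) (by norm_num),
        padicValNat.prime_pow, padicValNat.eq_zero_of_not_dvd (by norm_num)]
      norm_num
    · norm_num
  have hT : Nat.card (T : Subgroup G) = 2 := by
    rw [Sylow.card_eq_multiplicity, hG, Nat.factorization_def]
    · rw [show (162 : ℕ) = 2 * 81 by norm_num, padicValNat.mul (by norm_num) (by norm_num),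
        padicValNat.self (by norm_num), padicValNat.eq_zero_of_not_dvd (by norm_num)]
      norm_num
    · norm_num
  have hSn : (S : Subgroup G).Normal := by
    apply Subgroup.normal_of_index_eq_two
    have := (S : Subgroup G).card_mul_index
    rw [hS, hG] at this; omega
  have hJS : J ≤ (S : Subgroup G) := by
    have hJp : IsPGroup 3 J := IsPGroup.of_card (n := 3) (by rw [hJcard]; norm_num)
    obtain ⟨Q, hQ⟩ := hJp.exists_le_sylow
    haveI : Unique (Sylow 3 G) := Sylow.unique_of_normal S hSn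
    rwa [Subsingleton.elim Q S] at hQ
  have hJrel : (J.subgroupOf S).index = 3 := by
    have := (J.subgroupOf S).card_mul_index
    rw [Nat.card_congr (subgroupOfEquivOfLe hJS).toEquiv, hJcard, hS] at this; omega
  have hJc : ∀ i ∈ J, ∀ j ∈ J, i * j = j * i := fun i hi j hj =>
    congrArg Subtype.val (hJcomm.is_comm.comm (⟨i, hi⟩ : J) ⟨j, hj⟩)
  -- the three cosets of `J` in `S`
  have hcoset : ∀ y ∈ (S : Subgroup G), y ∉ J → ∀ s ∈ (S : Subgroup G),
      ∃ n : ℕ, n < 3 ∧ ∃ j ∈ J, s = j * y ^ n := by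
    intro y hy hyJ s hs
    have hcardq : Nat.card (↥(S : Subgroup G) ⧸ J.subgroupOf S) = 3 := hJrel
    have hy1 : (QuotientGroup.mk' (J.subgroupOf (S : Subgroup G)) ⟨y, hy⟩) ≠ 1 := by
      rw [Ne, QuotientGroup.mk'_apply, QuotientGroup.eq_one_iff, mem_subgroupOf]; exact hyJ
    have : Fact (Nat.Prime 3) := ⟨by norm_num⟩
    obtain ⟨n, hn⟩ := Subgroup.mem_zpowers_iff.mp
      (mem_zpowers_of_prime_card hcardq hy1
        (g' := QuotientGroup.mk' (J.subgroupOf (S : Subgroup G)) ⟨s, hs⟩))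
    refine ⟨(n % 3).toNat, by omega, s * (y ^ (n % 3).toNat)⁻¹, ?_, by group⟩
    have h3 : (QuotientGroup.mk' (J.subgroupOf (S : Subgroup G)) ⟨s, hs⟩) =
        QuotientGroup.mk' (J.subgroupOf (S : Subgroup G)) (⟨y, hy⟩ ^ (n % 3).toNat) := by
      rw [map_pow, ← hn, ← zpow_natCast, Int.toNat_of_nonneg (Int.emod_nonneg _ (by norm_num)),
        zpow_eq_zpow_emod n (n := 3)]
      have h := pow_card_eq_one' (x := QuotientGroup.mk' (J.subgroupOf (S : Subgroup G)) ⟨y, hy⟩)
      rw [hcardq] at h; exact_mod_cast h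
    rw [QuotientGroup.mk'_apply, QuotientGroup.mk'_apply] at h3
    have h4 := (QuotientGroup.eq (s := J.subgroupOf (S : Subgroup G))).mp h3.symm
    rw [mem_subgroupOf] at h4
    have h5 := hJn.conj_mem _ h4 (y ^ (n % 3).toNat)
    simpa [mul_assoc] using h5
  have hy3 : ∀ y ∈ (S : Subgroup G), y ^ 3 ∈ J := by
    intro y hy
    have := Subgroup.pow_index_mem (J.subgroupOf (S : Subgroup G)) ⟨y, hy⟩
    rw [hJrel, mem_subgroupOf] at this
    exact this
  have hcentS : ∀ y ∈ (S : Subgroup G), y ∉ J → ∀ x ∈ (S : Subgroup G),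
      (∀ j ∈ J, Commute x j) → Commute x y → x ∈ Z := by
    intro y hy hyJ x hx hxJ hxy
    rw [hZ]
    refine ⟨hx, mem_centralizer_iff.mpr fun s hs => ?_⟩
    obtain ⟨n, -, j, hj, rfl⟩ := hcoset y hy hyJ s hs
    exact ((hxJ j hj).mul_right (hxy.pow_right n)).eq.symm
  have hZJ : Z ≤ J := by
    intro x hx
    by_contra hxJ
    rw [hZ, mem_inf, mem_centralizer_iff] at hx
    have hall : (S : Subgroup G) ≤ Z := by
      intro s hs
      obtain ⟨n, -, j, hj, rfl⟩ := hcoset x hx.1 hxJ s hs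
      have hjZ : j ∈ Z := hcentS x hx.1 hxJ j (hJS hj) (fun i hi => hJc j hj i hi)
        (hx.2 j (hJS hj))
      exact mul_mem hjZ (pow_mem (by rw [hZ]; exact ⟨hx.1, mem_centralizer_iff.mpr hx.2⟩) n)
    have := Subgroup.card_le_of_le hall
    omega
  have hfix : ∀ y ∈ (S : Subgroup G), y ∉ J → ∀ j ∈ J, y * j * y⁻¹ = j → j ∈ Z := by
    intro y hy hyJ j hj h
    refine hcentS y hy hyJ j (hJS hj) (fun i hi => hJc j hj i hi) ?_
    rw [Commute, SemiconjBy, ← mul_inv_eq_iff_eq_mul.mp h]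
  -- for `y ∈ S \ J`: `δ (δ j) = j * y j y⁻¹ * y² j y⁻²`, fixed by `y`
  have hnorm : ∀ y ∈ (S : Subgroup G), y ∉ J → ∀ j ∈ J,
      j * (y * j * y⁻¹) * (y * (y * j * y⁻¹) * y⁻¹) ∈ Z ∧
      (y * ((y * j * y⁻¹) * j⁻¹) * y⁻¹) * ((y * j * y⁻¹) * j⁻¹)⁻¹ =
        j * (y * j * y⁻¹) * (y * (y * j * y⁻¹) * y⁻¹) := by
    intro y hy hyJ j hj
    have hj1 : y * j * y⁻¹ ∈ J := hJn.conj_mem j hj y
    have hj2 : y * (y * j * y⁻¹) * y⁻¹ ∈ J := hJn.conj_mem _ hj1 y
    have h3 : y * (y * (y * j * y⁻¹) * y⁻¹) * y⁻¹ = j := by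
      calc y * (y * (y * j * y⁻¹) * y⁻¹) * y⁻¹ = y ^ 3 * j * (y ^ 3)⁻¹ := by
            simp only [pow_succ, pow_zero, one_mul, mul_inv_rev, mul_assoc]
        _ = j := by rw [hJc _ (hy3 y hy) j hj]; group
    set p := y * j * y⁻¹ with hp
    set r := y * p * y⁻¹ with hr
    constructor
    · refine hfix y hy hyJ _ (mul_mem (mul_mem hj hj1) hj2) ?_
      calc y * (j * p * r) * y⁻¹ = (y * j * y⁻¹) * (y * p * y⁻¹) * (y * r * y⁻¹) := by group
        _ = p * r * j := by rw [← hp, ← hr, h3]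
        _ = j * (p * r) := hJc _ (mul_mem hj1 hj2) j hj
        _ = j * p * r := (mul_assoc _ _ _).symm
    · have hpinv : p⁻¹ = p * p := inv_eq_of_mul_eq_one_right (by
        rw [← hJexp p hj1]; simp [pow_succ, mul_assoc])
      clear_value p r
      calc y * (p * j⁻¹) * y⁻¹ * (p * j⁻¹)⁻¹ = (y * p * y⁻¹) * (y * j * y⁻¹)⁻¹ * (p * j⁻¹)⁻¹ := by
            simp only [mul_inv_rev, inv_inv, mul_assoc, inv_mul_cancel_left]
        _ = r * p⁻¹ * (p * j⁻¹)⁻¹ := by rw [← hp, ← hr]
        _ = r * p⁻¹ * (j * p⁻¹) := by rw [mul_inv_rev p, inv_inv]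
        _ = r * (p⁻¹ * j * p⁻¹) := by simp only [mul_assoc]
        _ = r * (j * (p⁻¹ * p⁻¹)) := by rw [hJc _ (inv_mem hj1) j hj, mul_assoc]
        _ = r * (j * p) := by
            rw [← mul_inv_rev, ← hpinv, inv_inv]
        _ = j * p * r := hJc r hj2 _ (mul_mem hj hj1)
  -- the involution
  have : Fact (Nat.Prime 2) := ⟨by norm_num⟩
  obtain ⟨⟨t, htT⟩, ht⟩ := exists_prime_orderOf_dvd_card' (G := (T : Subgroup G)) 2 (by rw [hT])
  rw [← Subgroup.orderOf_coe] at ht
  have ht2 : t * t = 1 := by rw [← pow_two, ← ht, pow_orderOf_eq_one]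
  have htinv : t⁻¹ = t := inv_eq_of_mul_eq_one_right ht2
  have hTc : ∀ x : G, (∀ u ∈ (T : Subgroup G), u * x = x * u) ↔ t * x = x * t := by
    intro x
    refine ⟨fun h => h t htT, fun h u hu => ?_⟩
    have hTz : (T : Subgroup G) = zpowers t := by
      symm
      refine Subgroup.eq_of_le_of_card_ge (zpowers_le.mpr htT) ?_
      rw [Nat.card_zpowers, ht, hT]
    rw [hTz, mem_zpowers_iff] at hu
    obtain ⟨k, rfl⟩ := hu
    exact ((show Commute t x from h).zpow_left k).eq
  have htZ : ∀ x ∈ Z, t * x * t = x := by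
    intro x hx
    have := mem_centralizer_iff.mp (hZT hx) t htT
    rw [this, mul_assoc, ht2, mul_one]
  have htJ : ∀ j ∈ J, t * j * t ∈ J := fun j hj => by
    simpa [htinv] using hJn.conj_mem j hj t
  have htS : ∀ s ∈ (S : Subgroup G), t * s * t ∈ (S : Subgroup G) := fun j hj => by
    simpa [htinv] using hSn.conj_mem j hj t
  have tmul : ∀ x y : G, t * (x * y) * t = (t * x * t) * (t * y * t) := fun x y => by
    simp only [mul_assoc, ← mul_assoc t t, ht2, one_mul]
  have tinvol : ∀ x : G, t * (t * x * t) * t = x := fun x => by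
    simp only [mul_assoc, ← mul_assoc t t, ht2, one_mul, mul_one]
  have tinv : ∀ x : G, t * x⁻¹ * t = (t * x * t)⁻¹ := fun x => by
    rw [mul_inv_rev, mul_inv_rev, htinv, mul_assoc]
  obtain ⟨y, hy, hyJ⟩ : ∃ y ∈ (S : Subgroup G), y ∉ J := by
    by_contra h
    push Not at h
    have := Subgroup.card_le_of_le (show (S : Subgroup G) ≤ J from h)
    omega
  -- `t` inverts `S / J`
  obtain ⟨j₀, hj₀, hyt⟩ : ∃ j ∈ J, t * y * t = j * y ^ 2 := by
    obtain ⟨n, hn, j, hj, h⟩ := hcoset y hy hyJ _ (htS y hy)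
    interval_cases n
    · exfalso; apply hyJ
      rw [pow_zero, mul_one] at h
      have := htJ _ hj
      rwa [← h, tinvol] at this
    · exfalso; apply hST
      rw [pow_one] at h
      have hcomm : ∀ i ∈ J, t * (y * i * y⁻¹) * t = y * (t * i * t) * y⁻¹ := by
        intro i hi
        calc t * (y * i * y⁻¹) * t = (t * y * t) * (t * i * t) * (t * y * t)⁻¹ := by
              rw [tmul, tmul, tinv]
          _ = j * (y * (t * i * t) * y⁻¹) * j⁻¹ := by rw [h]; group
          _ = _ := by rw [hJc j hj _ (hJn.conj_mem _ (htJ i hi) y)]; group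
      have hstep : ∀ i ∈ J, t * ((y * i * y⁻¹) * i⁻¹) * t = (y * i * y⁻¹) * i⁻¹ →
          t * i * t = i := by
        intro i hi h1
        have hk : (t * i * t) * i⁻¹ ∈ J := mul_mem (htJ i hi) (inv_mem hi)
        have hkZ : (t * i * t) * i⁻¹ ∈ Z := by
          refine hfix y hy hyJ _ hk ?_
          rw [tmul, hcomm i hi, tinv] at h1
          have h2 : y * (t * i * t) * y⁻¹ = y * i * y⁻¹ * i⁻¹ * (t * i * t) :=
            mul_inv_eq_iff_eq_mul.mp h1
          calc y * ((t * i * t) * i⁻¹) * y⁻¹ = (y * (t * i * t) * y⁻¹) * (y * i * y⁻¹)⁻¹ := by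
                group
            _ = (y * i * y⁻¹) * (i⁻¹ * (t * i * t)) * (y * i * y⁻¹)⁻¹ := by
                rw [h2]; simp only [mul_assoc]
            _ = i⁻¹ * (t * i * t) := by
                rw [hJc _ (hJn.conj_mem i hi y) _ (mul_mem (inv_mem hi) (htJ i hi))]; group
            _ = (t * i * t) * i⁻¹ := hJc _ (inv_mem hi) _ (htJ i hi)
        have h3 := htZ _ hkZ
        rw [tmul, tinvol, tinv] at h3
        -- `i * u⁻¹ = u * i⁻¹`
        set u := t * i * t with hu
        have h4 : (i * u⁻¹) * (i * u⁻¹) = 1 := by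
          nth_rewrite 2 [h3]; group
        have h5 : (i * u⁻¹) ^ 3 = 1 := hJexp _ (mul_mem hi (inv_mem (htJ i hi)))
        rw [pow_succ, pow_two, h4, one_mul] at h5
        exact (mul_inv_eq_one.mp h5).symm
      have hfixJ : ∀ i ∈ J, t * i * t = i := by
        intro i hi
        apply hstep i hi
        have hd : y * i * y⁻¹ * i⁻¹ ∈ J := mul_mem (hJn.conj_mem i hi y) (inv_mem hi)
        apply hstep _ hd
        rw [(hnorm y hy hyJ i hi).2]
        exact htZ _ (hnorm y hy hyJ i hi).1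
      have hty : t * y * t = y := by
        have h3 := tinvol y
        rw [h, tmul, hfixJ j hj, h] at h3
        have hj1 : j * j = 1 := by
          rw [← mul_left_inj y, one_mul, mul_assoc]; exact h3
        have h5 := hJexp j hj
        rw [pow_succ, pow_two, hj1, one_mul] at h5
        rw [h, h5, one_mul]
      refine le_antisymm inf_le_left fun s hs => ⟨hs, ?_⟩
      obtain ⟨n, -, i, hi, rfl⟩ := hcoset y hy hyJ s hs
      refine mem_centralizer_iff.mpr ((hTc _).mpr ?_)
      have hti : Commute t i := by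
        show t * i = i * t
        conv_rhs => rw [← hfixJ i hi, mul_assoc, ht2, mul_one]
      have htyc : Commute t y := by
        show t * y = y * t
        conv_rhs => rw [← hty, mul_assoc, ht2, mul_one]
      exact (hti.mul_right (htyc.pow_right n)).eq
    · exact ⟨j, hj, h⟩
  -- the element of order three inverted by `t`
  set a := y * (t * y * t)⁻¹ with ha
  have haS : a ∈ (S : Subgroup G) := mul_mem hy (inv_mem (htS y hy))
  have haJ : a ∉ J := by
    rw [ha, hyt]
    intro h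
    apply hyJ
    have h1 : y⁻¹ * j₀⁻¹ ∈ J := by
      have : y * (j₀ * y ^ 2)⁻¹ = y⁻¹ * j₀⁻¹ := by group
      rwa [this] at h
    have := mul_mem h1 hj₀
    rw [inv_mul_cancel_right] at this
    simpa using inv_mem this
  have hta : t * a * t = a⁻¹ := by
    rw [ha, tmul, tinv, tinvol, mul_inv_rev, inv_inv]
  have ha3 : a ^ 3 = 1 := by
    have h3 : a ^ 3 ∈ J := hy3 a haS
    have hZ3 : a ^ 3 ∈ Z := hfix a haS haJ _ h3 (by group)
    have h := htZ _ hZ3
    have h2 : t * a ^ 3 * t = (a ^ 3)⁻¹ := by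
      rw [← inv_pow, ← hta]
      conv_rhs => rw [show t * a * t = t * a * t⁻¹ by rw [htinv], conj_pow, htinv]
    rw [h] at h2
    have h4 : a ^ 3 * a ^ 3 = 1 := eq_inv_iff_mul_eq_one.mp h2
    have h5 := hJexp _ h3
    rw [pow_succ, pow_two, h4, one_mul] at h5
    exact h5
  -- an element of `J` with non-trivial norm
  obtain ⟨j₁, hj₁, hNj⟩ : ∃ j ∈ J, j * (a * j * a⁻¹) * (a * (a * j * a⁻¹) * a⁻¹) ≠ 1 := by
    by_contra hcon
    push Not at hcon
    let δ : J →* J :=
    { toFun := fun j => ⟨a * j * a⁻¹ * (j : G)⁻¹, mul_mem (hJn.conj_mem _ j.2 a) (inv_mem j.2)⟩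
      map_one' := Subtype.ext (by simp)
      map_mul' := fun i j => Subtype.ext (by
        simp only [Subgroup.coe_mul, mul_inv_rev]
        have h1 := hJc _ (hJn.conj_mem _ j.2 a) _ (inv_mem i.2)
        calc a * (↑i * ↑j) * a⁻¹ * ((j : G)⁻¹ * (i : G)⁻¹)
            = (a * i * a⁻¹) * ((a * j * a⁻¹) * ((j : G)⁻¹ * (i : G)⁻¹)) := by group
          _ = (a * i * a⁻¹) * ((a * j * a⁻¹) * ((i : G)⁻¹ * (j : G)⁻¹)) := by
              rw [hJc _ (inv_mem j.2) _ (inv_mem i.2)]
          _ = (a * i * a⁻¹) * (((a * j * a⁻¹) * (i : G)⁻¹) * (j : G)⁻¹) := by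
              simp only [mul_assoc]
          _ = _ := by rw [h1]; simp only [mul_assoc]) }
    have hker : ∀ j : J, δ j = 1 → (j : G) ∈ Z := by
      intro j hj
      exact hfix a haS haJ _ j.2 (mul_inv_eq_one.mp (congrArg Subtype.val hj))
    have hk3 : Nat.card δ.ker ≤ 3 := by
      rw [← hZcard]
      exact Nat.card_le_card_of_injective (fun x : δ.ker => (⟨(x : J), hker _ x.2⟩ : Z))
        (fun x x' h => Subtype.ext (Subtype.ext (congrArg (fun z : Z => (z : G)) h)))
    have himg : δ.range ≤ δ.ker := by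
      rintro _ ⟨j, rfl⟩
      rw [MonoidHom.mem_ker]
      refine Subtype.ext ?_
      show a * (a * j * a⁻¹ * (j : G)⁻¹) * a⁻¹ * (a * j * a⁻¹ * (j : G)⁻¹)⁻¹ = 1
      rw [(hnorm a haS haJ _ j.2).2]
      exact hcon _ j.2
    have hr3 : Nat.card δ.range ≤ 3 := (Subgroup.card_le_of_le himg).trans hk3
    have := δ.ker.card_mul_index
    rw [Subgroup.index_ker, hJcard] at this
    nlinarith
  set e := j₁ * (t * j₁ * t) with he
  have heJ : e ∈ J := mul_mem hj₁ (htJ _ hj₁)
  have hte : t * e * t = e := by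
    rw [he, tmul, tinvol]; exact hJc _ (htJ _ hj₁) _ hj₁
  let D : Data G :=
    { e := e, a := a, t := t, e3 := hJexp e heJ, a3 := ha3, t2 := ht2, tat := hta, tet := hte
      comm := hJc e heJ _ (hJn.conj_mem e heJ a) }
  have hN : D.e * e1 D * e2 D ≠ 1 := by
    show e * (a * e * a⁻¹) * (a * (a * e * a⁻¹) * a⁻¹) ≠ 1
    set N1 := j₁ * (a * j₁ * a⁻¹) * (a * (a * j₁ * a⁻¹) * a⁻¹) with hN1
    have hN1Z : N1 ∈ Z := (hnorm a haS haJ j₁ hj₁).1
    -- `t` maps the norm of `j₁` to that of `t j₁ t`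
    set u := t * j₁ * t with hu
    have huJ : u ∈ J := htJ _ hj₁
    have hai : a⁻¹ = a * a := inv_eq_of_mul_eq_one_right (by rw [← ha3]; simp [pow_succ, mul_assoc])
    have hN2 : u * (a⁻¹ * u * a) * (a⁻¹ * (a⁻¹ * u * a) * a) = N1 := by
      have := htZ _ hN1Z
      simp only [hN1, tmul, tinv, hta, inv_inv, ← hu] at this
      exact this
    have hconj2 : a⁻¹ * u * a = a * (a * u * a⁻¹) * a⁻¹ := by
      calc a⁻¹ * u * a = (a⁻¹ * (a ^ 3)) * u * ((a ^ 3)⁻¹ * a) := by
            rw [ha3]; simp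
        _ = _ := by
            simp only [pow_succ, pow_zero, one_mul, mul_inv_rev, mul_assoc, inv_mul_cancel_left,
              inv_mul_cancel, mul_one]
    rw [hconj2] at hN2
    rw [show a⁻¹ * (a * (a * u * a⁻¹) * a⁻¹) * a = a * u * a⁻¹ by
      simp only [mul_assoc, inv_mul_cancel_left, inv_mul_cancel, mul_one]] at hN2
    have hu1 := hJn.conj_mem u huJ a
    have hu2 := hJn.conj_mem _ hu1 a
    have hp1 := hJn.conj_mem j₁ hj₁ a
    have hp2 := hJn.conj_mem _ hp1 a
    have key : ∀ p0 p1 p2 u0 u1 u2 : J,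
        ((p0 * u0) * (p1 * u1) * (p2 * u2) : J) = (p0 * p1 * p2) * (u0 * u2 * u1) := by
      intro p0 p1 p2 u0 u1 u2
      haveI := hJcomm
      letI : CommGroup J := { (inferInstance : Group J) with mul_comm := hJcomm.is_comm.comm }
      simp only [mul_assoc, mul_left_comm, mul_comm]
    have h := congrArg Subtype.val (key ⟨_, hj₁⟩ ⟨_, hp1⟩ ⟨_, hp2⟩ ⟨_, huJ⟩ ⟨_, hu1⟩ ⟨_, hu2⟩)
    simp only [Subgroup.coe_mul] at h
    rw [hN2, ← hN1] at h
    intro hcon
    apply hNj
    have hcon' : N1 * N1 = 1 := by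
      rw [← h, ← hcon, he]; group
    have h5 := hJexp N1 (mul_mem (mul_mem hj₁ hp1) hp2)
    rw [pow_succ, pow_two, hcon', one_mul] at h5
    exact h5
  have hinj : Function.Injective (f D) := by
    intro p r hpr
    obtain ⟨v, l, m⟩ := p
    obtain ⟨v', l', m'⟩ := r
    have hEJ : ∀ v, E D v ∈ J := fun v =>
      mul_mem (mul_mem (pow_mem heJ _) (pow_mem (hJn.conj_mem e heJ a) _))
        (pow_mem (hJn.conj_mem _ (hJn.conj_mem e heJ a) a) _)
    have htnS : t ∉ (S : Subgroup G) := by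
      intro h
      have := Subgroup.orderOf_dvd_natCard (S : Subgroup G) h
      rw [ht, hS] at this; omega
    have hEA : ∀ v (l : ZMod 3), E D v * D.a ^ l.val ∈ (S : Subgroup G) := fun v l =>
      mul_mem (hJS (hEJ v)) (pow_mem haS _)
    simp only [f] at hpr
    have h01 := zmod2_cases
    have hm : m = m' := by
      rcases h01 m with rfl | rfl <;> rcases h01 m' with rfl | rfl
      · rfl
      · exfalso; apply htnS
        rw [show (0 : ZMod 2).val = 0 from rfl, show (1 : ZMod 2).val = 1 from rfl, pow_zero,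
          mul_one, pow_one, ← inv_mul_eq_iff_eq_mul] at hpr
        show D.t ∈ (S : Subgroup G)
        rw [← hpr]; exact mul_mem (inv_mem (hEA v' l')) (hEA v l)
      · exfalso; apply htnS
        rw [show (0 : ZMod 2).val = 0 from rfl, show (1 : ZMod 2).val = 1 from rfl, pow_zero,
          mul_one, pow_one, ← eq_inv_mul_iff_mul_eq] at hpr
        show D.t ∈ (S : Subgroup G)
        rw [hpr]; exact mul_mem (inv_mem (hEA v l)) (hEA v' l')
      · rfl
    subst hm
    rw [mul_left_inj] at hpr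
    have hd : D.a ^ (l - l').val = (E D v)⁻¹ * E D v' := by
      rw [sub_eq_add_neg, pow_val_add D.a3, pow_val_neg D.a3, eq_inv_mul_iff_mul_eq,
        ← mul_assoc, hpr, mul_inv_cancel_right]
    have hl : l = l' := by
      by_contra hne
      have h0 : l - l' ≠ 0 := sub_ne_zero.mpr hne
      apply haJ
      show D.a ∈ J
      have hmemJ : D.a ^ (l - l').val ∈ J := by rw [hd]; exact mul_mem (inv_mem (hEJ v)) (hEJ v')
      have h12 := zmod3_ne_zero
      rcases h12 _ h0 with h | h <;> rw [h] at hmemJ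
      · simpa [show (1 : ZMod 3).val = 1 from rfl] using hmemJ
      · rw [show (2 : ZMod 3).val = 2 from rfl] at hmemJ
        have := mul_mem (inv_mem hmemJ) (hy3 a haS)
        simpa [D, pow_succ, mul_assoc] using this
    subst hl
    rw [mul_left_inj] at hpr
    have hv : E D (v + -v') = 1 := by
      have h0 := E_add D v' (-v')
      rw [add_neg_cancel, E_zero] at h0
      rw [E_add, hpr, ← h0]
    have := E_eq_one D hN hv
    rw [← sub_eq_add_neg, sub_eq_zero] at this
    subst this; rfl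
  have hbij : Function.Bijective (f D) := by
    rw [Nat.bijective_iff_injective_and_card, hG]
    exact ⟨hinj, by simp [Nat.card_eq_fintype_card]⟩
  exact exists_mulEquiv D model hbij model_bijective

end main

end Cfsg.SpectrumWreathThree
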