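import Mathlib

/-!
# Generators of a finite group all of whose Sylow subgroups are cyclic
-/

namespace Cfsg.Agent.Lib.Spectrum.ZGroupGens

/-- Standard metacyclic generators of a finite Z-group. -/
theorem exists_gens {G : Type*} [Group G] [Finite G] [hG : IsZGroup G] :
    ∃ (x y : G) (r : ℕ), Subgroup.closure {x, y} = ⊤ ∧ x⁻¹ * y * x = y ^ r ∧
      Nat.Coprime (r - 1) (orderOf y) ∧ Nat.Coprime (orderOf x) (orderOf y) ∧ 1 ≤ r ∧
      r ^ orderOf x % orderOf y = 1 % orderOf y ∧ Nat.card G = orderOf x * orderOf y := by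
  obtain ⟨H, hH⟩ := Subgroup.exists_right_complement'_of_coprime hG.coprime_commutator_index
  have h1 : Abelianization G ≃* H := hH.symm.QuotientMulEquiv
  have hHc : IsCyclic H := isCyclic_of_surjective _ h1.surjective
  have hNc : IsCyclic (commutator G) := hG.isCyclic_commutator
  obtain ⟨x, hx⟩ := (Subgroup.isCyclic_iff_exists_zpowers_eq_top H).1 hHc
  obtain ⟨y, hy⟩ := (Subgroup.isCyclic_iff_exists_zpowers_eq_top (commutator G)).1 hNc
  have hyn : (Subgroup.zpowers y).Normal := by rw [hy]; infer_instance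
  have hm : 0 < orderOf y := orderOf_pos y
  have hconj : x⁻¹ * y * x ∈ Subgroup.zpowers y := by
    simpa using hyn.conj_mem y (Subgroup.mem_zpowers y) x⁻¹
  obtain ⟨r₀, hr₀⟩ := (mem_powers_iff_mem_zpowers.2 hconj : x⁻¹ * y * x ∈ Submonoid.powers y)
  have hr₀' : y ^ r₀ = x⁻¹ * y * x := hr₀
  set r := r₀ + orderOf y with hr
  have hxy : x⁻¹ * y * x = y ^ r := by rw [hr, pow_add, pow_orderOf_eq_one, mul_one, hr₀']
  have hclosure : Subgroup.closure {x, y} = ⊤ := by
    rw [eq_top_iff, ← hH.sup_eq_top, ← hx, ← hy]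
    refine sup_le ?_ ?_ <;> rw [Subgroup.zpowers_le] <;> apply Subgroup.subset_closure <;> simp
  have hcard : Nat.card G = orderOf x * orderOf y := by
    have := hH.card_mul
    rw [← hx, ← hy, Nat.card_zpowers, Nat.card_zpowers] at this
    rw [← this, mul_comm]
  have hcop : Nat.Coprime (orderOf x) (orderOf y) := by
    have h := hG.coprime_commutator_index
    rw [hH.symm.index_eq_card, ← hx, ← hy, Nat.card_zpowers, Nat.card_zpowers] at h
    exact h.symm
  refine ⟨x, y, r, hclosure, hxy, ?_, hcop, by omega, ?_, hcard⟩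
  · -- the subgroup generated by `y ^ (r - 1)` contains the commutator subgroup
    set D := Subgroup.zpowers (y ^ (r - 1))
    have hDN : D ≤ Subgroup.zpowers y := Subgroup.zpowers_le.2 (Subgroup.pow_mem _ (Subgroup.mem_zpowers y) _)
    have hDn : D.Normal := by
      rw [← Subgroup.normalizer_eq_top_iff, eq_top_iff, ← hclosure, Subgroup.closure_le]
      intro g hg
      refine Subgroup.mem_normalizer_iff_map_conj_eq.2
        (Subgroup.eq_of_le_of_card_ge ?_ (by
          rw [Nat.card_congr (Subgroup.equivMapOfInjective _ _ (MulAut.conj g).injective).symm.toEquiv]))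
      rintro _ ⟨d, ⟨k, rfl⟩, rfl⟩
      change g * (y ^ (r - 1)) ^ k * g⁻¹ ∈ D
      rw [← conj_zpow]
      refine Subgroup.zpow_mem _ ?_ k
      rw [← conj_pow]
      obtain ⟨a, ha⟩ := hyn.conj_mem y (Subgroup.mem_zpowers y) g
      exact ⟨a, by simp only at ha ⊢; rw [← ha, ← zpow_natCast, ← zpow_natCast, ← zpow_mul, ← zpow_mul, mul_comm]⟩
    have hle : commutator G ≤ D := by
      rw [← Subgroup.Normal.quotient_commutative_iff_commutator_le]
      have hgen : ∀ a ∈ ({x, y} : Set G), ∀ b ∈ ({x, y} : Set G),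
          (QuotientGroup.mk' D a) * QuotientGroup.mk' D b = QuotientGroup.mk' D b * QuotientGroup.mk' D a := by
        have key : QuotientGroup.mk' D x * QuotientGroup.mk' D y = QuotientGroup.mk' D y * QuotientGroup.mk' D x := by
          rw [← map_mul, ← map_mul]
          refine (QuotientGroup.eq).2 ?_
          have e : (x * y)⁻¹ * (y * x) = y ^ (r - 1) := by
            calc (x * y)⁻¹ * (y * x) = y⁻¹ * (x⁻¹ * y * x) := by group
              _ = y⁻¹ * y ^ (r - 1 + 1) := by rw [hxy]; congr 2; omega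
              _ = y ^ (r - 1) := by rw [pow_succ', inv_mul_cancel_left]
          rw [e]; exact Subgroup.mem_zpowers _
        rintro a (rfl | rfl) b (rfl | rfl)
        exacts [rfl, key, key.symm, rfl]
      have hc : IsMulCommutative (Subgroup.closure ((QuotientGroup.mk' D) '' {x, y})) := by
        refine Subgroup.isMulCommutative_closure ?_
        rintro _ ⟨a, ha, rfl⟩ _ ⟨b, hb, rfl⟩
        exact hgen a ha b hb
      refine ⟨⟨fun a b => ?_⟩⟩
      have hall : ∀ c : G ⧸ D, c ∈ Subgroup.closure ((QuotientGroup.mk' D) '' {x, y}) := by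
        intro c
        rw [← MonoidHom.map_closure, hclosure]
        obtain ⟨g, rfl⟩ := QuotientGroup.mk'_surjective D c
        exact Subgroup.mem_map_of_mem _ trivial
      exact congrArg Subtype.val (hc.is_comm.comm ⟨a, hall a⟩ ⟨b, hall b⟩)
    have hyD : orderOf (y ^ (r - 1)) = orderOf y := by
      refine Nat.dvd_antisymm (orderOf_pow_dvd _) ?_
      have := Subgroup.card_dvd_of_le (hy.le.trans hle)
      rwa [Nat.card_zpowers, Nat.card_zpowers] at this
    rw [orderOf_pow] at hyD
    rcases Nat.eq_or_lt_of_le (Nat.le_of_dvd hm (Nat.gcd_dvd_left (orderOf y) (r - 1))) with h | h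
    · rw [h, Nat.div_self hm] at hyD
      simp [← hyD]
    · have hd := Nat.gcd_dvd_left (orderOf y) (r - 1)
      have hg : 0 < Nat.gcd (orderOf y) (r - 1) := Nat.gcd_pos_of_pos_left _ hm
      have h2 := Nat.div_mul_cancel hd
      rw [hyD] at h2
      have h3 : Nat.gcd (orderOf y) (r - 1) = 1 := by
        exact (mul_eq_left₀ hm.ne').1 h2
      exact Nat.Coprime.symm h3
  · have hiter : ∀ k : ℕ, (x ^ k)⁻¹ * y * x ^ k = y ^ (r ^ k) := by
      intro k
      induction k with
      | zero => simp
      | succ k ih =>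
        calc (x ^ (k + 1))⁻¹ * y * x ^ (k + 1) = x⁻¹ * ((x ^ k)⁻¹ * y * x ^ k) * x := by
              rw [pow_succ]; group
          _ = (x⁻¹ * y * x⁻¹⁻¹) ^ (r ^ k) := by rw [ih, conj_pow, inv_inv]
          _ = y ^ (r ^ (k + 1)) := by rw [inv_inv, hxy, ← pow_mul, pow_succ']
    have := hiter (orderOf x)
    rw [pow_orderOf_eq_one, inv_one, one_mul, mul_one] at this
    exact (pow_inj_mod.1 (this.symm.trans (pow_one y).symm))

end Cfsg.Agent.Lib.Spectrum.ZGroupGens
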